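import Mathlib
import Cfsg.Agent.Lib.Lead.Hall

set_option autoImplicit false

namespace Cfsg.Agent.Lib.Lead

open scoped Pointwise commutatorElement

universe u

/-- Hall's theorem, conjugacy. -/
theorem hall_conj : ∀ (N : ℕ) (G : Type u) [Group G] [Finite G] [Group.IsSolvable G] (m n : ℕ),
    Nat.card G = N → Nat.card G = m * n → m.Coprime n → ∀ H K : Subgroup G,
    Nat.card H = m → Nat.card K = m → ∃ g : G, MulAut.conj g • H = K := by
  intro N
  induction N using Nat.strong_induction_on with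
  | _ N ih =>
  intro G _ _ _ m n hN hG hmn H K hH hK
  by_cases hm1 : m = 1
  · refine ⟨1, ?_⟩
    have hH1 : H = ⊥ := Subgroup.card_eq_one.mp (hH.trans hm1)
    have hK1 : K = ⊥ := Subgroup.card_eq_one.mp (hK.trans hm1)
    rw [hH1, hK1]
    ext x
    rw [mem_conj_smul]
    simp
  have h0 : 0 < m * n := by rw [← hG]; exact Nat.card_pos
  have hm0 : m ≠ 0 := by rintro rfl; simp at h0
  have hn0 : n ≠ 0 := by rintro rfl; simp at h0
  have hGnt : Nontrivial G := by
    rw [← Finite.one_lt_card_iff_nontrivial, hG]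
    have h2 : 2 ≤ m := by omega
    have h3 : 1 ≤ n := by omega
    nlinarith
  have hidx : ∀ L : Subgroup G, Nat.card L = m → L.index = n := by
    intro L hL
    have h1 := Subgroup.card_mul_index L
    rw [hL, hG] at h1
    exact Nat.eq_of_mul_eq_mul_left (Nat.pos_of_ne_zero hm0) h1
  obtain ⟨p, M, a, hp, hMn, hMp, hMne, ha, hq, hcase⟩ := hall_setup G m n hG hmn
  haveI : Fact p.Prime := ⟨hp⟩
  have hMconj : ∀ g : G, MulAut.conj g • M = M := fun g =>
    conj_smul_eq_of_le_normalizer (by rw [Subgroup.normalizer_eq_top]; trivial)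
  rcases hcase with ⟨m', rfl, hcard, hcop, hpn⟩ | ⟨n', rfl, hcard, hcop, hpm'⟩
  · -- `M ≤ H` and `M ≤ K`
    have hMle : ∀ L : Subgroup G, Nat.card L = p ^ a * m' → M ≤ L := by
      intro L hL
      obtain ⟨g, hg⟩ := exists_conj_le_of_not_dvd_index M L hMp (by rw [hidx L hL]; exact hpn)
      rw [hMconj g] at hg
      exact hg
    have hMH := hMle H hH
    have hMK := hMle K hK
    have hidxmap : ∀ L : Subgroup G, M ≤ L → (L.map (QuotientGroup.mk' M)).index = L.index := by
      intro L hL
      rw [Subgroup.index_map, QuotientGroup.ker_mk', QuotientGroup.range_mk', Subgroup.index_top,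
        mul_one, sup_eq_left.mpr hL]
    have hcardHbar : Nat.card (G ⧸ M) = Nat.card (H.map (QuotientGroup.mk' M)) * n := by
      have h1 := Subgroup.card_mul_index (H.map (QuotientGroup.mk' M))
      rw [hidxmap H hMH, hidx H hH] at h1
      exact h1.symm
    have hcopbar : (Nat.card (H.map (QuotientGroup.mk' M))).Coprime n :=
      Nat.Coprime.coprime_dvd_left ((Subgroup.card_map_dvd H _).trans (by rw [hH])) hmn
    obtain ⟨gbar, hgbar⟩ := ih _ (by rw [← hN]; exact hq) (G ⧸ M) _ n rfl hcardHbar hcopbar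
      (H.map (QuotientGroup.mk' M)) (K.map (QuotientGroup.mk' M)) rfl
      (card_map_mk_eq_of_le M H K hMH hMK (hK.trans hH.symm))
    obtain ⟨g, rfl⟩ := QuotientGroup.mk'_surjective M gbar
    have h2 := conj_sup_eq_of_map_eq M H K g hgbar
    refine ⟨g, ?_⟩
    have e1 : K ⊔ M = K := sup_eq_left.mpr hMK
    have e2 : MulAut.conj g • H ⊔ M = MulAut.conj g • H := by
      apply sup_eq_left.mpr
      intro x hx
      rw [mem_conj_smul]
      apply hMH
      have h6 := hMn.conj_mem x hx g⁻¹
      rw [inv_inv] at h6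
      exact h6
    rw [e1, e2] at h2
    exact h2
  · have hcopMH : ∀ L : Subgroup G, Nat.card L = m → L ⊓ M = ⊥ := by
      intro L hL
      exact disjoint_iff.mp (Subgroup.disjoint_of_coprime_natCard (by rw [hL, ha]; exact hpm'.symm))
    obtain ⟨gbar, hgbar⟩ := ih _ (by rw [← hN]; exact hq) (G ⧸ M) m n' rfl hcard hcop
      (H.map (QuotientGroup.mk' M)) (K.map (QuotientGroup.mk' M))
      (by rw [card_map_mk_of_disjoint M H (hcopMH H hH), hH])
      (by rw [card_map_mk_of_disjoint M K (hcopMH K hK), hK])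
    obtain ⟨g, rfl⟩ := QuotientGroup.mk'_surjective M gbar
    have h2 := conj_sup_eq_of_map_eq M H K g hgbar
    obtain ⟨x, _, hx2⟩ := szc M (MulAut.conj g • H) K
      (by rw [Subgroup.normalizer_eq_top]; exact le_top) (by rw [h2]; exact le_sup_left)
      (by rw [card_conj_smul, hK, hH]) (by rw [card_conj_smul, ha, hH]; exact hpm')
      (Or.inl inferInstance)
    exact ⟨x * g, by rw [conj_mul_smul, hx2]⟩

/-- Hall's theorem, containment. -/
theorem hall_le : ∀ (N : ℕ) (G : Type u) [Group G] [Finite G] [Group.IsSolvable G] (m n : ℕ),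
    Nat.card G = N → Nat.card G = m * n → m.Coprime n → ∀ K : Subgroup G,
    (Nat.card K).Coprime n → ∃ H : Subgroup G, Nat.card H = m ∧ K ≤ H := by
  intro N
  induction N using Nat.strong_induction_on with
  | _ N ih =>
  intro G _ _ _ m n hN hG hmn K hK
  by_cases hG1 : Nat.card G = 1
  · refine ⟨⊤, ?_, le_top⟩
    rw [Subgroup.card_top, hG1]
    rw [hG1] at hG
    exact (Nat.eq_one_of_mul_eq_one_right hG.symm).symm
  have hGnt : Nontrivial G := by
    rw [← Finite.one_lt_card_iff_nontrivial]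
    have h0 : 0 < Nat.card G := Nat.card_pos
    omega
  obtain ⟨p, M, a, hp, hMn, hMp, hMne, ha, hq, hcase⟩ := hall_setup G m n hG hmn
  haveI : Fact p.Prime := ⟨hp⟩
  rcases hcase with ⟨m', rfl, hcard, hcop, hpn⟩ | ⟨n', rfl, hcard, hcop, hpm'⟩
  · obtain ⟨Hbar, hHbar, hKH⟩ := ih _ (by rw [← hN]; exact hq) (G ⧸ M) m' n rfl hcard hcop
      (K.map (QuotientGroup.mk' M)) (Nat.Coprime.coprime_dvd_left (Subgroup.card_map_dvd K _) hK)
    refine ⟨Hbar.comap (QuotientGroup.mk' M), ?_, Subgroup.map_le_iff_le_comap.mp hKH⟩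
    rw [card_comap_mk', hHbar, ha, mul_comm]
  · have hKn' : (Nat.card K).Coprime n' := Nat.Coprime.coprime_dvd_right (dvd_mul_left _ _) hK
    have hKpa : (Nat.card K).Coprime (p ^ a) := Nat.Coprime.coprime_dvd_right (dvd_mul_right _ _) hK
    obtain ⟨Hbar, hHbar, hKH⟩ := ih _ (by rw [← hN]; exact hq) (G ⧸ M) m n' rfl hcard hcop
      (K.map (QuotientGroup.mk' M)) (Nat.Coprime.coprime_dvd_left (Subgroup.card_map_dvd K _) hKn')
    have hLcard : Nat.card (Hbar.comap (QuotientGroup.mk' M)) = m * p ^ a := by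
      rw [card_comap_mk', hHbar, ha]
    have hKL : K ≤ Hbar.comap (QuotientGroup.mk' M) := Subgroup.map_le_iff_le_comap.mp hKH
    by_cases hLtop : Hbar.comap (QuotientGroup.mk' M) = ⊤
    · -- `M` is a normal Hall subgroup of `G`
      have hGcard : Nat.card G = m * p ^ a := by
        rw [← hLcard, hLtop, Subgroup.card_top]
      have hMidx : M.index = m := by
        have h1 := Subgroup.card_mul_index M
        rw [ha, hGcard, mul_comm] at h1
        exact Nat.eq_of_mul_eq_mul_right (pow_pos hp.pos a) h1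
      obtain ⟨H0, hH0⟩ := Subgroup.exists_right_complement'_of_coprime (N := M)
        (by rw [ha, hMidx]; exact hpm')
      have hH0card : Nat.card H0 = m := by rw [← hMidx]; exact hH0.symm.index_eq_card.symm
      have hA : K ≤ ((K ⊔ M) ⊓ H0) ⊔ M := by
        intro k hk
        have hkmem : k ∈ (M ⊔ H0 : Subgroup G) := by rw [hH0.sup_eq_top]; trivial
        rw [← SetLike.mem_coe, Subgroup.normal_mul, Set.mem_mul] at hkmem
        obtain ⟨x, hx, h, hh, rfl⟩ := hkmem
        refine Subgroup.mul_mem _ (Subgroup.mem_sup_right hx) (Subgroup.mem_sup_left ⟨?_, hh⟩)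
        have h3 : h = x⁻¹ * (x * h) := by group
        rw [h3]
        exact Subgroup.mul_mem _ (Subgroup.mem_sup_right (M.inv_mem hx)) (Subgroup.mem_sup_left hk)
      obtain ⟨x, _, hx2⟩ := exists_conj_le_of_sup_normal K M ((K ⊔ M) ⊓ H0) (by rw [ha]; exact hKpa)
        (Or.inr inferInstance) inf_le_left hA
      refine ⟨MulAut.conj x⁻¹ • H0, by rw [card_conj_smul, hH0card], ?_⟩
      intro k hk
      rw [mem_conj_smul, inv_inv]
      apply (hx2 _).2
      rw [mem_conj_smul]
      have h4 : x⁻¹ * (x * k * x⁻¹) * x = k := by group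
      rw [h4]; exact hk
    · -- induction inside `L`
      have hLlt : Nat.card (Hbar.comap (QuotientGroup.mk' M)) < Nat.card G := by
        by_contra hge
        push Not at hge
        exact hLtop (Subgroup.eq_top_of_card_eq _ (le_antisymm (Subgroup.card_le_card_group _) hge))
      have e1 : Nat.card (K.subgroupOf (Hbar.comap (QuotientGroup.mk' M))) = Nat.card K :=
        Nat.card_congr (Subgroup.subgroupOfEquivOfLe hKL).toEquiv
      obtain ⟨H', hH'card, hKH'⟩ := ih _ (by rw [← hN]; exact hLlt)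
        (↥(Hbar.comap (QuotientGroup.mk' M))) m (p ^ a) rfl hLcard hpm'.symm
        (K.subgroupOf (Hbar.comap (QuotientGroup.mk' M))) (by rw [e1]; exact hKpa)
      refine ⟨H'.map (Subgroup.subtype _), ?_, ?_⟩
      · rw [Subgroup.card_map_of_injective (Subgroup.subtype_injective _), hH'card]
      · intro k hk
        exact ⟨⟨k, hKL hk⟩, hKH' (by rw [Subgroup.mem_subgroupOf]; exact hk), rfl⟩

end Cfsg.Agent.Lib.Lead
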