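import Mathlib
import Cfsg.Agent.Lib.Lead.Hall2

set_option autoImplicit false

namespace Cfsg.Agent.Lib.Lead

open scoped Pointwise commutatorElement

theorem index_inf_of_coprime {G : Type*} [Group G] [Finite G] (H K : Subgroup G)
    (h : H.index.Coprime K.index) : (H ⊓ K).index = H.index * K.index := by
  apply le_antisymm Subgroup.index_inf_le
  apply Nat.le_of_dvd (Nat.pos_of_ne_zero Subgroup.index_ne_zero_of_finite)
  exact h.mul_dvd_of_dvd_of_dvd (Subgroup.index_dvd_of_le inf_le_left)
    (Subgroup.index_dvd_of_le inf_le_right)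

/-- A finite solvable group has a Sylow system. -/
theorem exists_sylow_system (G : Type*) [Group G] [Finite G] [Group.IsSolvable G] :
    ∃ S : (p : Nat.Primes) → Sylow (p : ℕ) G,
      ∀ p q : Nat.Primes, (S p : Set G) * (S q : Set G) = (S q : Set G) * (S p : Set G) := by
  classical
  obtain ⟨n, hn⟩ : ∃ n : ℕ, n = Nat.card G := ⟨_, rfl⟩
  have hn0 : n ≠ 0 := by rw [hn]; exact Nat.card_pos.ne'
  have hex : ∀ q : ℕ, ∃ H : Subgroup G, q.Prime → H.index = q ^ n.factorization q := by
    intro q
    by_cases hq : q.Prime
    · obtain ⟨H, hH⟩ := hall_exists _ G (n / q ^ n.factorization q) (q ^ n.factorization q) rfl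
        (by rw [mul_comm, ← hn]; exact (Nat.ordProj_mul_ordCompl_eq_self n q).symm)
        ((Nat.Coprime.pow_left _ (Nat.coprime_ordCompl hq hn0)).symm)
      refine ⟨H, fun _ => ?_⟩
      have h1 := Subgroup.card_mul_index H
      rw [hH, ← hn] at h1
      have h2 : n / q ^ n.factorization q * H.index =
          n / q ^ n.factorization q * q ^ n.factorization q := by
        rw [h1, mul_comm]; exact (Nat.ordProj_mul_ordCompl_eq_self n q).symm
      have hpos : 0 < n / q ^ n.factorization q := Nat.ordCompl_pos q hn0
      exact Nat.eq_of_mul_eq_mul_left hpos h2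
    · exact ⟨⊤, fun h => absurd h hq⟩
  choose Hn hHn using hex
  have hidx : ∀ s : Finset ℕ, (∀ q ∈ s, q.Prime) →
      (s.inf Hn).index = ∏ q ∈ s, q ^ n.factorization q := by
    intro s
    induction s using Finset.induction_on with
    | empty => intro _; simp
    | insert q s hqs ih =>
      intro hs
      have hq : q.Prime := hs q (Finset.mem_insert_self q s)
      have hs' : ∀ r ∈ s, r.Prime := fun r hr => hs r (Finset.mem_insert_of_mem hr)
      have hcop : (Hn q).index.Coprime (s.inf Hn).index := by
        rw [hHn q hq, ih hs']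
        apply Nat.Coprime.prod_right
        intro r hr
        apply Nat.Coprime.pow
        rw [Nat.coprime_primes hq (hs' r hr)]
        rintro rfl; exact hqs hr
      rw [Finset.inf_insert, Finset.prod_insert hqs, index_inf_of_coprime _ _ hcop, hHn q hq,
        ih hs']
  have hPprime : ∀ q ∈ n.primeFactors, q.Prime := fun q hq => Nat.prime_of_mem_primeFactors hq
  have hprod : ∏ q ∈ n.primeFactors, q ^ n.factorization q = n := by
    have h1 := Nat.prod_factorization_pow_eq_self hn0
    rw [Finsupp.prod, Nat.support_factorization] at h1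
    exact h1
  have key1 : ∀ p : ℕ, p.Prime →
      p ^ n.factorization p * ((n.primeFactors.erase p).inf Hn).index = n := by
    intro p hp
    rw [hidx _ (fun q hq => hPprime q (Finset.mem_of_mem_erase hq))]
    by_cases hpP : p ∈ n.primeFactors
    · rw [Finset.mul_prod_erase n.primeFactors (fun q => q ^ n.factorization q) hpP, hprod]
    · rw [Finset.erase_eq_of_notMem hpP, hprod]
      have h0 : n.factorization p = 0 := by
        apply Nat.factorization_eq_zero_of_not_dvd
        intro hd; exact hpP (Nat.mem_primeFactors.mpr ⟨hp, hd, hn0⟩)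
      rw [h0, pow_zero, one_mul]
  have hcardS : ∀ p : ℕ, p.Prime →
      Nat.card ((n.primeFactors.erase p).inf Hn : Subgroup G) = p ^ (Nat.card G).factorization p := by
    intro p hp
    have h1 := Subgroup.card_mul_index ((n.primeFactors.erase p).inf Hn)
    rw [← hn] at h1
    have h1' := h1.trans (key1 p hp).symm
    rw [← hn]
    exact Nat.eq_of_mul_eq_mul_right (Nat.pos_of_ne_zero Subgroup.index_ne_zero_of_finite) h1'
  have hT : ∀ p q : ℕ, p.Prime → q.Prime → p ≠ q →
      (((n.primeFactors.erase p).inf Hn : Subgroup G) : Set G) *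
        (((n.primeFactors.erase q).inf Hn : Subgroup G) : Set G) =
      ((((n.primeFactors.erase p).erase q).inf Hn : Subgroup G) : Set G) := by
    intro p q hp hq hne
    have hSpT : (n.primeFactors.erase p).inf Hn ≤ ((n.primeFactors.erase p).erase q).inf Hn :=
      Finset.inf_mono (Finset.erase_subset q _)
    have hSqT : (n.primeFactors.erase q).inf Hn ≤ ((n.primeFactors.erase p).erase q).inf Hn :=
      Finset.inf_mono (by
        intro r hr
        rw [Finset.mem_erase, Finset.mem_erase] at hr
        rw [Finset.mem_erase]
        exact ⟨hr.1, hr.2.2⟩)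
    have hcardT : Nat.card (((n.primeFactors.erase p).erase q).inf Hn : Subgroup G) =
        p ^ n.factorization p * q ^ n.factorization q := by
      have h1 : q ^ n.factorization q * (((n.primeFactors.erase p).erase q).inf Hn).index =
          ((n.primeFactors.erase p).inf Hn).index := by
        rw [hidx _ (fun r hr => hPprime r (Finset.mem_of_mem_erase (Finset.mem_of_mem_erase hr))),
          hidx _ (fun r hr => hPprime r (Finset.mem_of_mem_erase hr))]
        by_cases hqP : q ∈ n.primeFactors.erase p
        · rw [Finset.mul_prod_erase _ (fun r => r ^ n.factorization r) hqP]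
        · rw [Finset.erase_eq_of_notMem hqP]
          have h0 : n.factorization q = 0 := by
            apply Nat.factorization_eq_zero_of_not_dvd
            intro hd
            exact hqP (Finset.mem_erase.mpr ⟨hne.symm, Nat.mem_primeFactors.mpr ⟨hq, hd, hn0⟩⟩)
          rw [h0, pow_zero, one_mul]
      have h2 := key1 p hp
      rw [← h1] at h2
      have h3 := Subgroup.card_mul_index (((n.primeFactors.erase p).erase q).inf Hn)
      rw [← hn] at h3
      have h3' := h3.trans h2.symm
      have h4 : Nat.card (((n.primeFactors.erase p).erase q).inf Hn : Subgroup G) *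
          (((n.primeFactors.erase p).erase q).inf Hn).index =
          (p ^ n.factorization p * q ^ n.factorization q) *
            (((n.primeFactors.erase p).erase q).inf Hn).index := by rw [h3']; ring
      exact Nat.eq_of_mul_eq_mul_right (Nat.pos_of_ne_zero Subgroup.index_ne_zero_of_finite) h4
    have e1 : Nat.card (((n.primeFactors.erase p).inf Hn).subgroupOf
        (((n.primeFactors.erase p).erase q).inf Hn)) = p ^ n.factorization p := by
      rw [Nat.card_congr (Subgroup.subgroupOfEquivOfLe hSpT).toEquiv, hcardS p hp, hn]
    have e2 : Nat.card (((n.primeFactors.erase q).inf Hn).subgroupOf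
        (((n.primeFactors.erase p).erase q).inf Hn)) = q ^ n.factorization q := by
      rw [Nat.card_congr (Subgroup.subgroupOfEquivOfLe hSqT).toEquiv, hcardS q hq, hn]
    have hc : Subgroup.IsComplement'
        (((n.primeFactors.erase p).inf Hn).subgroupOf (((n.primeFactors.erase p).erase q).inf Hn))
        (((n.primeFactors.erase q).inf Hn).subgroupOf
          (((n.primeFactors.erase p).erase q).inf Hn)) := by
      apply Subgroup.isComplement'_of_coprime
      · rw [e1, e2, hcardT]
      · rw [e1, e2]; exact Nat.Coprime.pow _ _ ((Nat.coprime_primes hp hq).mpr hne)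
    apply Set.Subset.antisymm
    · rintro x ⟨a, ha, b, hb, rfl⟩
      exact Subgroup.mul_mem _ (hSpT ha) (hSqT hb)
    · intro t ht
      have h5 := (Subgroup.isComplement'_def.mp hc).mul_eq
      have h6 : (⟨t, ht⟩ : (((n.primeFactors.erase p).erase q).inf Hn : Subgroup G)) ∈
          (Set.univ : Set (((n.primeFactors.erase p).erase q).inf Hn : Subgroup G)) := trivial
      rw [← h5] at h6
      obtain ⟨a, ha, b, hb, hab⟩ := h6
      exact ⟨a, ha, b, hb, congrArg Subtype.val hab⟩
  refine ⟨fun p => haveI : Fact (p : ℕ).Prime := ⟨p.2⟩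
    Sylow.ofCard ((n.primeFactors.erase p).inf Hn) (hcardS p p.2), ?_⟩
  intro p q
  by_cases hpq : p = q
  · subst hpq; rfl
  have hpq' : (p : ℕ) ≠ (q : ℕ) := fun h => hpq (Subtype.ext h)
  show (((n.primeFactors.erase p).inf Hn : Subgroup G) : Set G) *
      (((n.primeFactors.erase q).inf Hn : Subgroup G) : Set G) =
    (((n.primeFactors.erase q).inf Hn : Subgroup G) : Set G) *
      (((n.primeFactors.erase p).inf Hn : Subgroup G) : Set G)
  rw [hT p q p.2 q.2 hpq', hT q p q.2 p.2 hpq'.symm, Finset.erase_right_comm]

end Cfsg.Agent.Lib.Lead
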