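import Mathlib
import Cfsg.Prelude.Def_Transfer
import Cfsg.Agent.Lib.Lead.CharQuot
import Cfsg.Agent.Lib.Lead.CharCentral
import Cfsg.Agent.Lib.Lead.CharFullyRam
import Cfsg.Agent.Lib.Lead.CharBasic
import Cfsg.Agent.Lib.Lead.CharInt
import Cfsg.Agent.Lib.Lead.CharGal2

set_option autoImplicit false

namespace Cfsg.Agent.Lib.Lead

theorem extraspecial_nonlinear {P : Type*} [Group P] [Finite P] (p : ℕ) [Fact p.Prime]
    (hP : Cfsg.IsExtraspecial p P) (χ : P → ℂ) (hχ : Cfsg.IsIrrCharacter P χ) (h1 : χ 1 ≠ 1) :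
    (∀ x : P, x ∉ Subgroup.center P → χ x = 0) ∧
      (∀ z ∈ Subgroup.center P, ‖χ z‖ = ‖χ 1‖) := by
  classical
  haveI := Fintype.ofFinite P
  obtain ⟨⟨hpg, hfrat, hcomm⟩, hZcard⟩ := hP
  obtain ⟨n, ρ, hρ, rfl⟩ := hχ
  haveI := hρ
  have hfin : (Module.finrank ℂ (Fin n → ℂ) : ℂ) = ρ.character 1 :=
    (Representation.char_one ρ).symm
  have hi : ∀ z ∈ Subgroup.center P, z ≠ 1 → ρ.character z ≠ ρ.character 1 := by
    intro z hz hz1 heq
    apply h1
    have hid : ρ z = LinearMap.id := (char_eq_finrank_iff ρ z).mp (by rw [heq, hfin])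
    have hzp : Subgroup.zpowers z = Subgroup.center P := by
      apply Subgroup.eq_of_le_of_card_ge (Subgroup.zpowers_le.mpr hz)
      rw [hZcard, Nat.card_zpowers]
      have hdvd : orderOf z ∣ p := by
        rw [← hZcard]
        exact Subgroup.orderOf_dvd_natCard _ hz
      rcases (Nat.dvd_prime (Fact.out : p.Prime)).mp hdvd with h | h
      · exact absurd (orderOf_eq_one_iff.mp h) hz1
      · rw [h]
    have hker : Subgroup.center P ≤ MonoidHom.ker ρ := by
      rw [← hzp, Subgroup.zpowers_le, MonoidHom.mem_ker, hid]; rfl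
    have hcommute : ∀ a b : P, ρ a * ρ b = ρ b * ρ a := by
      intro a b
      have hc : a * b * a⁻¹ * b⁻¹ ∈ MonoidHom.ker ρ := by
        apply hker
        rw [← hcomm, commutator_def]
        exact Subgroup.commutator_mem_commutator (Subgroup.mem_top a) (Subgroup.mem_top b)
      rw [MonoidHom.mem_ker] at hc
      have e : ρ (a * b) = ρ (a * b * a⁻¹ * b⁻¹) * ρ (b * a) := by
        rw [← map_mul]; congr 1; group
      rw [← map_mul, ← map_mul, e, hc, one_mul]
    have hnorm : ∀ a : P, ‖ρ.character a‖ = (Module.finrank ℂ (Fin n → ℂ) : ℝ) := by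
      intro a
      rw [norm_char_eq_iff]
      exact ⟨_, schur_scalar ρ (ρ a) (fun g => hcommute a g)⟩
    have hsum := sum_normSq_irr ρ
    rw [Finset.sum_congr rfl (fun g _ => by rw [hnorm g]), Finset.sum_const, Finset.card_univ,
      nsmul_eq_mul, ← Nat.card_eq_fintype_card] at hsum
    have hPpos : (0 : ℝ) < Nat.card P := by exact_mod_cast Nat.card_pos
    have hsq : (Module.finrank ℂ (Fin n → ℂ) : ℝ) ^ 2 = 1 :=
      mul_left_cancel₀ hPpos.ne' (hsum.trans (mul_one _).symm)
    have h5 : (Module.finrank ℂ (Fin n → ℂ) : ℝ) = 1 := by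
      have hnn : (0 : ℝ) ≤ Module.finrank ℂ (Fin n → ℂ) := Nat.cast_nonneg _
      nlinarith
    rw [← hfin]
    exact_mod_cast h5
  constructor
  · intro x hx
    rw [Subgroup.mem_center_iff] at hx
    push Not at hx
    obtain ⟨y, hy⟩ := hx
    have hc : y * x * y⁻¹ * x⁻¹ ∈ Subgroup.center P := by
      rw [← hcomm, commutator_def]
      exact Subgroup.commutator_mem_commutator (Subgroup.mem_top y) (Subgroup.mem_top x)
    have hc1 : y * x * y⁻¹ * x⁻¹ ≠ 1 := by
      intro h
      apply hy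
      have e : y * x = (y * x * y⁻¹ * x⁻¹) * (x * y) := by group
      rw [e, h, one_mul]
    have h2 : ρ.character x = ρ.character (x * (y * x * y⁻¹ * x⁻¹)) := by
      have e : x * (y * x * y⁻¹ * x⁻¹) = (x * y) * x * (x * y)⁻¹ := by group
      rw [e, Representation.char_conj]
    rw [char_mul_central ρ x _ hc] at h2
    by_contra hne
    apply hi _ hc hc1
    have h3 : ρ.character (y * x * y⁻¹ * x⁻¹) / (Module.finrank ℂ (Fin n → ℂ) : ℂ) = 1 :=
      mul_right_cancel₀ hne (h2.symm.trans (one_mul _).symm)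
    have hd0 : (Module.finrank ℂ (Fin n → ℂ) : ℂ) ≠ 0 := by
      intro h0; rw [h0, div_zero] at h3; exact zero_ne_one h3
    rw [div_eq_one_iff_eq hd0] at h3
    rw [h3, hfin]
  · intro z hz
    rw [Representation.char_one, Complex.norm_natCast, norm_char_eq_iff]
    exact ⟨_, rho_central ρ z hz⟩

theorem extraspecial_degree {P : Type*} [Group P] [Finite P] (p n : ℕ) [Fact p.Prime]
    (hP : Cfsg.IsExtraspecial p P) (hcard : Nat.card P = p ^ (2 * n + 1)) (χ : P → ℂ)
    (hχ : Cfsg.IsIrrCharacter P χ) (h1 : χ 1 ≠ 1) : χ 1 = (p : ℂ) ^ n := by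
  classical
  haveI := Fintype.ofFinite P
  obtain ⟨hvan, hnorm⟩ := extraspecial_nonlinear p hP χ hχ h1
  obtain ⟨d, hd0, hd⟩ := irr_one hχ
  have hsum := sum_normSq_irr' hχ
  have h2 : ∀ g : P, ‖χ g‖ ^ 2 = if g ∈ Subgroup.center P then (d : ℝ) ^ 2 else 0 := by
    intro g
    split_ifs with hg
    · rw [hnorm g hg, hd, Complex.norm_natCast]
    · rw [hvan g hg]; simp
  rw [Finset.sum_congr rfl (fun g _ => h2 g), Finset.sum_ite, Finset.sum_const,
    Finset.sum_const_zero, add_zero, nsmul_eq_mul] at hsum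
  have hc : (Finset.univ.filter (fun g : P => g ∈ Subgroup.center P)).card = p := by
    rw [← hP.2, Nat.card_eq_fintype_card, Fintype.card_subtype]
  rw [hc, hcard] at hsum
  have h3 : p * d ^ 2 = p ^ (2 * n + 1) := by exact_mod_cast hsum
  have hp := (Fact.out : p.Prime)
  have h4 : d ^ 2 = (p ^ n) ^ 2 := by
    have h5 : p * d ^ 2 = p * (p ^ n) ^ 2 := by rw [h3]; ring
    exact Nat.eq_of_mul_eq_mul_left hp.pos h5
  have h5 : d = p ^ n := Nat.pow_left_injective (by norm_num : (2 : ℕ) ≠ 0) h4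
  rw [hd, h5]; push_cast; rfl

theorem extraspecial_irr {P : Type*} [Group P] [Finite P] (p n : ℕ) [Fact p.Prime]
    (hP : Cfsg.IsExtraspecial p P) (hcard : Nat.card P = p ^ (2 * n + 1)) :
    (∀ χ : Cfsg.IrrCharacter P, (χ : P → ℂ) 1 = 1 ∨ (χ : P → ℂ) 1 = (p : ℂ) ^ n) ∧
      Nat.card {χ : Cfsg.IrrCharacter P // (χ : P → ℂ) 1 = (p : ℂ) ^ n} = p - 1 := by
  classical
  haveI := Fintype.ofFinite P
  haveI := Fintype.ofFinite (Cfsg.IrrCharacter P)
  have hp := (Fact.out : p.Prime)
  have hdich : ∀ χ : Cfsg.IrrCharacter P,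
      (χ : P → ℂ) 1 = 1 ∨ (χ : P → ℂ) 1 = (p : ℂ) ^ n := by
    intro χ
    by_cases h1 : (χ : P → ℂ) 1 = 1
    · exact Or.inl h1
    · exact Or.inr (extraspecial_degree p n hP hcard χ χ.2 h1)
  refine ⟨hdich, ?_⟩
  have hL : Nat.card {χ : Cfsg.IrrCharacter P // (χ : P → ℂ) 1 = 1} = p ^ (2 * n) := by
    rw [card_linear_irr, hP.1.2.2]
    have h := Subgroup.card_mul_index (Subgroup.center P)
    rw [hP.2, hcard] at h
    have h2 : p * (Subgroup.center P).index = p * p ^ (2 * n) := by rw [h]; ring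
    exact Nat.eq_of_mul_eq_mul_left hp.pos h2
  have hn : n ≠ 0 := by
    rintro rfl
    have hZtop : Subgroup.center P = ⊤ := by
      apply Subgroup.eq_top_of_card_eq
      rw [hP.2, hcard]; simp
    have hcb : commutator P = ⊥ := by
      rw [commutator_def, Subgroup.commutator_top_right_eq_bot_iff_le_center, hZtop]
    have h1 := hP.1.2.2
    rw [hcb] at h1
    have h2 := hP.2
    rw [← h1, Subgroup.card_bot] at h2
    exact hp.one_lt.ne h2
  choose d hd0 hd using fun χ : Cfsg.IrrCharacter P => irr_one χ.2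
  have hsq := sum_sq_degrees_nat d hd
  have hdval : ∀ χ : Cfsg.IrrCharacter P,
      d χ ^ 2 = if (χ : P → ℂ) 1 = 1 then 1 else p ^ (2 * n) := by
    intro χ
    split_ifs with h
    · rw [hd] at h
      have h2 : d χ = 1 := by exact_mod_cast h
      rw [h2]; rfl
    · have h2 := extraspecial_degree p n hP hcard χ χ.2 h
      rw [hd] at h2
      have h3 : d χ = p ^ n := by exact_mod_cast h2
      rw [h3]; ring
  rw [Finset.sum_congr rfl (fun χ _ => hdval χ), Finset.sum_ite, Finset.sum_const,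
    Finset.sum_const, smul_eq_mul, smul_eq_mul, mul_one, hcard] at hsq
  have hLc : (Finset.univ.filter (fun χ : Cfsg.IrrCharacter P => (χ : P → ℂ) 1 = 1)).card =
      p ^ (2 * n) := by
    rw [← hL, Nat.card_eq_fintype_card, Fintype.card_subtype]
  rw [hLc] at hsq
  have hM : (Finset.univ.filter (fun χ : Cfsg.IrrCharacter P => ¬ (χ : P → ℂ) 1 = 1)).card =
      p - 1 := by
    have hpp : 0 < p ^ (2 * n) := pow_pos hp.pos _
    have h3 : p ^ (2 * n) * (1 + (Finset.univ.filter
        (fun χ : Cfsg.IrrCharacter P => ¬ (χ : P → ℂ) 1 = 1)).card) = p ^ (2 * n) * p := by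
      rw [← pow_succ, ← hsq]; ring
    have h4 := Nat.eq_of_mul_eq_mul_left hpp h3
    omega
  rw [← hM, Nat.card_eq_fintype_card, Fintype.card_subtype]
  congr 1
  apply Finset.filter_congr
  intro χ _
  constructor
  · intro h h1
    rw [h1] at h
    have h2 : (1 : ℕ) = p ^ n := by exact_mod_cast h
    exact (Nat.one_lt_pow hn hp.one_lt).ne h2
  · intro h
    exact (hdich χ).resolve_left h

end Cfsg.Agent.Lib.Lead
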