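import Mathlib
import Cfsg.Agent.Lib.Lead.CharExtraspecial
import Cfsg.Agent.Lib.Lead.CharBurnside
import Cfsg.Agent.Lib.Lead.CharCliffordCorr
import Cfsg.Agent.Lib.Lead.CharArtin
import Cfsg.Agent.Lib.Lead.CharCenter

set_option autoImplicit false

namespace Cfsg.Agent.Lib.Lead

theorem isIrrCharacter_of_linear {G : Type*} [Group G] {χ : G → ℂ}
    (h : Cfsg.IsCharacter G χ) (h1 : χ 1 = 1) : Cfsg.IsIrrCharacter G χ := by
  obtain ⟨n, ρ, rfl⟩ := h
  refine ⟨n, ρ, isIrreducible_of_finrank_eq_one ρ ?_, rfl⟩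
  rw [Representation.char_one] at h1
  exact_mod_cast h1

theorem extraspecial_induced {P : Type*} [Group P] [Fintype P] (p n : ℕ) [Fact p.Prime]
    (hP : Cfsg.IsExtraspecial p P) (hcard : Nat.card P = p ^ (2 * n + 1)) (A : Subgroup P)
    (hA : Nat.card A = p ^ (n + 1)) (lam : A → ℂ)
    (hlam : Cfsg.IsCharacter A lam ∧ lam 1 = 1)
    (hZ : ∃ a : A, (a : P) ∈ Subgroup.center P ∧ lam a ≠ 1) :
    Cfsg.IsIrrCharacter P (Cfsg.indFun A lam) ∧
      ∀ x : P, x ∉ Subgroup.center P → Cfsg.indFun A lam x = 0 := by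
  classical
  haveI : Fintype A := Fintype.ofFinite A
  have hp := (Fact.out : p.Prime)
  have hlamirr := isIrrCharacter_of_linear hlam.1 hlam.2
  have hInd : Cfsg.IsCharacter P (Cfsg.indFun A lam) := isCharacter_indFun A lam hlam.1
  have hindex : A.index = p ^ n := by
    have h := Subgroup.card_mul_index A
    rw [hA, hcard] at h
    have h2 : p ^ (n + 1) * A.index = p ^ (n + 1) * p ^ n := by rw [h]; ring
    exact Nat.eq_of_mul_eq_mul_left (pow_pos hp.pos _) h2
  have hInd1 : Cfsg.indFun A lam 1 = (p : ℂ) ^ n := by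
    rw [indFun_one, hlam.2, mul_one, hindex]; push_cast; rfl
  obtain ⟨χ, hχ, hne⟩ := exists_constituent hInd (by
    rw [hInd1]; exact pow_ne_zero _ (by exact_mod_cast hp.ne_zero))
  have hχ1 : χ 1 ≠ 1 := by
    intro h1
    obtain ⟨a, haZ, ha1⟩ := hZ
    rw [frobenius_reciprocity A lam χ
      (isClassFunction_of_isCharacter (isCharacter_of_isIrrCharacter hχ))] at hne
    have hresirr : Cfsg.IsIrrCharacter A (fun h : A => χ h) := by
      apply isIrrCharacter_of_linear
        (isCharacter_restrict A (isCharacter_of_isIrrCharacter hχ))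
      show χ ((1 : A) : P) = 1
      rw [Subgroup.coe_one]; exact h1
    rw [classInner_irr hlamirr hresirr] at hne
    have heq : lam = fun h : A => χ h := by
      by_contra hcon
      rw [if_neg hcon] at hne
      exact hne rfl
    apply ha1
    rw [heq]
    show χ (a : P) = 1
    obtain ⟨f, hf⟩ := exists_hom_of_linear hχ h1
    have hk : (a : P) ∈ f.ker := by
      apply Abelianization.commutator_subset_ker f
      rw [hP.1.2.2]; exact haZ
    rw [hf]
    show ((f (a : P) : ℂˣ) : ℂ) = 1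
    rw [MonoidHom.mem_ker.mp hk]; rfl
  have hdeg := extraspecial_degree p n hP hcard χ hχ hχ1
  have heq := eq_of_constituent_of_degree_eq hInd hχ hne (by rw [hInd1, hdeg])
  rw [heq]
  exact ⟨hχ, (extraspecial_nonlinear p hP χ hχ hχ1).1⟩

end Cfsg.Agent.Lib.Lead
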