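import Mathlib
import Cfsg.Agent.S0243

/-! Recognising symmetric and alternating groups from a faithful action and an order count,
applied to `SL₂` and `PSL₂` on the projective line. -/

namespace Cfsg.Agent.Lib.Lead

theorem mulEquiv_alternating_of_injective {G α : Type*} [Group G] [Fintype α] [DecidableEq α]
    (φ : G →* Equiv.Perm α) (hφ : Function.Injective φ) (n : ℕ) (hα : Fintype.card α = n)
    (hG : 2 * Nat.card G = n.factorial) : Nonempty (G ≃* alternatingGroup (Fin n)) := by
  have hr : Nat.card φ.range = Nat.card G := Nat.card_range_of_injective hφ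
  have hpos : 0 < Nat.card G := by
    rcases Nat.eq_zero_or_pos (Nat.card G) with h | h
    · rw [h] at hG; exact absurd hG.symm (Nat.factorial_ne_zero n)
    · exact h
  have hidx : φ.range.index = 2 := by
    have h1 := φ.range.card_mul_index
    rw [hr, Nat.card_eq_fintype_card (α := Equiv.Perm α), Fintype.card_perm, hα, ← hG] at h1
    exact Nat.eq_of_mul_eq_mul_left hpos (by rw [h1, mul_comm])
  have h2 := Equiv.Perm.eq_alternatingGroup_of_index_eq_two hidx
  exact ⟨(MonoidHom.ofInjective hφ).trans ((MulEquiv.subgroupCongr h2).trans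
    (Equiv.altCongrHom (Fintype.equivFinOfCardEq hα)))⟩

theorem mulEquiv_perm_of_injective {G α : Type*} [Group G] [Fintype α] [DecidableEq α]
    (φ : G →* Equiv.Perm α) (hφ : Function.Injective φ) (n : ℕ) (hα : Fintype.card α = n)
    (hG : Nat.card G = n.factorial) : Nonempty (G ≃* Equiv.Perm (Fin n)) := by
  haveI : Finite G := Nat.finite_of_card_ne_zero (by rw [hG]; exact Nat.factorial_ne_zero n)
  have hbij : Function.Bijective φ := by
    rw [Nat.bijective_iff_injective_and_card]
    exact ⟨hφ, by rw [hG, Nat.card_eq_fintype_card, Fintype.card_perm, hα]⟩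
  exact ⟨(MulEquiv.ofBijective φ hbij).trans (Fintype.equivFinOfCardEq hα).permCongrHom⟩

open scoped LinearAlgebra.Projectivization

variable {F : Type*} [Field F] [Fintype F]

theorem card_proj_line : Nat.card (ℙ F (Fin 2 → F)) = Fintype.card F + 1 := by
  rw [Projectivization.card_of_finrank_two F (Fin 2 → F) (by simp), Nat.card_eq_fintype_card]

theorem psl2_alternating (n : ℕ) (hn : Fintype.card F + 1 = n)
    (hG : 2 * Nat.card (Matrix.ProjectiveSpecialLinearGroup (Fin 2) F) = n.factorial) :
    Nonempty (Matrix.ProjectiveSpecialLinearGroup (Fin 2) F ≃* alternatingGroup (Fin n)) := by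
  classical
  haveI : Finite (ℙ F (Fin 2 → F)) := by
    apply Nat.finite_of_card_ne_zero
    rw [card_proj_line]; omega
  letI : Fintype (ℙ F (Fin 2 → F)) := Fintype.ofFinite _
  refine mulEquiv_alternating_of_injective Projectivization.PSLAction.toPermHom
    Matrix.ProjectiveSpecialLinearGroup.toPermHom_injective n ?_ hG
  rw [← Nat.card_eq_fintype_card, card_proj_line, hn]

theorem card_center_sl (n : ℕ) (hn : 1 ≤ n) :
    Nat.card (Subgroup.center (Matrix.SpecialLinearGroup (Fin n) F)) =
      Nat.gcd n (Fintype.card F - 1) := by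
  classical
  rw [Nat.card_congr (Matrix.SpecialLinearGroup.center_equiv_rootsOfUnity'
    (⟨0, by omega⟩ : Fin n)).toEquiv]
  have e : rootsOfUnity (Fintype.card (Fin n)) F = (powMonoidHom n : Fˣ →* Fˣ).ker := by
    ext x
    rw [mem_rootsOfUnity, MonoidHom.mem_ker, powMonoidHom_apply, Fintype.card_fin]
  rw [e, IsCyclic.card_powMonoidHom_ker, Nat.card_units, Nat.card_eq_fintype_card,
    Nat.gcd_comm]

theorem sl2_perm (n : ℕ) (hn : Fintype.card F + 1 = n) (h2 : Fintype.card F = 2)
    (hG : Nat.card (Matrix.SpecialLinearGroup (Fin 2) F) = n.factorial) :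
    Nonempty (Matrix.SpecialLinearGroup (Fin 2) F ≃* Equiv.Perm (Fin n)) := by
  classical
  haveI : Finite (ℙ F (Fin 2 → F)) := by
    apply Nat.finite_of_card_ne_zero
    rw [card_proj_line]; omega
  letI : Fintype (ℙ F (Fin 2 → F)) := Fintype.ofFinite _
  refine mulEquiv_perm_of_injective
    (MulAction.toPermHom (Matrix.SpecialLinearGroup (Fin 2) F) (ℙ F (Fin 2 → F))) ?_ n ?_ hG
  · rw [← MonoidHom.ker_eq_bot_iff, Projectivization.SL_mulAction_ker]
    apply Subgroup.eq_bot_of_card_eq
    rw [card_center_sl 2 (by norm_num), h2]; rfl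
  · rw [← Nat.card_eq_fintype_card, card_proj_line, hn]

end Cfsg.Agent.Lib.Lead
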