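import Mathlib
import Cfsg.Prelude.Def_Characters
import Cfsg.Agent.Lib.Lead.CharQuot

set_option autoImplicit false

universe u v w

namespace Cfsg.Agent.Lib.Lead

open scoped ComplexConjugate

section equiv

variable {G : Type w} [Group G]

theorem char_prod {V : Type u} {W : Type v} [AddCommGroup V] [Module ℂ V] [FiniteDimensional ℂ V]
    [AddCommGroup W] [Module ℂ W] [FiniteDimensional ℂ W]
    (ρ : Representation ℂ G V) (σ : Representation ℂ G W) :
    (ρ.prod σ).character = ρ.character + σ.character := by
  funext g
  show LinearMap.trace ℂ (V × W) ((ρ g).prodMap (σ g)) = _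
  rw [LinearMap.trace_prodMap']
  rfl

theorem prod_equiv_of_isCompl {V : Type u} [AddCommGroup V] [Module ℂ V]
    (ρ : Representation ℂ G V) (U U' : Subrepresentation ρ)
    (h : IsCompl U.toSubmodule U'.toSubmodule) :
    Nonempty ((U.toRepresentation.prod U'.toRepresentation).Equiv ρ) := by
  refine ⟨Representation.Equiv.mk (Submodule.prodEquivOfIsCompl _ _ h) ?_⟩
  intro g
  apply LinearMap.ext
  rintro ⟨x, y⟩
  show ((Submodule.prodEquivOfIsCompl _ _ h) ((U.toRepresentation g x), (U'.toRepresentation g y)) : V) =
    ρ g ((Submodule.prodEquivOfIsCompl _ _ h) (x, y))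
  rw [Submodule.coe_prodEquivOfIsCompl', Submodule.coe_prodEquivOfIsCompl', map_add]
  rfl

theorem prod_equiv_congr {V₁ : Type u} {V₂ : Type u} {W₁ : Type v} {W₂ : Type v}
    [AddCommGroup V₁] [Module ℂ V₁] [AddCommGroup V₂] [Module ℂ V₂]
    [AddCommGroup W₁] [Module ℂ W₁] [AddCommGroup W₂] [Module ℂ W₂]
    {ρ₁ : Representation ℂ G V₁} {ρ₂ : Representation ℂ G V₂}
    {σ₁ : Representation ℂ G W₁} {σ₂ : Representation ℂ G W₂}
    (e₁ : ρ₁.Equiv σ₁) (e₂ : ρ₂.Equiv σ₂) : Nonempty ((ρ₁.prod ρ₂).Equiv (σ₁.prod σ₂)) := by
  refine ⟨Representation.Equiv.mk (LinearEquiv.prodCongr e₁.toLinearEquiv e₂.toLinearEquiv) ?_⟩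
  intro g
  apply LinearMap.ext
  rintro ⟨x, y⟩
  apply Prod.ext
  · exact Representation.IntertwiningMap.isIntertwining _ _ e₁.toIntertwiningMap g x
  · exact Representation.IntertwiningMap.isIntertwining _ _ e₂.toIntertwiningMap g y

/-- an irreducible constituent can be realised as a subrepresentation -/
theorem exists_subrep_equiv [Fintype G] {U : Type u} {W : Type v} [AddCommGroup U] [Module ℂ U]
    [FiniteDimensional ℂ U] [AddCommGroup W] [Module ℂ W] [FiniteDimensional ℂ W]
    (τ : Representation ℂ G U) [τ.IsIrreducible] (σ : Representation ℂ G W)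
    (hne : Cfsg.classInner σ.character τ.character ≠ 0) :
    ∃ T : Subrepresentation σ, Nonempty (τ.Equiv T.toRepresentation) := by
  classical
  haveI : Finite G := Finite.of_fintype G
  haveI : Invertible (Nat.card G : ℂ) :=
    invertibleOfNonzero (by exact_mod_cast Nat.card_pos.ne')
  have h1 := Representation.card_inv_mul_sum_char_mul_char_eq_finrank τ σ
  have h2 : Cfsg.classInner σ.character τ.character =
      (Module.finrank ℂ (Representation.IntertwiningMap τ σ) : ℂ) := by
    rw [← h1]
    unfold Cfsg.classInner
    congr 1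
    apply Finset.sum_congr rfl
    intro g _
    rw [char_inv]
  rw [h2] at hne
  have hpos : 0 < Module.finrank ℂ (Representation.IntertwiningMap τ σ) := by
    apply Nat.pos_of_ne_zero
    intro h0
    apply hne
    rw [h0]; simp
  obtain ⟨f, hf⟩ := Module.finrank_pos_iff_exists_ne_zero.mp hpos
  have hinj : Function.Injective f := by
    rcases Representation.IsIrreducible.injective_or_eq_zero f with h | h
    · exact h
    · exact absurd h hf
  refine ⟨f.range, ⟨Representation.Equiv.mk (LinearEquiv.ofInjective f.toLinearMap hinj) ?_⟩⟩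
  intro g
  apply LinearMap.ext
  intro x
  apply Subtype.ext
  exact Representation.IntertwiningMap.isIntertwining _ _ f g x

theorem equiv_of_char_eq_aux [Fintype G] : ∀ (n : ℕ) (V : Type u) (W : Type v)
    [AddCommGroup V] [Module ℂ V] [FiniteDimensional ℂ V] [AddCommGroup W] [Module ℂ W]
    [FiniteDimensional ℂ W] (ρ : Representation ℂ G V) (σ : Representation ℂ G W),
    Module.finrank ℂ V = n → ρ.character = σ.character → Nonempty (ρ.Equiv σ) := by
  classical
  haveI : Finite G := Finite.of_fintype G
  haveI : NeZero (Nat.card G : ℂ) := ⟨by exact_mod_cast Nat.card_pos.ne'⟩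
  intro n
  induction n using Nat.strong_induction_on with
  | _ n ih =>
  intro V W _ _ _ _ _ _ ρ σ hn hchar
  have hdim : Module.finrank ℂ W = Module.finrank ℂ V := by
    have h1 := congrFun hchar 1
    rw [Representation.char_one, Representation.char_one] at h1
    exact_mod_cast h1.symm
  by_cases hn0 : n = 0
  · rw [hn0] at hn
    haveI : Subsingleton V := Module.finrank_zero_iff.mp hn
    haveI : Subsingleton W := Module.finrank_zero_iff.mp (hdim.trans hn)
    refine ⟨Representation.Equiv.mk (LinearEquiv.ofSubsingleton V W) ?_⟩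
    intro g
    apply LinearMap.ext
    intro x
    exact Subsingleton.elim _ _
  · -- minimal nonzero subrepresentation
    have htop : (⊤ : Subrepresentation ρ) ≠ ⊥ := by
      intro h
      have h1 : (⊤ : Submodule ℂ V) = ⊥ := congrArg Subrepresentation.toSubmodule h
      have h2 : Module.finrank ℂ (⊤ : Submodule ℂ V) = 0 := by rw [h1, finrank_bot]
      rw [finrank_top, hn] at h2
      exact hn0 h2
    have hex : ∃ d, ∃ U : Subrepresentation ρ, U ≠ ⊥ ∧ Module.finrank ℂ U.toSubmodule = d :=
      ⟨_, ⊤, htop, rfl⟩
    obtain ⟨U, hUbot, hUd⟩ := Nat.find_spec hex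
    have hUmin : ∀ U' : Subrepresentation ρ, U' ≤ U → U' = ⊥ ∨ U' = U := by
      intro U' hU'
      by_cases hb : U' = ⊥
      · exact Or.inl hb
      · right
        have h1 : Nat.find hex ≤ Module.finrank ℂ U'.toSubmodule :=
          Nat.find_min' hex ⟨U', hb, rfl⟩
        apply Subrepresentation.toSubmodule_injective
        exact Submodule.eq_of_le_of_finrank_le hU' (by rw [hUd]; exact h1)
    haveI hτirr := isIrreducible_of_minimal ρ U hUbot hUmin
    obtain ⟨U', hU'⟩ := exists_isCompl U
    have hcompl : IsCompl U.toSubmodule U'.toSubmodule := by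
      constructor
      · rw [disjoint_iff]
        exact congrArg Subrepresentation.toSubmodule hU'.inf_eq_bot
      · rw [codisjoint_iff]
        exact congrArg Subrepresentation.toSubmodule hU'.sup_eq_top
    obtain ⟨eρ⟩ := prod_equiv_of_isCompl ρ U U' hcompl
    have hχρ : ρ.character = U.toRepresentation.character + U'.toRepresentation.character := by
      rw [← Representation.char_iso eρ, char_prod]
    -- the constituent occurs in σ
    have hne : Cfsg.classInner σ.character U.toRepresentation.character ≠ 0 := by
      rw [← hchar, hχρ, classInner_add_left,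
        classInner_irr_self (isIrrCharacter_of_rep U.toRepresentation)]
      obtain ⟨m, hm⟩ := classInner_char_irr_nat (isCharacter_of_rep U'.toRepresentation)
        (isIrrCharacter_of_rep U.toRepresentation)
      rw [hm]
      have h3 : (1 + m : ℕ) ≠ 0 := by omega
      have h4 : ((1 + m : ℕ) : ℂ) ≠ 0 := by exact_mod_cast h3
      push_cast at h4
      exact h4
    obtain ⟨T, ⟨eT⟩⟩ := exists_subrep_equiv U.toRepresentation σ hne
    obtain ⟨T', hT'⟩ := exists_isCompl T
    have hcomplT : IsCompl T.toSubmodule T'.toSubmodule := by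
      constructor
      · rw [disjoint_iff]
        exact congrArg Subrepresentation.toSubmodule hT'.inf_eq_bot
      · rw [codisjoint_iff]
        exact congrArg Subrepresentation.toSubmodule hT'.sup_eq_top
    obtain ⟨eσ⟩ := prod_equiv_of_isCompl σ T T' hcomplT
    have hχσ : σ.character = T.toRepresentation.character + T'.toRepresentation.character := by
      rw [← Representation.char_iso eσ, char_prod]
    have hχ' : U'.toRepresentation.character = T'.toRepresentation.character := by
      have h1 : U.toRepresentation.character + U'.toRepresentation.character =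
          T.toRepresentation.character + T'.toRepresentation.character := by
        rw [← hχρ, ← hχσ, hchar]
      rw [← Representation.char_iso eT] at h1
      exact add_left_cancel h1
    have hlt : Module.finrank ℂ U'.toSubmodule < n := by
      have h1 := Submodule.finrank_add_eq_of_isCompl hcompl
      have h2 : 0 < Module.finrank ℂ U.toSubmodule :=
        Nat.pos_of_ne_zero (fun h => hUbot (Subrepresentation.toSubmodule_injective
          (Submodule.finrank_eq_zero.mp h)))
      omega
    obtain ⟨e'⟩ := ih _ hlt U'.toSubmodule T'.toSubmodule U'.toRepresentation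
      T'.toRepresentation rfl hχ'
    obtain ⟨e2⟩ := prod_equiv_congr eT e'
    exact ⟨(eρ.symm.trans e2).trans eσ⟩

/-- Representations with equal characters are equivalent. -/
theorem equiv_of_char_eq [Finite G] {V : Type u} {W : Type v} [AddCommGroup V] [Module ℂ V]
    [FiniteDimensional ℂ V] [AddCommGroup W] [Module ℂ W] [FiniteDimensional ℂ W]
    (ρ : Representation ℂ G V) (σ : Representation ℂ G W) (h : ρ.character = σ.character) :
    Nonempty (ρ.Equiv σ) := by
  classical
  haveI : Fintype G := Fintype.ofFinite G
  exact equiv_of_char_eq_aux _ V W ρ σ rfl h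

end equiv

end Cfsg.Agent.Lib.Lead
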