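import Mathlib
import Cfsg.Agent.Lib.Lead.CharGal2

set_option autoImplicit false

namespace Cfsg.Agent.Lib.Lead

open scoped ComplexConjugate
open IntermediateField

/-- A finite system of exponents prime to `|G|` (one for each embedding of the cyclotomic
field) such that for every character `χ` and every `g` with `χ g ≠ 0` the sum of the
`‖χ (g ^ m)‖ ^ 2` is at least the number of exponents (arithmetic–geometric mean). -/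
theorem exists_galois_system (G : Type*) [Group G] [Finite G] :
    ∃ (ι : Type) (_ : Fintype ι) (m : ι → ℕ), 0 < Fintype.card ι ∧
      (∀ i, (m i).Coprime (Nat.card G)) ∧
      ∀ χ : G → ℂ, Cfsg.IsCharacter G χ → ∀ g : G, χ g ≠ 0 →
        (Fintype.card ι : ℝ) ≤ ∑ i, ‖χ (g ^ m i)‖ ^ 2 := by
  classical
  have hn : Nat.card G ≠ 0 := Nat.card_pos.ne'
  haveI : FiniteDimensional ℚ ℚ⟮zetaC (Nat.card G)⟯ :=
    adjoin.finiteDimensional (zetaC_integral (Nat.card G) hn)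
  choose m hm hmσ using fun σ : ℚ⟮zetaC (Nat.card G)⟯ →ₐ[ℚ] ℂ => emb_gen (Nat.card G) hn σ
  have hd0 : 0 < Fintype.card (ℚ⟮zetaC (Nat.card G)⟯ →ₐ[ℚ] ℂ) :=
    Fintype.card_pos_iff.mpr ⟨(ℚ⟮zetaC (Nat.card G)⟯).val⟩
  refine ⟨ℚ⟮zetaC (Nat.card G)⟯ →ₐ[ℚ] ℂ, inferInstance, m, hd0, hm, ?_⟩
  rintro χ ⟨k, ρ, rfl⟩ g hnz
  obtain ⟨x, hx, hxint, hxσ⟩ := char_galois ρ g
  have hN := Algebra.norm_eq_prod_embeddings ℚ ℂ x
  obtain ⟨z, hz⟩ := IsIntegrallyClosed.isIntegral_iff.mp (Algebra.isIntegral_norm ℚ hxint)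
  have hx0 : x ≠ 0 := by
    intro h0
    apply hnz
    rw [← hx, h0]
    rfl
  have hz0 : z ≠ 0 := by
    rintro rfl
    rw [map_zero] at hz
    exact hx0 (Algebra.norm_eq_zero_iff.mp hz.symm)
  have hprod : (1 : ℝ) ≤ ∏ σ : ℚ⟮zetaC (Nat.card G)⟯ →ₐ[ℚ] ℂ, ‖σ x‖ ^ 2 := by
    rw [Finset.prod_pow, ← norm_prod, ← hN, ← hz]
    have h1 : ‖(algebraMap ℚ ℂ) ((algebraMap ℤ ℚ) z)‖ = |(z : ℝ)| := by
      have : (algebraMap ℚ ℂ) ((algebraMap ℤ ℚ) z) = ((z : ℝ) : ℂ) := by simp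
      rw [this, Complex.norm_real, Real.norm_eq_abs]
    rw [h1]
    have h2 : (1 : ℝ) ≤ |(z : ℝ)| := by
      have : (1 : ℤ) ≤ |z| := Int.one_le_abs hz0
      exact_mod_cast this
    nlinarith
  have hgm := Real.geom_mean_le_arith_mean (Finset.univ : Finset (ℚ⟮zetaC (Nat.card G)⟯ →ₐ[ℚ] ℂ))
    (fun _ => (1 : ℝ)) (fun σ => ‖σ x‖ ^ 2) (fun _ _ => zero_le_one)
    (by rw [Finset.sum_const, Finset.card_univ, nsmul_eq_mul, mul_one]; exact_mod_cast hd0)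
    (fun σ _ => by positivity)
  simp only [Real.rpow_one, one_mul, Finset.sum_const, Finset.card_univ, nsmul_eq_mul,
    mul_one] at hgm
  have h3 : (1 : ℝ) ≤ (∏ σ : ℚ⟮zetaC (Nat.card G)⟯ →ₐ[ℚ] ℂ, ‖σ x‖ ^ 2) ^
      ((Fintype.card (ℚ⟮zetaC (Nat.card G)⟯ →ₐ[ℚ] ℂ) : ℝ))⁻¹ :=
    Real.one_le_rpow hprod (by positivity)
  have h4 := h3.trans hgm
  have hdpos : (0 : ℝ) < Fintype.card (ℚ⟮zetaC (Nat.card G)⟯ →ₐ[ℚ] ℂ) := by
    exact_mod_cast hd0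
  rw [le_div_iff₀ hdpos, one_mul] at h4
  have h5 : ∑ σ : ℚ⟮zetaC (Nat.card G)⟯ →ₐ[ℚ] ℂ, ‖σ x‖ ^ 2 =
      ∑ σ : ℚ⟮zetaC (Nat.card G)⟯ →ₐ[ℚ] ℂ, ‖ρ.character (g ^ m σ)‖ ^ 2 := by
    apply Finset.sum_congr rfl
    intro σ _
    rw [hxσ σ (m σ) (hmσ σ)]
  rw [← h5]
  exact h4

end Cfsg.Agent.Lib.Lead
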