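import Mathlib
import Cfsg.Agent.Lib.Lead.CharGalSum
import Cfsg.Agent.Lib.Lead.CharFullyRam
import Cfsg.Prelude.Def_Blocks

set_option autoImplicit false

namespace Cfsg.Agent.Lib.Lead

open scoped ComplexConjugate

theorem charDegree_irr {G : Type*} [Group G] {χ : G → ℂ} (hχ : Cfsg.IsIrrCharacter G χ) :
    χ 1 = (Cfsg.charDegree χ : ℂ) ∧ Cfsg.charDegree χ ≠ 0 := by
  obtain ⟨n, hn0, hn⟩ := irr_one hχ
  have h : Cfsg.charDegree χ = n := by
    unfold Cfsg.charDegree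
    rw [hn]
    simp
  rw [h]
  exact ⟨hn, hn0⟩

/-- zeros of an irreducible character -/
theorem zeros_count {G : Type*} [Group G] [Fintype G] (χ : G → ℂ)
    (hχ : Cfsg.IsIrrCharacter G χ) (Zs Ns : Finset G)
    (hZs : ∀ g, g ∈ Zs ↔ ‖χ g‖ = (Cfsg.charDegree χ : ℝ)) (hNs : ∀ g, g ∈ Ns ↔ χ g = 0) :
    (Cfsg.charDegree χ ^ 2 - 1) * Zs.card ≤ Ns.card ∧
    ((∀ g : G, ‖χ g‖ = 0 ∨ ‖χ g‖ = 1 ∨ ‖χ g‖ = (Cfsg.charDegree χ : ℝ)) →
      (Cfsg.charDegree χ ^ 2 - 1) * Zs.card = Ns.card) := by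
  classical
  obtain ⟨hd1, hd0⟩ := charDegree_irr hχ
  generalize Cfsg.charDegree χ = d at hZs hd1 hd0 ⊢
  have hdpos : (1 : ℝ) ≤ d := by exact_mod_cast Nat.pos_of_ne_zero hd0
  have hdisj : Disjoint Zs Ns := by
    rw [Finset.disjoint_left]
    intro g hgZ hgN
    rw [hZs] at hgZ
    rw [hNs] at hgN
    rw [hgN, norm_zero] at hgZ
    linarith
  have hcard : ((Finset.univ \ (Zs ∪ Ns)).card : ℝ) + ((Zs.card : ℝ) + (Ns.card : ℝ)) =
      (Nat.card G : ℝ) := by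
    have h1 := Finset.card_sdiff_add_card_eq_card (Finset.subset_univ (Zs ∪ Ns))
    rw [Finset.card_union_of_disjoint hdisj, Finset.card_univ, ← Nat.card_eq_fintype_card] at h1
    exact_mod_cast h1
  have hsplit : ∀ F : G → ℝ, ∑ g, F g = ∑ g ∈ Finset.univ \ (Zs ∪ Ns), F g +
      (∑ g ∈ Zs, F g + ∑ g ∈ Ns, F g) := by
    intro F
    rw [← Finset.sum_union hdisj]
    exact (Finset.sum_sdiff (Finset.subset_univ (Zs ∪ Ns))).symm
  have hcast : (((d ^ 2 - 1 : ℕ) : ℝ)) = (d : ℝ) ^ 2 - 1 := by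
    have h1 : 1 ≤ d ^ 2 := Nat.one_le_pow _ _ (Nat.pos_of_ne_zero hd0)
    rw [Nat.cast_sub h1]
    push_cast
    ring
  have hsum := sum_normSq_irr' hχ
  constructor
  · obtain ⟨ι, hι, m, hD, hm, hAM⟩ := exists_galois_system G
    have hchar := isCharacter_of_isIrrCharacter hχ
    have hT : ∑ g : G, ∑ i : ι, ‖χ (g ^ m i)‖ ^ 2 = (Fintype.card ι : ℝ) * (Nat.card G : ℝ) := by
      rw [Finset.sum_comm]
      have h1 : ∀ i : ι, ∑ g : G, ‖χ (g ^ m i)‖ ^ 2 = (Nat.card G : ℝ) := by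
        intro i
        rw [← hsum, ← Equiv.sum_comp (powCoprime (Nat.Coprime.symm (hm i)))
          (fun g => ‖χ g‖ ^ 2)]
        rfl
      rw [Finset.sum_congr rfl (fun i _ => h1 i), Finset.sum_const, Finset.card_univ,
        nsmul_eq_mul]
    rw [hsplit] at hT
    have hrest : ((Finset.univ \ (Zs ∪ Ns)).card : ℝ) * (Fintype.card ι : ℝ) ≤
        ∑ g ∈ Finset.univ \ (Zs ∪ Ns), ∑ i : ι, ‖χ (g ^ m i)‖ ^ 2 := by
      rw [← nsmul_eq_mul, ← Finset.sum_const]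
      apply Finset.sum_le_sum
      intro g hg
      apply hAM χ hchar g
      intro h0
      rw [Finset.mem_sdiff, Finset.mem_union] at hg
      exact hg.2 (Or.inr ((hNs g).mpr h0))
    have hZ : ∑ g ∈ Zs, ∑ i : ι, ‖χ (g ^ m i)‖ ^ 2 =
        (Zs.card : ℝ) * ((Fintype.card ι : ℝ) * (d : ℝ) ^ 2) := by
      rw [← nsmul_eq_mul, ← Finset.sum_const]
      apply Finset.sum_congr rfl
      intro g hg
      rw [← nsmul_eq_mul, ← Finset.card_univ, ← Finset.sum_const]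
      apply Finset.sum_congr rfl
      intro i _
      rw [hZs] at hg
      obtain ⟨n, ρ, hρ, rfl⟩ := hχ
      have hfin : (Module.finrank ℂ (Fin n → ℂ) : ℝ) = (d : ℝ) := by
        have h2 : ρ.character 1 = (Module.finrank ℂ (Fin n → ℂ) : ℂ) := Representation.char_one ρ
        rw [hd1] at h2
        exact_mod_cast h2.symm
      rw [← hfin] at hg ⊢
      rw [norm_char_eq_iff] at hg
      obtain ⟨ω, hω⟩ := hg
      have h3 : ‖ρ.character (g ^ m i)‖ = (Module.finrank ℂ (Fin n → ℂ) : ℝ) := by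
        rw [norm_char_eq_iff]
        refine ⟨ω ^ m i, ?_⟩
        rw [map_pow, hω, ← Module.End.one_eq_id, smul_pow, one_pow]
      rw [h3]
    have hN : 0 ≤ ∑ g ∈ Ns, ∑ i : ι, ‖χ (g ^ m i)‖ ^ 2 :=
      Finset.sum_nonneg (fun g _ => Finset.sum_nonneg (fun i _ => by positivity))
    have hDpos : (0 : ℝ) < Fintype.card ι := by exact_mod_cast hD
    have hfinal : ((d : ℝ) ^ 2 - 1) * (Zs.card : ℝ) ≤ (Ns.card : ℝ) := by
      have h5 : (Fintype.card ι : ℝ) * (((d : ℝ) ^ 2 - 1) * (Zs.card : ℝ)) ≤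
          (Fintype.card ι : ℝ) * (Ns.card : ℝ) := by
        nlinarith
      exact le_of_mul_le_mul_left h5 hDpos
    have h6 : (((d ^ 2 - 1) * Zs.card : ℕ) : ℝ) ≤ ((Ns.card : ℕ) : ℝ) := by
      push_cast
      rw [hcast]
      exact hfinal
    exact_mod_cast h6
  · intro hall
    rw [hsplit] at hsum
    have hrest : ∑ g ∈ Finset.univ \ (Zs ∪ Ns), ‖χ g‖ ^ 2 =
        ((Finset.univ \ (Zs ∪ Ns)).card : ℝ) := by
      rw [Finset.sum_congr rfl (g := fun _ => (1 : ℝ))]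
      · rw [Finset.sum_const, nsmul_eq_mul, mul_one]
      · intro g hg
        rw [Finset.mem_sdiff, Finset.mem_union] at hg
        rcases hall g with h | h | h
        · exact absurd ((hNs g).mpr (norm_eq_zero.mp h)) (fun h' => hg.2 (Or.inr h'))
        · rw [h, one_pow]
        · exact absurd ((hZs g).mpr h) (fun h' => hg.2 (Or.inl h'))
    have hZ : ∑ g ∈ Zs, ‖χ g‖ ^ 2 = (Zs.card : ℝ) * (d : ℝ) ^ 2 := by
      rw [← nsmul_eq_mul, ← Finset.sum_const]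
      apply Finset.sum_congr rfl
      intro g hg
      rw [(hZs g).mp hg]
    have hN : ∑ g ∈ Ns, ‖χ g‖ ^ 2 = 0 := by
      apply Finset.sum_eq_zero
      intro g hg
      rw [(hNs g).mp hg]
      simp
    rw [hrest, hZ, hN] at hsum
    have hfinal : ((d : ℝ) ^ 2 - 1) * (Zs.card : ℝ) = (Ns.card : ℝ) := by linarith
    have h6 : (((d ^ 2 - 1) * Zs.card : ℕ) : ℝ) = ((Ns.card : ℕ) : ℝ) := by
      push_cast
      rw [hcast]
      exact hfinal
    exact_mod_cast h6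

end Cfsg.Agent.Lib.Lead
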