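import Mathlib
import Cfsg.Prelude.Def_Characters
import Cfsg.Agent.Lib.Lead.CharQuot

set_option autoImplicit false

namespace Cfsg.Agent.Lib.Lead

open scoped ComplexConjugate commutatorElement

section taketa

variable {G : Type*} [Group G]

/-- an induced linear character is constant on a normal subgroup lying in the kernel -/
theorem indFun_lam_of_normal [Fintype G] (H : Subgroup G) (lam : H →* ℂˣ) (N : Subgroup G)
    [hN : N.Normal] (hNH : ∀ n ∈ N, ∃ hn : n ∈ H, lam ⟨n, hn⟩ = 1) (g : G) (hg : g ∈ N) :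
    Cfsg.indFun H (fun h => (lam h : ℂ)) g = Cfsg.indFun H (fun h => (lam h : ℂ)) 1 := by
  show (Nat.card H : ℂ)⁻¹ * ∑ x : G, Cfsg.extendByZero H (fun h => (lam h : ℂ)) (x⁻¹ * g * x) =
    (Nat.card H : ℂ)⁻¹ * ∑ x : G, Cfsg.extendByZero H (fun h => (lam h : ℂ)) (x⁻¹ * 1 * x)
  congr 1
  apply Finset.sum_congr rfl
  intro x _
  have h1 : x⁻¹ * g * x ∈ N := by
    have := hN.conj_mem g hg x⁻¹
    rwa [inv_inv] at this
  obtain ⟨hn, hl⟩ := hNH _ h1
  have h2 : x⁻¹ * 1 * x = 1 := by group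
  rw [extendByZero_mem H _ hn, h2, extendByZero_mem H _ H.one_mem, hl]
  have h3 : (⟨1, H.one_mem⟩ : H) = 1 := rfl
  rw [h3, map_one]

/-- if the permutation character on cosets of `H` takes its degree at `g`, then `g ∈ H` -/
theorem mem_of_indFun_one_eq [Fintype G] (H : Subgroup G) (g : G)
    (h : Cfsg.indFun H (fun _ => (1 : ℂ)) g = Cfsg.indFun H (fun _ => (1 : ℂ)) 1) : g ∈ H := by
  classical
  by_contra hg
  have hne : (Nat.card H : ℂ) ≠ 0 := by exact_mod_cast Nat.card_pos.ne'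
  have h1 : ∀ x : G, Cfsg.extendByZero H (fun _ => (1 : ℂ)) (x⁻¹ * 1 * x) = 1 := by
    intro x
    have h2 : x⁻¹ * 1 * x = 1 := by group
    rw [h2, extendByZero_mem H _ H.one_mem]
  have h2 : ∀ x : G, Cfsg.extendByZero H (fun _ => (1 : ℂ)) (x⁻¹ * g * x) =
      if x⁻¹ * g * x ∈ H then 1 else 0 := by
    intro x
    by_cases hx : x⁻¹ * g * x ∈ H
    · rw [if_pos hx, extendByZero_mem H _ hx]
    · rw [if_neg hx, extendByZero_not_mem H _ hx]
  have h3 : (Nat.card H : ℂ)⁻¹ * ∑ x : G, Cfsg.extendByZero H (fun _ => (1 : ℂ)) (x⁻¹ * g * x) =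
    (Nat.card H : ℂ)⁻¹ * ∑ x : G, Cfsg.extendByZero H (fun _ => (1 : ℂ)) (x⁻¹ * 1 * x) := h
  rw [Finset.sum_congr rfl (fun x _ => h1 x), Finset.sum_congr rfl (fun x _ => h2 x),
    Finset.sum_boole, Finset.sum_const, Finset.card_univ, nsmul_eq_mul, mul_one] at h3
  have h4 := mul_left_cancel₀ (inv_ne_zero hne) h3
  have h5 : (Finset.univ.filter (fun x : G => x⁻¹ * g * x ∈ H)).card = Fintype.card G := by
    exact_mod_cast h4
  have h6 : Finset.univ.filter (fun x : G => x⁻¹ * g * x ∈ H) = Finset.univ :=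
    Finset.eq_univ_of_card _ h5
  have h7 : (1 : G) ∈ Finset.univ.filter (fun x : G => x⁻¹ * g * x ∈ H) := by
    rw [h6]; exact Finset.mem_univ _
  rw [Finset.mem_filter] at h7
  apply hg
  have h8 : (1 : G)⁻¹ * g * 1 = g := by group
  rw [← h8]
  exact h7.2

/-- a character all of whose constituents are trivial at `g` is trivial at `g` -/
theorem char_eq_of_constituents [Fintype G] {π : G → ℂ} (hπ : Cfsg.IsCharacter G π) (g : G)
    (h : ∀ ψ : G → ℂ, Cfsg.IsIrrCharacter G ψ → Cfsg.classInner π ψ ≠ 0 → ψ g = ψ 1) :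
    π g = π 1 := by
  classical
  haveI : Fintype (Cfsg.IrrCharacter G) := Fintype.ofFinite _
  obtain ⟨n, hn, hn'⟩ := isCharacter_expansion hπ
  have h1 : ∀ x : G, π x = ∑ φ : Cfsg.IrrCharacter G, (n φ : ℂ) * (φ : G → ℂ) x := by
    intro x
    conv_lhs => rw [hn]
    rw [Finset.sum_apply]
    rfl
  rw [h1, h1]
  apply Finset.sum_congr rfl
  intro φ _
  by_cases h0 : n φ = 0
  · rw [h0]; simp
  · have h2 : Cfsg.classInner π (φ : G → ℂ) ≠ 0 := by
      rw [hn' φ]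
      exact_mod_cast h0
    rw [h φ.1 φ.2 h2]

/-- two distinct constituents: degree bound -/
theorem degree_add_le_of_constituents [Fintype G] {π ψ₁ ψ₂ : G → ℂ} (hπ : Cfsg.IsCharacter G π)
    (h₁ : Cfsg.IsIrrCharacter G ψ₁) (h₂ : Cfsg.IsIrrCharacter G ψ₂) (hne : ψ₁ ≠ ψ₂)
    (hc₁ : Cfsg.classInner π ψ₁ ≠ 0) (hc₂ : Cfsg.classInner π ψ₂ ≠ 0) (a₁ a₂ b : ℕ)
    (e₁ : ψ₁ 1 = (a₁ : ℂ)) (e₂ : ψ₂ 1 = (a₂ : ℂ)) (eb : π 1 = (b : ℂ)) : a₁ + a₂ ≤ b := by
  classical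
  haveI : Fintype (Cfsg.IrrCharacter G) := Fintype.ofFinite _
  obtain ⟨n, hn, hn'⟩ := isCharacter_expansion hπ
  choose d hd0 hd using fun φ : Cfsg.IrrCharacter G => irr_one φ.2
  have h1 : (b : ℂ) = ((∑ φ, n φ * d φ : ℕ) : ℂ) := by
    rw [← eb]
    conv_lhs => rw [hn]
    rw [Finset.sum_apply]
    push_cast
    apply Finset.sum_congr rfl
    intro φ _
    show (n φ : ℂ) * (φ : G → ℂ) 1 = _
    rw [hd φ]
  have h2 : b = ∑ φ, n φ * d φ := by exact_mod_cast h1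
  have hne' : (⟨ψ₁, h₁⟩ : Cfsg.IrrCharacter G) ≠ ⟨ψ₂, h₂⟩ :=
    fun h => hne (congrArg Subtype.val h)
  have h3 : ∑ φ ∈ ({⟨ψ₁, h₁⟩, ⟨ψ₂, h₂⟩} : Finset (Cfsg.IrrCharacter G)), n φ * d φ ≤
      ∑ φ, n φ * d φ :=
    Finset.sum_le_sum_of_subset (Finset.subset_univ _)
  rw [Finset.sum_pair hne'] at h3
  have k1 : n ⟨ψ₁, h₁⟩ ≠ 0 := by
    intro h0
    apply hc₁
    have := hn' ⟨ψ₁, h₁⟩
    rw [h0] at this
    simpa using this
  have k2 : n ⟨ψ₂, h₂⟩ ≠ 0 := by
    intro h0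
    apply hc₂
    have := hn' ⟨ψ₂, h₂⟩
    rw [h0] at this
    simpa using this
  have d1 : d ⟨ψ₁, h₁⟩ = a₁ := by
    have := hd ⟨ψ₁, h₁⟩
    simp only at this
    rw [e₁] at this
    exact_mod_cast this.symm
  have d2 : d ⟨ψ₂, h₂⟩ = a₂ := by
    have := hd ⟨ψ₂, h₂⟩
    simp only at this
    rw [e₂] at this
    exact_mod_cast this.symm
  rw [d1, d2, ← h2] at h3
  have m1 : a₁ ≤ n ⟨ψ₁, h₁⟩ * a₁ := Nat.le_mul_of_pos_left a₁ (Nat.pos_of_ne_zero k1)
  have m2 : a₂ ≤ n ⟨ψ₂, h₂⟩ * a₂ := Nat.le_mul_of_pos_left a₂ (Nat.pos_of_ne_zero k2)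
  omega

/-- Taketa's theorem: M-groups are solvable. -/
theorem taketa [Fintype G]
    (hM : ∀ χ : G → ℂ, Cfsg.IsIrrCharacter G χ → ∃ (H : Subgroup G) (lam : H →* ℂˣ),
      χ = Cfsg.indFun H (fun h => (lam h : ℂ))) : Group.IsSolvable G := by
  classical
  haveI : Fintype (Cfsg.IrrCharacter G) := Fintype.ofFinite _
  have key : ∀ n : ℕ, ∀ χ : G → ℂ, Cfsg.IsIrrCharacter G χ → χ 1 = (n : ℂ) →
      ∃ k : ℕ, ∀ g ∈ derivedSeries G k, χ g = χ 1 := by
    intro n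
    induction n using Nat.strong_induction_on with
    | _ n ih =>
    intro χ hχ hχ1
    obtain ⟨H, lam, hlam⟩ := hM χ hχ
    haveI : Fintype H := Fintype.ofFinite _
    have hπ : Cfsg.IsCharacter G (Cfsg.indFun H (fun _ => (1 : ℂ))) :=
      isCharacter_indFun H _ isCharacter_one
    have hπ1 : Cfsg.indFun H (fun _ => (1 : ℂ)) 1 = (n : ℂ) := by
      rw [← hχ1, hlam, indFun_one, indFun_one, map_one]
      simp
    have hπtriv : Cfsg.classInner (Cfsg.indFun H (fun _ => (1 : ℂ))) (fun _ : G => (1 : ℂ)) ≠ 0 := by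
      rw [frobenius_reciprocity H _ _ (isClassFunction_of_irr (isIrrCharacter_one G))]
      have : Cfsg.classInner (fun _ : H => (1 : ℂ)) (fun h : H => (fun _ : G => (1 : ℂ)) h) = 1 :=
        classInner_one_one
      rw [this]
      exact one_ne_zero
    have hcons : ∀ ψ : Cfsg.IrrCharacter G, ∃ k : ℕ,
        Cfsg.classInner (Cfsg.indFun H (fun _ => (1 : ℂ))) (ψ : G → ℂ) ≠ 0 →
          ∀ g ∈ derivedSeries G k, (ψ : G → ℂ) g = (ψ : G → ℂ) 1 := by
      intro ψ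
      by_cases hc : Cfsg.classInner (Cfsg.indFun H (fun _ => (1 : ℂ))) (ψ : G → ℂ) ≠ 0
      · by_cases hψ1 : (ψ : G → ℂ) = fun _ => 1
        · exact ⟨0, fun _ g _ => by rw [hψ1]⟩
        · obtain ⟨m, -, hm⟩ := irr_one ψ.2
          have hlt : m + 1 ≤ n :=
            degree_add_le_of_constituents hπ ψ.2 (isIrrCharacter_one G) hψ1 hc hπtriv m 1 n hm
              (by simp) hπ1
          obtain ⟨k, hk⟩ := ih m (by omega) ψ.1 ψ.2 hm
          exact ⟨k, fun _ => hk⟩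
      · exact ⟨0, fun h => absurd h hc⟩
    choose k hk using hcons
    have hK : ∀ g ∈ derivedSeries G (Finset.univ.sup k), g ∈ H := by
      intro g hg
      apply mem_of_indFun_one_eq
      apply char_eq_of_constituents hπ
      intro ψ hψ hc
      exact hk ⟨ψ, hψ⟩ hc g
        (derivedSeries_antitone G (Finset.le_sup (f := k) (Finset.mem_univ _)) hg)
    have hK1 : ∀ g ∈ derivedSeries G (Finset.univ.sup k + 1),
        ∃ hn : g ∈ H, lam ⟨g, hn⟩ = 1 := by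
      have hle : derivedSeries G (Finset.univ.sup k + 1) ≤
          (MonoidHom.ker lam).map H.subtype := by
        rw [derivedSeries_succ, Subgroup.commutator_le]
        intro a ha b hb
        refine ⟨⁅(⟨a, hK a ha⟩ : H), ⟨b, hK b hb⟩⁆, ?_, rfl⟩
        rw [SetLike.mem_coe, MonoidHom.mem_ker, map_commutatorElement, commutatorElement_def]
        rw [mul_comm (lam ⟨a, hK a ha⟩), mul_assoc, mul_assoc, mul_inv_cancel_left, mul_inv_cancel]
      intro g hg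
      obtain ⟨x, hx, rfl⟩ := hle hg
      exact ⟨x.2, by
        have : (⟨(H.subtype x), x.2⟩ : H) = x := rfl
        rw [this]; exact hx⟩
    refine ⟨Finset.univ.sup k + 1, ?_⟩
    intro g hg
    haveI := derivedSeries_normal G (Finset.univ.sup k + 1)
    rw [hlam]
    exact indFun_lam_of_normal H lam _ hK1 g hg
  have hall : ∀ χ : Cfsg.IrrCharacter G, ∃ k : ℕ, ∀ g ∈ derivedSeries G k,
      (χ : G → ℂ) g = (χ : G → ℂ) 1 := by
    intro χ
    obtain ⟨n, -, hn⟩ := irr_one χ.2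
    exact key n χ.1 χ.2 hn
  choose k hk using hall
  rw [Group.isSolvable_def]
  refine ⟨Finset.univ.sup k, ?_⟩
  rw [eq_bot_iff]
  intro g hg
  rw [Subgroup.mem_bot]
  apply isConj_one_left.mp
  rw [isConj_iff_irr]
  intro χ
  exact hk χ g (derivedSeries_antitone G (Finset.le_sup (f := k) (Finset.mem_univ _)) hg)

end taketa

end Cfsg.Agent.Lib.Lead
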