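import Mathlib
import Cfsg.Agent.Lib.Helper7.ElemAbCount

set_option autoImplicit false

namespace Cfsg.Agent.Lib.Lead

open scoped commutatorElement

theorem class2_pow_left {P : Type*} [Group P] {x y c : P} (hc : y * x = c * x * y)
    (hcy : Commute c y) (n : ℕ) : y ^ n * x = c ^ n * x * y ^ n := by
  induction n with
  | zero => simp
  | succ n ih =>
    calc y ^ (n + 1) * x = y ^ n * (y * x) := by rw [pow_succ, mul_assoc]
      _ = y ^ n * (c * x * y) := by rw [hc]
      _ = (y ^ n * c) * x * y := by simp only [mul_assoc]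
      _ = (c * y ^ n) * x * y := by rw [(hcy.pow_right n).eq]
      _ = c * (y ^ n * x) * y := by simp only [mul_assoc]
      _ = c * (c ^ n * x * y ^ n) * y := by rw [ih]
      _ = c ^ (n + 1) * x * y ^ (n + 1) := by
          rw [pow_succ' c, pow_succ y]; simp only [mul_assoc]

theorem class2_mul_pow {P : Type*} [Group P] {x y c : P} (hc : y * x = c * x * y)
    (hcx : Commute c x) (hcy : Commute c y) (n : ℕ) :
    (x * y) ^ n = x ^ n * y ^ n * c ^ (n.choose 2) := by
  induction n with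
  | zero => simp
  | succ n ih =>
    have h1 := class2_pow_left hc hcy n
    have hk : ∀ k : ℕ, Commute (c ^ k) x := fun k => hcx.pow_left k
    have hk' : ∀ k : ℕ, Commute (c ^ k) y := fun k => hcy.pow_left k
    calc (x * y) ^ (n + 1) = (x * y) ^ n * (x * y) := pow_succ _ _
      _ = x ^ n * y ^ n * c ^ (n.choose 2) * (x * y) := by rw [ih]
      _ = x ^ n * y ^ n * (c ^ (n.choose 2) * x) * y := by simp only [mul_assoc]
      _ = x ^ n * y ^ n * (x * c ^ (n.choose 2)) * y := by rw [(hk _).eq]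
      _ = x ^ n * (y ^ n * x) * (c ^ (n.choose 2) * y) := by simp only [mul_assoc]
      _ = x ^ n * (c ^ n * x * y ^ n) * (y * c ^ (n.choose 2)) := by rw [h1, (hk' _).eq]
      _ = x ^ n * (c ^ n * x) * (y ^ n * y) * c ^ (n.choose 2) := by simp only [mul_assoc]
      _ = x ^ n * (x * c ^ n) * y ^ (n + 1) * c ^ (n.choose 2) := by rw [(hk n).eq, ← pow_succ]
      _ = x ^ (n + 1) * (c ^ n * y ^ (n + 1)) * c ^ (n.choose 2) := by
          rw [pow_succ x]; simp only [mul_assoc]
      _ = x ^ (n + 1) * (y ^ (n + 1) * c ^ n) * c ^ (n.choose 2) := by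
          rw [((hcy.pow_left n).pow_right (n + 1)).eq]
      _ = x ^ (n + 1) * y ^ (n + 1) * c ^ ((n + 1).choose 2) := by
          rw [show (n + 1).choose 2 = n + n.choose 2 by
            rw [Nat.choose_succ_succ, Nat.choose_one_right], pow_add c n (n.choose 2)]
          simp only [mul_assoc]

/-- in a group of class at most two commutators are central -/
theorem comm_central_of_class2 {P : Type*} [Group P]
    (h2 : ⁅commutator P, (⊤ : Subgroup P)⁆ = ⊥) (x y g : P) :
    Commute (y * x * y⁻¹ * x⁻¹) g := by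
  have h0 : y * x * y⁻¹ * x⁻¹ ∈ commutator P := by
    rw [commutator_def, ← commutatorElement_def]
    exact Subgroup.commutator_mem_commutator (Subgroup.mem_top y) (Subgroup.mem_top x)
  have h1 : ⁅y * x * y⁻¹ * x⁻¹, g⁆ ∈ ⁅commutator P, (⊤ : Subgroup P)⁆ :=
    Subgroup.commutator_mem_commutator h0 (Subgroup.mem_top g)
  rw [h2, Subgroup.mem_bot, commutatorElement_def] at h1
  show y * x * y⁻¹ * x⁻¹ * g = g * (y * x * y⁻¹ * x⁻¹)
  have h3 := congrArg (fun t => t * g * (y * x * y⁻¹ * x⁻¹)) h1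
  simp only [one_mul] at h3
  rw [← h3]
  group

theorem mul_pow_p_eq_one_of_class2 {P : Type*} [Group P] {p : ℕ} (hp : p.Prime) (hp2 : p ≠ 2)
    (h2 : ⁅commutator P, (⊤ : Subgroup P)⁆ = ⊥) (x y : P) (hx : x ^ p = 1) (hy : y ^ p = 1) :
    (x * y) ^ p = 1 := by
  obtain ⟨c, hcdef⟩ : ∃ c, c = y * x * y⁻¹ * x⁻¹ := ⟨_, rfl⟩
  have hc : y * x = c * x * y := by rw [hcdef]; group
  have hcx : Commute c x := hcdef ▸ comm_central_of_class2 h2 x y x
  have hcy : Commute c y := hcdef ▸ comm_central_of_class2 h2 x y y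
  have hcp : c ^ p = 1 := by
    have := class2_pow_left hc hcy p
    rw [hy, one_mul, mul_one] at this
    exact mul_eq_right.mp this.symm
  rw [class2_mul_pow hc hcx hcy p, hx, hy, one_mul, one_mul]
  obtain ⟨m, hm⟩ := hp.dvd_choose_self (by norm_num : 2 ≠ 0) (lt_of_le_of_ne hp.two_le (Ne.symm hp2))
  rw [hm, pow_mul, hcp, one_pow]

/-- S0096 -/
theorem pow_p_eq_one_of_class2 {P : Type*} [Group P] {p : ℕ} (hp : p.Prime) (hp2 : p ≠ 2)
    (h2 : ⁅commutator P, (⊤ : Subgroup P)⁆ = ⊥) (g : P)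
    (hg : g ∈ Subgroup.closure {x : P | x ^ p = 1}) : g ^ p = 1 := by
  refine Subgroup.closure_induction (p := fun g _ => g ^ p = 1) ?_ ?_ ?_ ?_ hg
  · intro x hx; exact hx
  · exact one_pow p
  · intro x y _ _ hx hy; exact mul_pow_p_eq_one_of_class2 hp hp2 h2 x y hx hy
  · intro x _ hx; rw [inv_pow, hx, inv_one]

theorem commutator_le_frattini_of_pGroup {P : Type*} [Group P] [Finite P] {p : ℕ} [Fact p.Prime]
    (hP : IsPGroup p P) : commutator P ≤ frattini P := by
  rw [commutator_eq_closure, Subgroup.closure_le]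
  rintro g ⟨g₁, g₂, rfl⟩
  have := Cfsg.Agent.Lib.Helper7.comm_mem_frattini hP g₂⁻¹ g₁⁻¹
  have e : (g₂⁻¹ * g₁⁻¹)⁻¹ * (g₁⁻¹ * g₂⁻¹) = ⁅g₁, g₂⁆ := by
    rw [commutatorElement_def]; group
  rw [e] at this
  exact this

end Cfsg.Agent.Lib.Lead
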