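import Mathlib

set_option autoImplicit false

namespace Cfsg.Agent.Lib.Lead

theorem sum_card_centralizer (G : Type*) [Group G] [Fintype G] :
    ∑ x : G, Nat.card (Subgroup.centralizer ({x} : Set G))
      = Nat.card (ConjClasses G) * Nat.card G := by
  rw [← card_comm_eq_card_conjClasses_mul_card, ← Nat.card_sigma]
  apply Nat.card_congr
  refine ⟨fun q => ⟨(q.1, q.2.1), ?_⟩, fun p => ⟨p.1.1, ⟨p.1.2, ?_⟩⟩, ?_, ?_⟩
  · have := q.2.2
    rw [Subgroup.mem_centralizer_singleton_iff] at this
    exact this.symm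
  · rw [Subgroup.mem_centralizer_singleton_iff]
    exact p.2.symm
  · intro q; rfl
  · intro p; rfl

theorem frob_class_number {G : Type*} [Group G] [Finite G] (K H : Subgroup G) [hKn : K.Normal]
    (hKH : K ⊓ H = ⊥) (hKH' : K ⊔ H = ⊤)
    (hfpf : ∀ h ∈ H, h ≠ 1 → ∀ k ∈ K, h * k = k * h → k = 1) :
    Nat.card H * Nat.card (ConjClasses G) + 1
      = Nat.card H * Nat.card (ConjClasses H) + Nat.card (ConjClasses K) := by
  classical
  haveI := Fintype.ofFinite G
  have F1 : ∀ g : G, ∃ u ∈ K, ∃ h ∈ H, g = u * h := by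
    intro g
    have hg : g ∈ K ⊔ H := by rw [hKH']; trivial
    rw [← SetLike.mem_coe, Subgroup.normal_mul] at hg
    obtain ⟨u, hu, h, hh, rfl⟩ := Set.mem_mul.mp hg
    exact ⟨u, hu, h, hh, rfl⟩
  have hinter : ∀ x, x ∈ K → x ∈ H → x = 1 := by
    intro x hxK hxH
    have : x ∈ K ⊓ H := ⟨hxK, hxH⟩
    rw [hKH] at this
    exact Subgroup.mem_bot.mp this
  have F2 : ∀ h ∈ H, h ≠ 1 → ∀ k ∈ K, ∃ u ∈ K, k * h = u⁻¹ * h * u := by
    intro h hh hh1 k hk
    let f : K → K := fun u => ⟨(u:G)⁻¹ * (h * u * h⁻¹),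
      K.mul_mem (K.inv_mem u.2) (hKn.conj_mem _ u.2 h)⟩
    have hf : Function.Injective f := by
      intro u v huv
      have h1 : (u:G)⁻¹ * (h * u * h⁻¹) = (v:G)⁻¹ * (h * v * h⁻¹) := congrArg Subtype.val huv
      have h3 : (u:G)⁻¹ * h * u = (v:G)⁻¹ * h * v := by
        have := congrArg (· * h) h1
        simpa [mul_assoc] using this
      have h2 : h * ((v:G) * (u:G)⁻¹) = ((v:G) * (u:G)⁻¹) * h := by
        calc h * ((v:G) * (u:G)⁻¹) = v * ((v:G)⁻¹ * h * v) * (u:G)⁻¹ := by group
          _ = v * ((u:G)⁻¹ * h * u) * (u:G)⁻¹ := by rw [h3]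
          _ = _ := by group
      have h4 := hfpf h hh hh1 _ (K.mul_mem v.2 (K.inv_mem u.2)) h2
      apply Subtype.ext
      exact (mul_inv_eq_one.mp h4).symm
    obtain ⟨u, hu⟩ := (Finite.injective_iff_surjective.mp hf) ⟨k, hk⟩
    refine ⟨u, u.2, ?_⟩
    have h5 : (u:G)⁻¹ * (h * u * h⁻¹) = k := congrArg Subtype.val hu
    rw [← h5]; group
  have F3 : ∀ h ∈ H, h ≠ 1 → ∀ g, h * g = g * h → g ∈ H := by
    intro h hh hh1 g hg
    obtain ⟨u, hu, h', hh', rfl⟩ := F1 g
    have h1 : u⁻¹ * (h * u * h⁻¹) = h' * h * (h * h')⁻¹ := by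
      have : h * u = u * h' * h * h'⁻¹ := by
        calc h * u = h * (u * h') * h'⁻¹ := by group
          _ = (u * h') * h * h'⁻¹ := by rw [hg]
      rw [this]; group
    have h2 : u⁻¹ * (h * u * h⁻¹) = 1 :=
      hinter _ (K.mul_mem (K.inv_mem hu) (hKn.conj_mem _ hu h))
        (by rw [h1]; exact H.mul_mem (H.mul_mem hh' hh) (H.inv_mem (H.mul_mem hh hh')))
    have h3 : h * u = u * h := by
      have h4 : h * u * h⁻¹ = u := by
        have := congrArg (u * ·) h2
        simpa [mul_assoc] using this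
      calc h * u = (h * u * h⁻¹) * h := by group
        _ = u * h := by rw [h4]
    have := hfpf h hh hh1 u hu h3
    rw [this, one_mul]; exact hh'
  have F5 : ∀ x, x ∉ K → ∃ u ∈ K, ∃ h ∈ H, h ≠ 1 ∧ x = u⁻¹ * h * u := by
    intro x hx
    obtain ⟨k, hk, h, hh, rfl⟩ := F1 x
    have hh1 : h ≠ 1 := by
      rintro rfl
      apply hx; rw [mul_one]; exact hk
    obtain ⟨u, hu, hu'⟩ := F2 h hh hh1 k hk
    exact ⟨u, hu, h, hh, hh1, hu'⟩
  have F4 : ∀ x ∈ K, x ≠ 1 → ∀ g, x * g = g * x → g ∈ K := by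
    intro x hx hx1 g hg
    by_contra hgK
    obtain ⟨u, hu, h, hh, hh1, rfl⟩ := F5 g hgK
    have h1 : h * (u * x * u⁻¹) = (u * x * u⁻¹) * h := by
      calc h * (u * x * u⁻¹) = u * ((u⁻¹ * h * u) * x) * u⁻¹ := by group
        _ = u * (x * (u⁻¹ * h * u)) * u⁻¹ := by rw [hg]
        _ = _ := by group
    have h2 := hfpf h hh hh1 _ (hKn.conj_mem _ hx u) h1
    apply hx1
    have := congrArg (fun y => u⁻¹ * y * u) h2
    simpa [mul_assoc] using this
  -- cardinalities of centralizers
  have hcK : ∀ x : K, x ≠ 1 → Nat.card (Subgroup.centralizer ({(x:G)} : Set G))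
      = Nat.card (Subgroup.centralizer ({x} : Set K)) := by
    intro x hx1
    symm
    apply Nat.card_congr
    refine Equiv.ofBijective (fun y => ⟨(y.1 : G), ?_⟩) ⟨?_, ?_⟩
    · have := y.2
      rw [Subgroup.mem_centralizer_singleton_iff] at this ⊢
      exact_mod_cast congrArg Subtype.val this
    · intro y z hyz
      apply Subtype.ext; apply Subtype.ext
      have h1 := Subtype.ext_iff.mp hyz
      exact h1
    · rintro ⟨z, hz⟩
      rw [Subgroup.mem_centralizer_singleton_iff] at hz
      have hzK : z ∈ K := F4 x x.2 (fun h => hx1 (Subtype.ext h)) z hz.symm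
      refine ⟨⟨⟨z, hzK⟩, ?_⟩, rfl⟩
      rw [Subgroup.mem_centralizer_singleton_iff]
      apply Subtype.ext
      exact hz
  have hcH : ∀ (u : K) (h : H), h ≠ 1 →
      Nat.card (Subgroup.centralizer ({(u:G)⁻¹ * h * u} : Set G))
      = Nat.card (Subgroup.centralizer ({h} : Set H)) := by
    intro u h hh1
    symm
    apply Nat.card_congr
    refine Equiv.ofBijective (fun y => ⟨(u:G)⁻¹ * (y.1 : G) * u, ?_⟩) ⟨?_, ?_⟩
    · have := y.2
      rw [Subgroup.mem_centralizer_singleton_iff] at this ⊢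
      have h2 : ((y.1 : H) : G) * h = h * y.1 := by exact_mod_cast congrArg Subtype.val this
      calc (u:G)⁻¹ * (y.1 : G) * u * ((u:G)⁻¹ * h * u) = (u:G)⁻¹ * ((y.1 : G) * h) * u := by group
        _ = (u:G)⁻¹ * (h * (y.1 : G)) * u := by rw [h2]
        _ = _ := by group
    · intro y z hyz
      apply Subtype.ext; apply Subtype.ext
      have h1 : (u:G)⁻¹ * (y.1 : G) * u = (u:G)⁻¹ * (z.1 : G) * u := congrArg Subtype.val hyz
      exact mul_left_cancel (mul_right_cancel h1)
    · rintro ⟨z, hz⟩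
      rw [Subgroup.mem_centralizer_singleton_iff] at hz
      have h1 : (h : G) * ((u:G) * z * (u:G)⁻¹) = ((u:G) * z * (u:G)⁻¹) * h := by
        calc (h : G) * ((u:G) * z * (u:G)⁻¹) = u * (((u:G)⁻¹ * h * u) * z) * (u:G)⁻¹ := by group
          _ = u * (z * ((u:G)⁻¹ * h * u)) * (u:G)⁻¹ := by rw [hz]
          _ = _ := by group
      have hzH : (u:G) * z * (u:G)⁻¹ ∈ H :=
        F3 h h.2 (fun hh => hh1 (Subtype.ext hh)) _ h1
      refine ⟨⟨⟨_, hzH⟩, ?_⟩, ?_⟩
      · rw [Subgroup.mem_centralizer_singleton_iff]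
        apply Subtype.ext
        exact h1.symm
      · apply Subtype.ext
        show (u:G)⁻¹ * ((u:G) * z * (u:G)⁻¹) * u = z
        group
  have hc1 : ∀ (X : Type _) [Group X], Nat.card (Subgroup.centralizer ({(1:X)} : Set X))
      = Nat.card X := by
    intro X _
    have : Subgroup.centralizer ({(1:X)} : Set X) = ⊤ := by
      ext y; simp [Subgroup.mem_centralizer_singleton_iff]
    rw [this, Subgroup.card_top]
  have hGcard : Nat.card K * Nat.card H = Nat.card G := by
    apply Subgroup.IsComplement'.card_mul_card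
    apply Subgroup.isComplement'_of_disjoint_and_mul_eq_univ
    · rw [disjoint_iff]; exact hKH
    · rw [← Subgroup.normal_mul, hKH']; rfl
  have hsG := sum_card_centralizer G
  have hsK := sum_card_centralizer K
  have hsH := sum_card_centralizer H
  have hsplit := Finset.sum_filter_add_sum_filter_not (Finset.univ : Finset G) (fun x => x ∈ K)
    (fun x => Nat.card (Subgroup.centralizer ({x} : Set G)))
  -- part 1
  have hP1 : ∑ x ∈ Finset.univ.filter (fun x : G => x ∈ K),
      Nat.card (Subgroup.centralizer ({x} : Set G)) + Nat.card K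
      = Nat.card (ConjClasses K) * Nat.card K + Nat.card G := by
    rw [Finset.sum_subtype (p := fun x => x ∈ K) _ (by simp)
      (fun x => Nat.card (Subgroup.centralizer ({x} : Set G))), ← hsK]
    have e1 : ∑ x : K, Nat.card (Subgroup.centralizer ({(x:G)} : Set G)) + Nat.card K
        = ∑ x : K, (Nat.card (Subgroup.centralizer ({(x:G)} : Set G))
            + if x = 1 then Nat.card K else 0) := by
      rw [Finset.sum_add_distrib, Finset.sum_ite_eq' Finset.univ (1 : K)]
      simp
    have e2 : ∑ x : K, Nat.card (Subgroup.centralizer ({x} : Set K)) + Nat.card G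
        = ∑ x : K, (Nat.card (Subgroup.centralizer ({x} : Set K))
            + if x = 1 then Nat.card G else 0) := by
      rw [Finset.sum_add_distrib, Finset.sum_ite_eq' Finset.univ (1 : K)]
      simp
    rw [e1, e2]
    apply Finset.sum_congr rfl
    intro x _
    by_cases hx : x = 1
    · subst hx
      rw [if_pos rfl, if_pos rfl, hc1 K]
      have := hc1 G
      rw [show ((1 : K) : G) = 1 from rfl, this, add_comm]
    · rw [if_neg hx, if_neg hx, hcK x hx]
  -- part 2
  have hP2 : ∑ x ∈ Finset.univ.filter (fun x : G => ¬ x ∈ K),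
      Nat.card (Subgroup.centralizer ({x} : Set G)) + Nat.card K * Nat.card H
      = Nat.card K * (Nat.card (ConjClasses H) * Nat.card H) := by
    have e1 : ∑ x ∈ Finset.univ.filter (fun x : G => ¬ x ∈ K),
        Nat.card (Subgroup.centralizer ({x} : Set G))
        = ∑ p ∈ (Finset.univ : Finset (K × H)).filter (fun p => p.2 ≠ 1),
          Nat.card (Subgroup.centralizer ({p.2} : Set H)) := by
      symm
      apply Finset.sum_bij (fun (p : K × H) _ => ((p.1 : G))⁻¹ * (p.2 : G) * (p.1 : G))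
      · intro p hp
        rw [Finset.mem_filter] at hp ⊢
        refine ⟨Finset.mem_univ _, ?_⟩
        intro hmem
        apply hp.2
        apply Subtype.ext
        apply hinter _ _ p.2.2
        have := K.mul_mem (K.mul_mem p.1.2 hmem) (K.inv_mem p.1.2)
        convert this using 1
        group
      · intro p hp q hq hpq
        rw [Finset.mem_filter] at hp hq
        obtain ⟨u, h⟩ := p
        obtain ⟨v, h'⟩ := q
        simp only at hpq hp hq
        -- h = w⁻¹ h' w with w = v u⁻¹
        have hw : (v:G) * (u:G)⁻¹ ∈ K := K.mul_mem v.2 (K.inv_mem u.2)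
        have e : (h:G) = ((v:G) * (u:G)⁻¹)⁻¹ * h' * ((v:G) * (u:G)⁻¹) := by
          calc (h:G) = u * ((u:G)⁻¹ * h * u) * (u:G)⁻¹ := by group
            _ = u * ((v:G)⁻¹ * h' * v) * (u:G)⁻¹ := by rw [hpq]
            _ = _ := by group
        have e2 : (h':G)⁻¹ * h = 1 := by
          apply hinter
          · rw [e]
            have := K.mul_mem (hKn.conj_mem _ (K.inv_mem hw) (h':G)⁻¹) hw
            convert this using 1
            group
          · exact H.mul_mem (H.inv_mem h'.2) h.2
        have e3 : (h:G) = h' := (inv_mul_eq_one.mp e2).symm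
        have e4 : (h:G) * ((v:G) * (u:G)⁻¹) = ((v:G) * (u:G)⁻¹) * h := by
          rw [← e3] at e
          calc (h:G) * ((v:G) * (u:G)⁻¹)
              = ((v:G) * (u:G)⁻¹) * (((v:G) * (u:G)⁻¹)⁻¹ * h * ((v:G) * (u:G)⁻¹)) := by group
            _ = _ := by rw [← e]
        have e5 := hfpf h h.2 (fun hh => hp.2 (Subtype.ext hh)) _ hw e4
        have e6 : (v:G) = u := mul_inv_eq_one.mp e5
        exact Prod.ext (Subtype.ext e6.symm) (Subtype.ext e3)
      · intro x hx
        rw [Finset.mem_filter] at hx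
        obtain ⟨u, hu, h, hh, hh1, rfl⟩ := F5 x hx.2
        refine ⟨(⟨u, hu⟩, ⟨h, hh⟩), ?_, rfl⟩
        rw [Finset.mem_filter]
        refine ⟨Finset.mem_univ _, ?_⟩
        intro h2
        exact hh1 (congrArg Subtype.val h2)
      · intro p hp
        rw [Finset.mem_filter] at hp
        exact (hcH p.1 p.2 hp.2).symm
    rw [e1, Finset.sum_filter, Fintype.sum_prod_type]
    show (∑ x : K, ∑ y : H, if y ≠ 1 then Nat.card (Subgroup.centralizer ({y} : Set H)) else 0)
      + Nat.card K * Nat.card H = _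
    rw [Finset.sum_const, Finset.card_univ,
      smul_eq_mul, ← Nat.card_eq_fintype_card, ← mul_add, ← hsH]
    congr 1
    have e3 : ∑ h : H, (if h ≠ 1 then Nat.card (Subgroup.centralizer ({h} : Set H)) else 0)
        + Nat.card H = ∑ h : H, ((if h ≠ 1 then Nat.card (Subgroup.centralizer ({h} : Set H))
          else 0) + if h = 1 then Nat.card H else 0) := by
      rw [Finset.sum_add_distrib, Finset.sum_ite_eq' Finset.univ (1 : H)]
      simp
    rw [e3]
    apply Finset.sum_congr rfl
    intro h _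
    by_cases hh : h = 1
    · subst hh
      rw [if_neg (by simp), if_pos rfl, hc1 H, zero_add]
    · rw [if_pos hh, if_neg hh, add_zero]
  have hKpos : 0 < Nat.card K := Nat.card_pos
  have key : Nat.card K * (Nat.card H * Nat.card (ConjClasses G) + 1)
      = Nat.card K * (Nat.card H * Nat.card (ConjClasses H) + Nat.card (ConjClasses K)) := by
    rw [hsG] at hsplit
    rw [← hGcard] at hsplit hP1
    nlinarith [hsplit, hP1, hP2]
  exact Nat.eq_of_mul_eq_mul_left hKpos key

end Cfsg.Agent.Lib.Lead
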