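import Mathlib
import Cfsg.Agent.Lib.Lead.Glauberman2
import Cfsg.Agent.Lib.Lead.SylowAux2

set_option autoImplicit false

namespace Cfsg.Agent.Lib.Lead

open scoped Pointwise

/-- Glauberman's lemma for conjugacy classes: if `x` has order coprime to the normal subgroup
`K` and maps the `K`-class of `k` to itself, then some `K`-conjugate of `k` commutes
with `x`. -/
theorem exists_fixed_in_class {L : Type*} [Group L] [Finite L] (K : Subgroup L) [hK : K.Normal]
    (x : L) (hx : Nat.Coprime (orderOf x) (Nat.card K)) (k m : L) (hm : m ∈ K)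
    (hfix : x * k * x⁻¹ = m * k * m⁻¹) : ∃ c ∈ K, x * (c * k * c⁻¹) = (c * k * c⁻¹) * x := by
  have hAK : Subgroup.zpowers x ≤ Subgroup.normalizer (K : Set L) := by
    rw [Subgroup.normalizer_eq_top]; exact le_top
  have hcop : (Nat.card (Subgroup.zpowers x)).Coprime (Nat.card K) := by
    rw [Nat.card_zpowers]; exact hx
  have hy : m⁻¹ * x ∈ Subgroup.centralizer ({k} : Set L) := by
    rw [Subgroup.mem_centralizer_iff]
    intro z hz
    rw [Set.mem_singleton_iff] at hz
    subst hz
    have h1 : x * z = m * z * m⁻¹ * x := by rw [← hfix]; group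
    calc z * (m⁻¹ * x) = m⁻¹ * (m * z * m⁻¹ * x) := by group
      _ = m⁻¹ * (x * z) := by rw [h1]
      _ = m⁻¹ * x * z := by group
  have hxA : x ∈ Subgroup.zpowers x := Subgroup.mem_zpowers x
  have hA : Subgroup.zpowers x ≤
      (Subgroup.centralizer ({k} : Set L) ⊓ (Subgroup.zpowers x ⊔ K)) ⊔ K := by
    rw [Subgroup.zpowers_le]
    have h2 : m * (m⁻¹ * x) ∈
        (Subgroup.centralizer ({k} : Set L) ⊓ (Subgroup.zpowers x ⊔ K)) ⊔ K := by
      apply Subgroup.mul_mem
      · exact Subgroup.mem_sup_right hm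
      · apply Subgroup.mem_sup_left
        refine ⟨hy, ?_⟩
        apply Subgroup.mul_mem
        · exact Subgroup.mem_sup_right (K.inv_mem hm)
        · exact Subgroup.mem_sup_left hxA
    rwa [mul_inv_cancel_left] at h2
  obtain ⟨c, hc, hcA⟩ := exists_conj_le_of_sup (Subgroup.zpowers x) K
    (Subgroup.centralizer ({k} : Set L) ⊓ (Subgroup.zpowers x ⊔ K)) hAK hcop
    (Or.inl inferInstance) inf_le_right hA
  have h1 : c * x * c⁻¹ ∈ Subgroup.centralizer ({k} : Set L) :=
    (hcA (conj_mem_conj_smul hxA)).1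
  rw [Subgroup.mem_centralizer_iff] at h1
  have h2 := h1 k rfl
  refine ⟨c⁻¹, K.inv_mem hc, ?_⟩
  rw [inv_inv]
  calc x * (c⁻¹ * k * c) = c⁻¹ * (c * x * c⁻¹ * k) * c := by group
    _ = c⁻¹ * (k * (c * x * c⁻¹)) * c := by rw [← h2]
    _ = c⁻¹ * k * c * x := by group

end Cfsg.Agent.Lib.Lead
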