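import Mathlib
import Cfsg.Prelude.Def_Blocks
import Cfsg.Prelude.Def_Local
import Cfsg.Agent.Lib.Lead.CharZeros
import Cfsg.Agent.Lib.Lead.CharIto
import Cfsg.Agent.Lib.Lead.CharCliffordCorr
import Cfsg.Agent.Lib.Lead.CharPerm
import Cfsg.Agent.Lib.Lead.CharQuot
import Cfsg.Agent.Lib.Lead.CharCenter
import Cfsg.Agent.Lib.Lead.GlaubClass
import Cfsg.Agent.Lib.Helper6.PParts

set_option autoImplicit false

namespace Cfsg.Agent.Lib.Lead

open scoped ComplexConjugate

theorem pdeg_quotient {G : Type*} [Group G] (p : ℕ) (N : Subgroup G) [N.Normal]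
    (hH : ∀ χ : Cfsg.IrrCharacter G, ¬ p ∣ Cfsg.charDegree (χ : G → ℂ)) :
    ∀ χ : Cfsg.IrrCharacter (G ⧸ N), ¬ p ∣ Cfsg.charDegree (χ : G ⧸ N → ℂ) := by
  intro φ
  have h := hH (inflIrr (QuotientGroup.mk' N) (QuotientGroup.mk'_surjective N) φ)
  have e : Cfsg.charDegree ((inflIrr (QuotientGroup.mk' N) (QuotientGroup.mk'_surjective N) φ :
      Cfsg.IrrCharacter G) : G → ℂ) = Cfsg.charDegree (φ : G ⧸ N → ℂ) := by
    unfold Cfsg.charDegree
    show ⌊((φ : G ⧸ N → ℂ) (QuotientGroup.mk' N 1)).re⌋₊ = _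
    rw [map_one]
  rwa [e] at h

/-- an irreducible character over `ϑ`, with its degree -/
theorem exists_over_degree {G : Type*} [Group G] [Finite G] (K : Subgroup G) [hK : K.Normal]
    (ϑ : K → ℂ) (hϑ : Cfsg.IsIrrCharacter K ϑ) :
    ∃ (χ : G → ℂ) (e : ℕ), Cfsg.IsIrrCharacter G χ ∧
      Cfsg.charDegree χ = e * (stabChar K ϑ).index * Cfsg.charDegree ϑ := by
  classical
  haveI := Fintype.ofFinite G
  haveI : Fintype K := Fintype.ofFinite K
  obtain ⟨hd1, hd0⟩ := charDegree_irr hϑ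
  have hInd : Cfsg.IsCharacter G (Cfsg.indFun K ϑ) :=
    isCharacter_indFun K _ (isCharacter_of_isIrrCharacter hϑ)
  have hInd1 : Cfsg.indFun K ϑ 1 ≠ 0 := by
    rw [indFun_one, hd1]
    have hi : K.index ≠ 0 := Subgroup.index_ne_zero_of_finite
    exact mul_ne_zero (by exact_mod_cast hi) (by exact_mod_cast hd0)
  obtain ⟨χ, hχ, hne⟩ := exists_constituent hInd hInd1
  rw [frobenius_reciprocity K _ χ
    (isClassFunction_of_isCharacter (isCharacter_of_isIrrCharacter hχ))] at hne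
  have hcon : Cfsg.classInner (fun n : K => χ n) ϑ ≠ 0 := by
    rw [← classInner_conj_symm]
    exact (map_ne_zero _).mpr hne
  obtain ⟨e, he⟩ := classInner_char_char_nat
    (isCharacter_restrict K (isCharacter_of_isIrrCharacter hχ)) (isCharacter_of_isIrrCharacter hϑ)
  have hdeg := clifford_degree K (stabChar K ϑ) ϑ hϑ (fun g => by
      rw [mem_stabChar]
      constructor
      · intro h n; exact congrFun h n
      · intro h; funext n; exact h n) χ hχ hcon e (Cfsg.charDegree ϑ) he hd1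
  obtain ⟨hχ1, -⟩ := charDegree_irr hχ
  rw [hχ1] at hdeg
  exact ⟨χ, e, hχ, by exact_mod_cast hdeg⟩

theorem pdeg_normal {G : Type*} [Group G] [Finite G] (p : ℕ) (K : Subgroup G) [hK : K.Normal]
    (hH : ∀ χ : Cfsg.IrrCharacter G, ¬ p ∣ Cfsg.charDegree (χ : G → ℂ)) :
    ∀ ϑ : Cfsg.IrrCharacter K, ¬ p ∣ Cfsg.charDegree (ϑ : K → ℂ) := by
  intro ϑ hdvd
  obtain ⟨χ, e, hχ, hnat⟩ := exists_over_degree K (ϑ : K → ℂ) ϑ.2
  exact hH ⟨χ, hχ⟩ (by rw [hnat]; exact Dvd.dvd.mul_left hdvd _)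

theorem sylow_normal_of_coprime_normal {K : Type*} [Group K] [Finite K] (p : ℕ) [Fact p.Prime]
    (N : Subgroup K) [hN : N.Normal] (hcop : (Nat.card N).Coprime p)
    (hidx : ∃ a : ℕ, N.index = p ^ a)
    (hH : ∀ χ : Cfsg.IrrCharacter K, ¬ p ∣ Cfsg.charDegree (χ : K → ℂ)) (Q : Sylow p K) :
    (Q : Subgroup K).Normal := by
  classical
  haveI := Fintype.ofFinite K
  haveI : Fintype N := Fintype.ofFinite N
  have hp := (Fact.out : p.Prime)
  have hinv : ∀ (ϑ : Cfsg.IrrCharacter N) (x : K),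
      (ϑ : N → ℂ) ∘ conjHom N x = (ϑ : N → ℂ) := by
    intro ϑ
    suffices hT : stabChar N (ϑ : N → ℂ) = ⊤ by
      intro x
      have hx : x ∈ stabChar N (ϑ : N → ℂ) := by rw [hT]; exact Subgroup.mem_top x
      exact (mem_stabChar N _ x).mp hx
    obtain ⟨χ, e, hχ, hnat⟩ := exists_over_degree N (ϑ : N → ℂ) ϑ.2
    have hnd : ¬ p ∣ (stabChar N (ϑ : N → ℂ)).index := by
      intro hd
      exact hH ⟨χ, hχ⟩ (by rw [hnat]; exact Dvd.dvd.mul_right (Dvd.dvd.mul_left hd _) _)
    have hNT : N ≤ stabChar N (ϑ : N → ℂ) := by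
      intro m hm
      rw [mem_stabChar]
      funext n
      exact isClassFunction_of_isCharacter (isCharacter_of_isIrrCharacter ϑ.2) n ⟨m, hm⟩
    obtain ⟨a, ha⟩ := hidx
    have hdvd : (stabChar N (ϑ : N → ℂ)).index ∣ p ^ a := by
      rw [← ha]; exact Subgroup.index_dvd_of_le hNT
    obtain ⟨b, -, hb⟩ := (Nat.dvd_prime_pow hp).mp hdvd
    rw [hb] at hnd
    have hb0 : b = 0 := by
      by_contra h
      exact hnd (dvd_pow_self p h)
    rw [hb0, pow_zero] at hb
    exact Subgroup.index_eq_one.mp hb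
  have hcls : ∀ (x : K) (n : N), ∃ m : N, x * (n : K) * x⁻¹ = (m : K) * n * (m : K)⁻¹ := by
    intro x n
    have hall : ∀ χ : Cfsg.IrrCharacter N,
        (χ : N → ℂ) ∘ (MulAut.conjNormal x : N ≃* N) = (χ : N → ℂ) := by
      intro χ
      have h := hinv χ x
      funext n'
      exact congrFun h n'
    have hcard := brauer_perm_aut (MulAut.conjNormal x : N ≃* N)
    have hfix : ∀ C : ConjClasses N,
        ConjClasses.map (MulAut.conjNormal x : N ≃* N).toMonoidHom C = C := by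
      by_contra hcon
      push Not at hcon
      obtain ⟨C, hC⟩ := hcon
      haveI := Fintype.ofFinite (ConjClasses N)
      haveI := Fintype.ofFinite (Cfsg.IrrCharacter N)
      have h1 : Fintype.card {C : ConjClasses N //
          ConjClasses.map (MulAut.conjNormal x : N ≃* N).toMonoidHom C = C} <
          Fintype.card (ConjClasses N) := Fintype.card_subtype_lt hC
      have h2 : Nat.card {χ : Cfsg.IrrCharacter N //
          (χ : N → ℂ) ∘ (MulAut.conjNormal x : N ≃* N) = (χ : N → ℂ)} =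
          Nat.card (Cfsg.IrrCharacter N) := Nat.card_congr (Equiv.subtypeUnivEquiv hall)
      rw [← Nat.card_eq_fintype_card, ← Nat.card_eq_fintype_card, hcard, h2, card_irr] at h1
      exact lt_irrefl _ h1
    have h3 : ConjClasses.mk ((MulAut.conjNormal x : N ≃* N) n) = ConjClasses.mk n :=
      hfix (ConjClasses.mk n)
    rw [ConjClasses.mk_eq_mk_iff_isConj, isConj_iff] at h3
    obtain ⟨c, hc⟩ := h3
    refine ⟨c⁻¹, ?_⟩
    have h4 : (MulAut.conjNormal x : N ≃* N) n = c⁻¹ * n * c := by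
      have h6 : c⁻¹ * (c * (MulAut.conjNormal x : N ≃* N) n * c⁻¹) * c =
          (MulAut.conjNormal x : N ≃* N) n := by group
      rw [← h6, hc]
    have h5 := congrArg (Subtype.val) h4
    rw [MulAut.conjNormal_apply] at h5
    rw [h5]
    simp
  have hcent : ∀ x ∈ Q, ∀ n ∈ N, n * x = x * n := by
    intro x hx
    have hxcop : (orderOf x).Coprime (Nat.card N) := by
      obtain ⟨k, hk⟩ := (IsPGroup.iff_orderOf.mp Q.2) ⟨x, hx⟩
      have h1 : orderOf x = p ^ k := by rw [← hk]; exact (Subgroup.orderOf_mk x hx).symm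
      rw [h1]
      exact Nat.Coprime.pow_left k hcop.symm
    have hM : (Subgroup.centralizer ({x} : Set K)).subgroupOf N = ⊤ := by
      apply Cfsg.Agent.Lib.Helper6.eq_top_of_conj_cover
      intro g
      obtain ⟨m, hm⟩ := hcls x g
      obtain ⟨c, hcN, hc⟩ := exists_fixed_in_class N x hxcop (g : K) (m : K) m.2 hm
      refine ⟨(⟨c, hcN⟩ : N)⁻¹, ?_⟩
      rw [Subgroup.mem_subgroupOf, Subgroup.mem_centralizer_iff]
      intro y hy
      rw [Set.mem_singleton_iff] at hy
      subst hy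
      simp only [inv_inv, Subgroup.coe_mul, Subgroup.coe_inv]
      exact hc
    intro n hn
    have h1 : (⟨n, hn⟩ : N) ∈ (Subgroup.centralizer ({x} : Set K)).subgroupOf N := by
      rw [hM]; exact Subgroup.mem_top _
    rw [Subgroup.mem_subgroupOf, Subgroup.mem_centralizer_iff] at h1
    exact (h1 x rfl).symm
  have hsup : (Q : Subgroup K) ⊔ N = ⊤ := by
    rw [← Subgroup.index_eq_one]
    obtain ⟨a, ha⟩ := hidx
    have h1 : ((Q : Subgroup K) ⊔ N).index ∣ p ^ a := by
      rw [← ha]; exact Subgroup.index_dvd_of_le le_sup_right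
    have h2 : ((Q : Subgroup K) ⊔ N).index ∣ (Q : Subgroup K).index :=
      Subgroup.index_dvd_of_le le_sup_left
    obtain ⟨b, -, hb⟩ := (Nat.dvd_prime_pow hp).mp h1
    rw [hb] at h2 ⊢
    by_contra hne
    have hb0 : b ≠ 0 := by rintro rfl; exact hne (pow_zero p)
    exact Q.not_dvd_index (dvd_trans (dvd_pow_self p hb0) h2)
  rw [← Subgroup.normalizer_eq_top_iff, eq_top_iff, ← hsup]
  apply sup_le Subgroup.le_normalizer
  intro n hn
  rw [Subgroup.mem_normalizer_iff]
  intro y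
  constructor
  · intro hy
    have h1 := hcent y hy n hn
    rw [h1, mul_inv_cancel_right]; exact hy
  · intro hy
    have h1 := hcent _ hy n hn
    have h2 : y = n * y * n⁻¹ := by
      have h3 : n * (n * y * n⁻¹) = n * y := by rw [h1]; group
      exact (mul_left_cancel h3).symm
    rw [h2]; exact hy

theorem michler_step {G : Type*} [Group G] [Finite G] (p : ℕ) [Fact p.Prime] (N : Subgroup G)
    [hNn : N.Normal] (hN : (∃ m : ℕ, Nat.card N = p ^ m) ∨ (Nat.card N).Coprime p)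
    (hH : ∀ χ : Cfsg.IrrCharacter G, ¬ p ∣ Cfsg.charDegree (χ : G → ℂ))
    (hQ : ∀ Q : Sylow p (G ⧸ N), (Q : Subgroup (G ⧸ N)).Normal) (Q : Sylow p G) :
    (Q : Subgroup G).Normal := by
  have hp := (Fact.out : p.Prime)
  have hKn : ((Q : Subgroup G) ⊔ N).Normal := by
    have h1 := hQ (Q.mapSurjective (QuotientGroup.mk'_surjective N))
    rw [Sylow.coe_mapSurjective] at h1
    have h3 := Subgroup.Normal.comap h1 (QuotientGroup.mk' N)
    rw [Subgroup.comap_map_eq, QuotientGroup.ker_mk'] at h3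
    exact h3
  rcases hN with ⟨m, hm⟩ | hcop
  · have hNp : IsPGroup p N := IsPGroup.of_card hm
    have hsup : IsPGroup p ((N ⊔ (Q : Subgroup G) : Subgroup G)) :=
      IsPGroup.to_sup_of_normal_left hNp Q.2
    have heq := Q.3 hsup le_sup_right
    have h2 : (Q : Subgroup G) ⊔ N = Q := by rw [sup_comm, heq]
    rw [h2] at hKn
    exact hKn
  · obtain ⟨K, hKdef⟩ : ∃ K : Subgroup G, K = (Q : Subgroup G) ⊔ N := ⟨_, rfl⟩
    rw [← hKdef] at hKn
    haveI := hKn
    have hHK := pdeg_normal p K hH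
    have hNK : N ≤ K := by rw [hKdef]; exact le_sup_right
    have hQK : (Q : Subgroup G) ≤ K := by rw [hKdef]; exact le_sup_left
    have hN'cop : (Nat.card (N.subgroupOf K)).Coprime p := by
      rw [Nat.card_congr (Subgroup.subgroupOfEquivOfLe hNK).toEquiv]; exact hcop
    have hN'idx : ∃ a : ℕ, (N.subgroupOf K).index = p ^ a := by
      show ∃ a : ℕ, N.relIndex K = p ^ a
      rw [hKdef, Subgroup.relIndex_sup_right]
      obtain ⟨k, hk⟩ := IsPGroup.exists_card_eq Q.2
      have hdvd : N.relIndex (Q : Subgroup G) ∣ p ^ k := by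
        rw [← hk]; exact Subgroup.relIndex_dvd_card _ _
      obtain ⟨a, -, ha⟩ := (Nat.dvd_prime_pow hp).mp hdvd
      exact ⟨a, ha⟩
    haveI : (N.subgroupOf K).Normal := Subgroup.Normal.subgroupOf hNn K
    have hQ'n : ((Q.subtype hQK : Sylow p K) : Subgroup K).Normal :=
      sylow_normal_of_coprime_normal p (N.subgroupOf K) hN'cop hN'idx hHK (Q.subtype hQK)
    have hfr := Sylow.normalizer_sup_eq_top' Q hQK
    have hKle : K ≤ Subgroup.normalizer (Q : Set G) := by
      rw [Sylow.coe_subtype] at hQ'n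
      exact (Subgroup.normal_subgroupOf_iff_le_normalizer hQK).mp hQ'n
    rw [sup_eq_left.mpr hKle] at hfr
    exact Subgroup.normalizer_eq_top_iff.mp hfr

end Cfsg.Agent.Lib.Lead
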