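import Mathlib
import Cfsg.Agent.Lib.Lead.CharMichler
import Cfsg.Agent.Lib.Lead.CharMisc
import Cfsg.Agent.Lib.Lead.CharInt
import Cfsg.Agent.Lib.Lead.SZ
import Cfsg.Agent.Lib.Helper6.PSolv

set_option autoImplicit false

namespace Cfsg.Agent.Lib.Lead

universe u

theorem charDegree_eq_finrank {G : Type*} [Group G] {n : ℕ} (ρ : Representation ℂ G (Fin n → ℂ))
    [ρ.IsIrreducible] : Cfsg.charDegree ρ.character = Module.finrank ℂ (Fin n → ℂ) := by
  obtain ⟨hd1, hd0⟩ := charDegree_irr (χ := ρ.character) ⟨n, ρ, inferInstance, rfl⟩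
  have h3 : ((Cfsg.charDegree ρ.character : ℕ) : ℂ) = (Module.finrank ℂ (Fin n → ℂ) : ℂ) := by
    rw [← hd1, Representation.char_one]
  exact_mod_cast h3

theorem abelian_of_pdeg_pgroup {P : Type*} [Group P] [Finite P] (p : ℕ) [Fact p.Prime]
    (hP : IsPGroup p P)
    (hH : ∀ χ : Cfsg.IrrCharacter P, ¬ p ∣ Cfsg.charDegree (χ : P → ℂ)) :
    ∀ a b : P, a * b = b * a := by
  refine commutative_iff_degrees.mpr ?_
  haveI := Fintype.ofFinite P
  intro χ
  obtain ⟨hd1, hd0⟩ := charDegree_irr χ.2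
  have hdvd : Cfsg.charDegree (χ : P → ℂ) ∣ Nat.card P := by
    obtain ⟨n, ρ, hρ, hρχ⟩ := χ.2
    haveI := hρ
    have h1 := degree_dvd_card ρ
    rw [← hρχ, charDegree_eq_finrank ρ]; exact h1
  obtain ⟨k, hk⟩ := IsPGroup.exists_card_eq hP
  rw [hk] at hdvd
  obtain ⟨j, -, hj⟩ := (Nat.dvd_prime_pow (Fact.out : p.Prime)).mp hdvd
  have hj0 : j = 0 := by
    by_contra h
    exact hH χ (by rw [hj]; exact dvd_pow_self p h)
  rw [hd1, hj, hj0, pow_zero, Nat.cast_one]

theorem pdeg_of_normal_abelian {G : Type*} [Group G] [Finite G] (p : ℕ) (P : Subgroup G)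
    [P.Normal] (hab : ∀ a ∈ P, ∀ b ∈ P, a * b = b * a) (hidx : ¬ p ∣ P.index) :
    ∀ χ : Cfsg.IrrCharacter G, ¬ p ∣ Cfsg.charDegree (χ : G → ℂ) := by
  intro χ hdvd
  obtain ⟨n, ρ, hρ, hρχ⟩ := χ.2
  haveI := hρ
  have h1 := ito_degree ρ P hab
  rw [← hρχ, charDegree_eq_finrank ρ] at hdvd
  exact hidx (dvd_trans hdvd h1)

theorem michler_psolvable {G : Type u} [Group G] [Finite G] (p : ℕ) [Fact p.Prime]
    (hsolv : Cfsg.IsPSolvable p G)
    (hH : ∀ χ : Cfsg.IrrCharacter G, ¬ p ∣ Cfsg.charDegree (χ : G → ℂ)) (Q : Sylow p G) :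
    (Q : Subgroup G).Normal := by
  have key := Cfsg.Agent.Lib.Helper6.isPSolvable_induction p
    (fun (G : Type u) [Group G] => ∀ [Finite G],
      (∀ χ : Cfsg.IrrCharacter G, ¬ p ∣ Cfsg.charDegree (χ : G → ℂ)) →
        ∀ Q : Sylow p G, (Q : Subgroup G).Normal)
    ?h0 ?hstep G hsolv
  · exact key hH Q
  · intro G _ _ hsub _ _ Q
    constructor
    intro n hn g
    have e : g * n * g⁻¹ = n := Subsingleton.elim _ _
    rw [e]; exact hn
  · intro G _ _ N _ hN hps ih _ hH Q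
    exact michler_step p N hN hH (fun Q' => ih (pdeg_quotient p N hH) Q') Q

theorem michler_solvable : ∀ (n : ℕ) (G : Type u) [Group G] [Finite G], Nat.card G = n →
    Group.IsSolvable G → ∀ (p : ℕ) [Fact p.Prime],
    (∀ χ : Cfsg.IrrCharacter G, ¬ p ∣ Cfsg.charDegree (χ : G → ℂ)) →
    ∀ Q : Sylow p G, (Q : Subgroup G).Normal := by
  intro n
  induction n using Nat.strong_induction_on with
  | _ n ih =>
    intro G _ _ hcard hsolv p _ hH Q
    by_cases htriv : Subsingleton G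
    · constructor
      intro x hx g
      have e : g * x * g⁻¹ = x := Subsingleton.elim _ _
      rw [e]; exact hx
    · haveI : Nontrivial G := not_subsingleton_iff_nontrivial.mp htriv
      haveI := hsolv
      obtain ⟨q, hq, N, hNn, hNq, hNne⟩ := exists_normal_pSubgroup_of_solvable G
      haveI := hNn
      have hlt : Nat.card (G ⧸ N) < n := by
        rw [← hcard, ← Subgroup.index_eq_card, ← Subgroup.card_mul_index N]
        have h1 : 1 < Nat.card N := N.one_lt_card_iff_ne_bot.mpr hNne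
        have h2 : 0 < N.index := Nat.pos_of_ne_zero Subgroup.index_ne_zero_of_finite
        nlinarith
      have hQ := fun Q' : Sylow p (G ⧸ N) => ih (Nat.card (G ⧸ N)) hlt (G ⧸ N) rfl
        inferInstance p (pdeg_quotient p N hH) Q'
      apply michler_step p N _ hH hQ Q
      haveI : Fact q.Prime := ⟨hq⟩
      obtain ⟨k, hk⟩ := IsPGroup.exists_card_eq hNq
      by_cases hqp : q = p
      · left; exact ⟨k, by rw [hk, hqp]⟩
      · right
        rw [hk]
        exact Nat.Coprime.pow_left k ((Nat.coprime_primes hq (Fact.out : p.Prime)).mpr hqp)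

theorem michler_psolvable_iff {G : Type u} [Group G] [Finite G] (p : ℕ) [Fact p.Prime]
    (hsolv : Cfsg.IsPSolvable p G) (P : Sylow p G) :
    ((P : Subgroup G).Normal ∧ IsMulCommutative P) ↔
      ∀ χ : Cfsg.IrrCharacter G, ¬ p ∣ Cfsg.charDegree (χ : G → ℂ) := by
  constructor
  · rintro ⟨hn, hc⟩
    haveI := hn
    apply pdeg_of_normal_abelian p (P : Subgroup G) _ P.not_dvd_index
    intro a ha b hb
    exact congrArg Subtype.val (hc.is_comm.comm ⟨a, ha⟩ ⟨b, hb⟩)
  · intro hH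
    have hn := michler_psolvable p hsolv hH P
    haveI := hn
    refine ⟨hn, ⟨⟨?_⟩⟩⟩
    exact abelian_of_pdeg_pgroup p P.2 (pdeg_normal p (P : Subgroup G) hH)

theorem michler_solvable_iff {G : Type u} [Group G] [Finite G] (hsolv : Group.IsSolvable G)
    (p : ℕ) (hp : p.Prime) :
    (∃ P : Subgroup G, P.Normal ∧ (∀ x ∈ P, ∀ y ∈ P, x * y = y * x) ∧ IsPGroup p P ∧
      ¬ p ∣ P.index) ↔ ∀ χ : Cfsg.IrrCharacter G, ¬ p ∣ Cfsg.charDegree (χ : G → ℂ) := by
  haveI : Fact p.Prime := ⟨hp⟩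
  constructor
  · rintro ⟨P, hn, hab, -, hidx⟩
    haveI := hn
    exact pdeg_of_normal_abelian p P hab hidx
  · intro hH
    obtain ⟨Q⟩ : Nonempty (Sylow p G) := inferInstance
    have hn := michler_solvable (Nat.card G) G rfl hsolv p hH Q
    haveI := hn
    have hc := abelian_of_pdeg_pgroup p Q.2 (pdeg_normal p (Q : Subgroup G) hH)
    refine ⟨Q, hn, ?_, Q.2, Q.not_dvd_index⟩
    intro x hx y hy
    exact congrArg Subtype.val (hc ⟨x, hx⟩ ⟨y, hy⟩)

end Cfsg.Agent.Lib.Lead
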