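import Mathlib
import Cfsg.Agent.Lib.Lead.CharBasic
import Cfsg.Prelude.Def_Blocks

set_option autoImplicit false

namespace Cfsg.Agent.Lib.Lead

/-- If a sum of `n` roots of unity of `p`-power order vanishes, then `p ∣ n`. -/
theorem prime_dvd_of_sum_roots_eq_zero (p : ℕ) [Fact p.Prime] (j : ℕ) {n : ℕ} (μ : Fin n → ℂ)
    (hμ : ∀ i, μ i ^ (p ^ j) = 1) (h0 : ∑ i, μ i = 0) : p ∣ n := by
  classical
  rcases Nat.eq_zero_or_pos j with hj | hj
  · subst hj
    have h1 : ∀ i, μ i = 1 := by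
      intro i
      have := hμ i
      simpa using this
    have h2 : (n : ℂ) = 0 := by
      rw [← h0]
      simp [h1]
    have h3 : n = 0 := by exact_mod_cast h2
    rw [h3]
    exact dvd_zero p
  · obtain ⟨k, rfl⟩ : ∃ k, j = k + 1 := ⟨j - 1, by omega⟩
    have hp := (Fact.out : p.Prime)
    have hne : p ^ (k + 1) ≠ 0 := pow_ne_zero _ hp.ne_zero
    haveI : NeZero (p ^ (k + 1)) := ⟨hne⟩
    have hζ : IsPrimitiveRoot (Complex.exp (2 * Real.pi * Complex.I / (p ^ (k + 1) : ℕ)))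
        (p ^ (k + 1)) := Complex.isPrimitiveRoot_exp _ hne
    generalize Complex.exp (2 * Real.pi * Complex.I / (p ^ (k + 1) : ℕ)) = ζ at hζ
    have hex : ∀ i, ∃ e : ℕ, ζ ^ e = μ i := by
      intro i
      obtain ⟨e, -, he⟩ := hζ.eq_pow_of_pow_eq_one (hμ i)
      exact ⟨e, he⟩
    choose e he using hex
    have hA : Polynomial.aeval ζ (∑ i : Fin n, (Polynomial.X : Polynomial ℤ) ^ e i) = 0 := by
      rw [map_sum, ← h0]
      apply Finset.sum_congr rfl
      intro i _
      rw [map_pow, Polynomial.aeval_X, he]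
    have hint : IsIntegral ℤ ζ := hζ.isIntegral (Nat.pos_of_ne_zero hne)
    have hdvd : Polynomial.cyclotomic (p ^ (k + 1)) ℤ ∣ ∑ i : Fin n, (Polynomial.X : Polynomial ℤ) ^ e i := by
      rw [Polynomial.cyclotomic_eq_minpoly hζ (Nat.pos_of_ne_zero hne)]
      exact minpoly.isIntegrallyClosed_dvd hint hA
    have h1 := Polynomial.eval_dvd (x := (1 : ℤ)) hdvd
    rw [Polynomial.eval_one_cyclotomic_prime_pow, Polynomial.eval_finsetSum] at h1
    simp only [Polynomial.eval_pow, Polynomial.eval_X, one_pow, Finset.sum_const, Finset.card_univ,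
      Fintype.card_fin, nsmul_eq_mul, mul_one] at h1
    exact_mod_cast h1

/-- A character vanishing at a `p`-element has degree divisible by `p`. -/
theorem prime_dvd_charDegree_of_eq_zero {G : Type*} [Group G] [Finite G] (p : ℕ) [Fact p.Prime]
    (χ : G → ℂ) (hχ : Cfsg.IsCharacter G χ) (g : G) (hg : ∃ j : ℕ, orderOf g = p ^ j)
    (h0 : χ g = 0) : p ∣ Cfsg.charDegree χ := by
  obtain ⟨n, ρ, rfl⟩ := hχ
  obtain ⟨j, hj⟩ := hg
  have hdeg : Cfsg.charDegree ρ.character = n := by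
    unfold Cfsg.charDegree
    rw [Representation.char_one, Module.finrank_fin_fun]
    simp
  rw [hdeg]
  obtain ⟨b, μ, hb, hμ⟩ := exists_eigenbasis ρ g
  have htr : ρ.character g = ∑ i, μ i := trace_eq_sum_of_eigenbasis b (ρ g) μ hb
  rw [htr] at h0
  rw [hj] at hμ
  have := prime_dvd_of_sum_roots_eq_zero p j μ hμ h0
  rwa [Module.finrank_fin_fun] at this

end Cfsg.Agent.Lib.Lead
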