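import Mathlib
import Cfsg.Agent.Lib.Lead.SylowAux2

set_option autoImplicit false

namespace Cfsg.Agent.Lib.Lead

open scoped Pointwise commutatorElement

section BF
variable {G : Type*} [Group G] [Fintype G] [DecidableEq G]

/-- The finset of involutions. -/
noncomputable def invs (G : Type*) [Group G] [Fintype G] [DecidableEq G] : Finset G :=
  Finset.univ.filter (fun t => orderOf t = 2)

theorem mem_invs {t : G} : t ∈ invs G ↔ orderOf t = 2 := by
  simp [invs]

theorem card_invs : (invs G).card = Nat.card {t : G // orderOf t = 2} := by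
  rw [← Fintype.card_coe, ← Nat.card_eq_fintype_card]
  exact Nat.card_congr (Equiv.subtypeEquivRight (fun g => mem_invs))

/-- The finset of elements of a centralizer. -/
def centF (x : G) : Finset G := Finset.univ.filter (fun g => g * x = x * g)

theorem mem_centF {x g : G} : g ∈ centF x ↔ g * x = x * g := by simp [centF]

theorem card_centF (x : G) :
    (centF x).card = Nat.card (Subgroup.centralizer ({x} : Set G)) := by
  rw [← Fintype.card_coe, ← Nat.card_eq_fintype_card]
  exact Nat.card_congr (Equiv.subtypeEquivRight (fun g => by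
    rw [mem_centF, Subgroup.mem_centralizer_singleton_iff]))

/-- Number of ways of writing `x` as a product of two involutions. -/
noncomputable def bfB (x : G) : ℕ := ((invs G ×ˢ invs G).filter (fun p => p.1 * p.2 = x)).card

theorem mem_bf_fiber {x : G} {p : G × G} :
    p ∈ (invs G ×ˢ invs G).filter (fun p => p.1 * p.2 = x) ↔
      orderOf p.1 = 2 ∧ orderOf p.2 = 2 ∧ p.1 * p.2 = x := by
  rw [Finset.mem_filter, Finset.mem_product, mem_invs, mem_invs, and_assoc]

theorem bf_sum : ∑ x : G, bfB x = (invs G).card ^ 2 := by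
  rw [sq, ← Finset.card_product]
  exact (Finset.card_eq_sum_card_fiberwise (f := fun p : G × G => p.1 * p.2)
    (s := invs G ×ˢ invs G) (t := Finset.univ) (fun p _ => Finset.mem_coe.mpr (Finset.mem_univ _))).symm

theorem bf_fiber_inj {x : G} {p q : G × G} (hp : p.1 * p.2 = x) (hq : q.1 * q.2 = x)
    (h : p.1 = q.1) : p = q := by
  apply Prod.ext h
  have : p.1 * p.2 = p.1 * q.2 := by rw [hp, h, hq]
  exact mul_left_cancel this

theorem bf_one : bfB (1 : G) ≤ (invs G).card := by
  unfold bfB
  apply Finset.card_le_card_of_injOn (fun p => p.1)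
  · intro p hp
    rw [Finset.mem_coe, mem_bf_fiber] at hp
    exact Finset.mem_coe.mpr (mem_invs.mpr hp.1)
  · intro p hp q hq h
    rw [Finset.mem_coe, mem_bf_fiber] at hp hq
    exact bf_fiber_inj hp.2.2 hq.2.2 h

theorem bfi_sq {u : G} (hu : orderOf u = 2) : u * u = 1 := by
  have := pow_orderOf_eq_one u
  rw [hu, pow_two] at this
  exact this

theorem bfi_inv {u : G} (hu : orderOf u = 2) : u⁻¹ = u :=
  inv_eq_of_mul_eq_one_left (bfi_sq hu)

/-- If `u v = x` with involutions `u, v`, then `u` inverts `x`. -/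
theorem bf_inverts {u v x : G} (hu : orderOf u = 2) (hv : orderOf v = 2) (h : u * v = x) :
    u * x * u = x⁻¹ := by
  subst h
  have h1 := bfi_sq hu
  have h2 := bfi_inv hu
  have h3 := bfi_inv hv
  calc u * (u * v) * u = (u * u) * v * u := by group
    _ = v * u := by rw [h1, one_mul]
    _ = v⁻¹ * u⁻¹ := by rw [h2, h3]
    _ = (u * v)⁻¹ := by group

theorem bf_invol {x : G} (hx : orderOf x = 2) :
    bfB x + 2 ≤ Nat.card (Subgroup.centralizer ({x} : Set G)) := by
  rw [← card_centF]
  have hx1 : x ≠ 1 := by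
    rintro rfl
    rw [orderOf_one] at hx
    omega
  have h1 : (1 : G) ∈ centF x := by rw [mem_centF, one_mul, mul_one]
  have h2 : x ∈ (centF x).erase 1 := Finset.mem_erase.mpr ⟨hx1, mem_centF.mpr rfl⟩
  have h3 := Finset.card_erase_add_one h1
  have h4 := Finset.card_erase_add_one h2
  have h5 : bfB x ≤ (((centF x).erase 1).erase x).card := by
    unfold bfB
    apply Finset.card_le_card_of_injOn (fun p => p.1)
    · intro p hp
      rw [Finset.mem_coe, mem_bf_fiber] at hp
      obtain ⟨hu, hv, h⟩ := hp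
      have hinv := bf_inverts hu hv h
      rw [bfi_inv hx] at hinv
      rw [Finset.mem_coe, Finset.mem_erase, Finset.mem_erase, mem_centF]
      refine ⟨?_, ?_, ?_⟩
      · rintro h6
        have h7 : p.1 * p.2 = x := h
        have h6' : p.1 = x := h6
        rw [h6'] at h7
        have h8 : p.2 = 1 := mul_left_cancel (a := x) (by rw [h7, mul_one])
        rw [h8, orderOf_one] at hv
        omega
      · rintro h6
        have h6' : p.1 = 1 := h6
        rw [h6', orderOf_one] at hu
        omega
      · have h9 : p.1 * x * p.1 * p.1 = x * p.1 := by rw [hinv]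
        rw [mul_assoc, bfi_sq hu, mul_one] at h9
        exact h9
    · intro p hp q hq h
      rw [Finset.mem_coe, mem_bf_fiber] at hp hq
      exact bf_fiber_inj hp.2.2 hq.2.2 h
  omega

theorem bf_le (x : G) : bfB x ≤ Nat.card (Subgroup.centralizer ({x} : Set G)) := by
  rw [← card_centF]
  by_cases hb : bfB x = 0
  · rw [hb]; exact Nat.zero_le _
  · have hne : ((invs G ×ˢ invs G).filter (fun p => p.1 * p.2 = x)).Nonempty := by
      rw [← Finset.card_pos]
      exact Nat.pos_of_ne_zero hb
    obtain ⟨p₀, hp₀⟩ := hne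
    rw [mem_bf_fiber] at hp₀
    obtain ⟨hu₀, hv₀, h₀⟩ := hp₀
    have hinv₀ := bf_inverts hu₀ hv₀ h₀
    unfold bfB
    apply Finset.card_le_card_of_injOn (fun p => p₀.1 * p.1)
    · intro p hp
      rw [Finset.mem_coe, mem_bf_fiber] at hp
      obtain ⟨hu, hv, h⟩ := hp
      have hinv := bf_inverts hu hv h
      rw [Finset.mem_coe, mem_centF]
      -- p₀.1 * p.1 * x = x * p₀.1 * p.1
      have h1 : p.1 * x = x⁻¹ * p.1 := by
        have : p.1 * x * p.1 * p.1 = x⁻¹ * p.1 := by rw [hinv]
        rw [mul_assoc, bfi_sq hu, mul_one] at this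
        exact this
      have h2 : p₀.1 * x⁻¹ = x * p₀.1 := by
        have : p₀.1 * (p₀.1 * x * p₀.1) = p₀.1 * x⁻¹ := by rw [hinv₀]
        rw [← this, ← mul_assoc, ← mul_assoc, bfi_sq hu₀, one_mul]
      calc p₀.1 * p.1 * x = p₀.1 * (p.1 * x) := by group
        _ = p₀.1 * (x⁻¹ * p.1) := by rw [h1]
        _ = (p₀.1 * x⁻¹) * p.1 := by group
        _ = x * p₀.1 * p.1 := by rw [h2]
        _ = x * (p₀.1 * p.1) := by group
    · intro p hp q hq h
      rw [Finset.mem_coe, mem_bf_fiber] at hp hq
      exact bf_fiber_inj hp.2.2 hq.2.2 (mul_left_cancel h)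

/-- The extended centralizer `C*(x)`. -/
def extCent (x : G) : Subgroup G where
  carrier := {g | g * x * g⁻¹ = x ∨ g * x * g⁻¹ = x⁻¹}
  one_mem' := by left; simp
  mul_mem' := by
    intro a b ha hb
    have h : a * b * x * (a * b)⁻¹ = a * (b * x * b⁻¹) * a⁻¹ := by group
    rcases hb with hb | hb
    · rcases ha with ha | ha
      · left; show a * b * x * (a * b)⁻¹ = x; rw [h, hb, ha]
      · right; show a * b * x * (a * b)⁻¹ = x⁻¹; rw [h, hb, ha]
    · have h' : a * x⁻¹ * a⁻¹ = (a * x * a⁻¹)⁻¹ := by group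
      rcases ha with ha | ha
      · right; show a * b * x * (a * b)⁻¹ = x⁻¹; rw [h, hb, h', ha]
      · left; show a * b * x * (a * b)⁻¹ = x; rw [h, hb, h', ha, inv_inv]
  inv_mem' := by
    intro a ha
    rcases ha with ha | ha
    · left
      show a⁻¹ * x * a⁻¹⁻¹ = x
      calc a⁻¹ * x * a⁻¹⁻¹ = a⁻¹ * (a * x * a⁻¹) * a := by rw [ha, inv_inv]
        _ = x := by group
    · right
      show a⁻¹ * x * a⁻¹⁻¹ = x⁻¹
      have h' : a * x⁻¹ * a⁻¹ = (a * x * a⁻¹)⁻¹ := by group
      calc a⁻¹ * x * a⁻¹⁻¹ = a⁻¹ * (a * x * a⁻¹)⁻¹ * a := by rw [ha, inv_inv, inv_inv]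
        _ = x⁻¹ := by group

theorem mem_extCent {x g : G} : g ∈ extCent x ↔ g * x * g⁻¹ = x ∨ g * x * g⁻¹ = x⁻¹ := Iff.rfl

theorem bf_pos_index {x : G} (hx : x ^ 2 ≠ 1) (hb : bfB x ≠ 0)
    (h2 : ∀ H : Subgroup G, H.index ≠ 2) :
    ∃ K : Subgroup G, K ≠ ⊤ ∧ 2 * Nat.card (Subgroup.centralizer ({x} : Set G)) ≤ Nat.card K := by
  have hne : ((invs G ×ˢ invs G).filter (fun p => p.1 * p.2 = x)).Nonempty := by
    rw [← Finset.card_pos]
    exact Nat.pos_of_ne_zero hb
  obtain ⟨p₀, hp₀⟩ := hne
  rw [mem_bf_fiber] at hp₀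
  obtain ⟨hu₀, hv₀, h₀⟩ := hp₀
  have hinv₀ := bf_inverts hu₀ hv₀ h₀
  have hxx : x ≠ x⁻¹ := by
    intro h
    apply hx
    rw [pow_two]
    nth_rewrite 2 [h]
    exact mul_inv_cancel x
  have hle : Subgroup.centralizer ({x} : Set G) ≤ extCent x := by
    intro g hg
    rw [Subgroup.mem_centralizer_singleton_iff] at hg
    rw [mem_extCent]
    left
    rw [hg, mul_assoc, mul_inv_cancel, mul_one]
  have hu₀mem : p₀.1 ∈ extCent x := by
    rw [mem_extCent]
    right
    rw [bfi_inv hu₀]
    exact hinv₀
  have hu₀not : p₀.1 ∉ Subgroup.centralizer ({x} : Set G) := by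
    intro hg
    rw [Subgroup.mem_centralizer_singleton_iff] at hg
    apply hxx
    rw [← hinv₀, hg, mul_assoc, bfi_sq hu₀, mul_one]
  refine ⟨extCent x, ?_, ?_⟩
  · intro htop
    apply h2 (Subgroup.centralizer ({x} : Set G))
    rw [Subgroup.index_eq_two_iff]
    refine ⟨p₀.1, fun b => ?_⟩
    have hb : b ∈ extCent x := by rw [htop]; exact Subgroup.mem_top b
    rw [mem_extCent] at hb
    rw [Subgroup.mem_centralizer_singleton_iff, Subgroup.mem_centralizer_singleton_iff]
    have e1 : b * p₀.1 * x = b * x⁻¹ * p₀.1 := by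
      have : p₀.1 * x = x⁻¹ * p₀.1 := by
        have : p₀.1 * x * p₀.1 * p₀.1 = x⁻¹ * p₀.1 := by rw [hinv₀]
        rw [mul_assoc, bfi_sq hu₀, mul_one] at this
        exact this
      rw [mul_assoc, this, ← mul_assoc]
    rcases hb with hb | hb
    · right
      refine ⟨?_, ?_⟩
      · have : b * x = x * b := by
          have : b * x * b⁻¹ * b = x * b := by rw [hb]
          rw [mul_assoc, inv_mul_cancel, mul_one] at this
          exact this
        exact this
      · intro h
        rw [e1] at h
        have h3 : b * x⁻¹ = x * b := mul_right_cancel (by rw [h, mul_assoc])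
        have h4 : b * x⁻¹ * b⁻¹ = x := by rw [h3, mul_assoc, mul_inv_cancel, mul_one]
        have h' : b * x⁻¹ * b⁻¹ = (b * x * b⁻¹)⁻¹ := by group
        rw [h', hb] at h4
        exact hxx h4.symm
    · left
      refine ⟨?_, ?_⟩
      · rw [e1]
        have h' : b * x⁻¹ * b⁻¹ = (b * x * b⁻¹)⁻¹ := by group
        rw [hb, inv_inv] at h'
        have : b * x⁻¹ * b⁻¹ * b = x * b := by rw [h']
        rw [mul_assoc _ b⁻¹ b, inv_mul_cancel, mul_one] at this
        rw [this, mul_assoc]
      · intro h
        have h4 : b * x * b⁻¹ = x := by rw [h, mul_assoc, mul_inv_cancel, mul_one]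
        rw [hb] at h4
        exact hxx h4.symm
  · obtain ⟨k, hk⟩ := Subgroup.card_dvd_of_le hle
    have hk0 : k ≠ 0 := by
      rintro rfl
      rw [mul_zero] at hk
      exact (Nat.card_pos (α := extCent x)).ne' hk
    have hk1 : k ≠ 1 := by
      rintro rfl
      rw [mul_one] at hk
      have := Subgroup.eq_of_le_of_card_ge hle hk.le
      exact hu₀not (this ▸ hu₀mem)
    rw [hk]
    have : 2 ≤ k := by omega
    calc 2 * Nat.card (Subgroup.centralizer ({x} : Set G))
        = Nat.card (Subgroup.centralizer ({x} : Set G)) * 2 := by ring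
      _ ≤ Nat.card (Subgroup.centralizer ({x} : Set G)) * k := Nat.mul_le_mul_left _ this

/-- The Brauer–Fowler counting inequality. -/
theorem bf_ineq (m : ℕ)
    (hm : ∀ H : Subgroup G, H ≠ ⊤ → m * Nat.card H ≤ Fintype.card G)
    (h2 : ∀ H : Subgroup G, H.index ≠ 2)
    (hZ : ∀ t : G, orderOf t = 2 → Subgroup.centralizer ({t} : Set G) ≠ ⊤) :
    2 * m * (invs G).card ^ 2 + 2 * m * (invs G).card + Fintype.card G
      ≤ Fintype.card G * (Fintype.card G + (invs G).card) := by
  have hkey : ∀ x : G, 2 * m * bfB x + (if orderOf x = 2 then 4 * m else 0)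
      + (if x = 1 then Fintype.card G else 0)
      ≤ Fintype.card G + (if orderOf x = 2 then Fintype.card G else 0)
        + (if x = 1 then 2 * m * (invs G).card else 0) := by
    intro x
    by_cases hx1 : x = 1
    · subst hx1
      have h1 := bf_one (G := G)
      have h3 : ¬ orderOf (1 : G) = 2 := by rw [orderOf_one]; omega
      rw [if_neg h3, if_pos rfl, if_neg h3, if_pos rfl]
      have : 2 * m * bfB (1 : G) ≤ 2 * m * (invs G).card := Nat.mul_le_mul_left _ h1
      omega
    · by_cases hx2 : orderOf x = 2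
      · have h1 := bf_invol hx2
        have h3 := hm _ (hZ x hx2)
        rw [if_pos hx2, if_neg hx1, if_pos hx2, if_neg hx1]
        nlinarith
      · rw [if_neg hx2, if_neg hx1, if_neg hx2, if_neg hx1]
        by_cases hb : bfB x = 0
        · rw [hb]; omega
        · have hsq : x ^ 2 ≠ 1 := by
            intro h
            have hd := orderOf_dvd_of_pow_eq_one h
            have hle := Nat.le_of_dvd (by norm_num) hd
            have h0 : orderOf x ≠ 0 := (orderOf_pos x).ne'
            have h1 : orderOf x ≠ 1 := by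
              intro h1
              exact hx1 (orderOf_eq_one_iff.mp h1)
            omega
          obtain ⟨K, hK, hK2⟩ := bf_pos_index hsq hb h2
          have h3 := hm K hK
          have h4 := bf_le x
          nlinarith
  have hs := Finset.sum_le_sum (fun x (_ : x ∈ Finset.univ) => hkey x)
  rw [Finset.sum_add_distrib, Finset.sum_add_distrib, Finset.sum_add_distrib, Finset.sum_add_distrib,
    ← Finset.mul_sum, bf_sum, Finset.sum_ite_eq', Finset.sum_ite_eq', if_pos (Finset.mem_univ _),
    if_pos (Finset.mem_univ _), Finset.sum_const, Finset.card_univ, smul_eq_mul,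
    Finset.sum_ite, Finset.sum_ite] at hs
  simp only [Finset.sum_const, Finset.sum_const_zero, smul_eq_mul, mul_zero, add_zero] at hs
  have hc : (Finset.univ.filter (fun t : G => orderOf t = 2)).card = (invs G).card := rfl
  rw [hc] at hs
  nlinarith

end BF

end Cfsg.Agent.Lib.Lead
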