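import Mathlib
import Cfsg.Prelude.Def_Transfer
import Cfsg.Agent.Lib.Lead.SylowAux2
import Cfsg.Agent.Lib.Lead.PResidual
import Cfsg.Agent.Lib.Lead.Glauberman2
import Cfsg.Agent.S0219

set_option autoImplicit false

namespace Cfsg.Agent.Lib.Lead

open scoped Pointwise

section transferHom

open MulAction Subgroup

/-- Thompson transfer lemma, homomorphism form: an element of order `2 ^ n` none of whose
conjugates lies in the index-two subgroup `M` of a Sylow `2`-subgroup (all of whose elements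
outside `M` have order exceeding `2 ^ (n - 1)`) is mapped to `-1` by a homomorphism to `ℤˣ`. -/
theorem thompson_transfer_hom {G : Type*} [Group G] [Finite G] (S : Sylow 2 G) (M : Subgroup G)
    (hM : M.relIndex (S : Subgroup G) = 2)
    (n : ℕ) (hn : 1 ≤ n) (hord : ∀ y ∈ (S : Subgroup G), y ∉ M → 2 ^ (n - 1) < orderOf y)
    (x : G) (hxn : orderOf x = 2 ^ n) (hcon : ∀ g : G, g * x * g⁻¹ ∉ M) :
    ∃ f : G →* ℤˣ, f x = -1 := by
  classical
  set H : Subgroup G := (S : Subgroup G) with hH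
  let M' : Subgroup H := M.subgroupOf H
  have hM' : M'.index = 2 := hM
  let ϕ : H →* ℤˣ :=
    { toFun := fun s => if s ∈ M' then 1 else -1
      map_one' := by simp [M'.one_mem]
      map_mul' := by
        intro a b
        by_cases ha : a ∈ M' <;> by_cases hb : b ∈ M' <;>
          simp [ha, hb, Subgroup.mul_mem_iff_of_index_two hM'] }
  have hϕ1 : ∀ s : H, (s : G) ∈ M → ϕ s = 1 := by
    intro s hs
    have : s ∈ M' := by rw [Subgroup.mem_subgroupOf]; exact hs
    simp [ϕ, this]
  have hϕ2 : ∀ s : H, (s : G) ∉ M → ϕ s = -1 := by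
    intro s hs
    have : s ∉ M' := by rw [Subgroup.mem_subgroupOf]; exact hs
    simp [ϕ, this]
  let _ : Fintype (Quotient (orbitRel (zpowers x) (G ⧸ H))) := Fintype.ofFinite _
  have key : ∀ (k : ℕ) (g₀ : G) (hmem : g₀⁻¹ * x ^ k * g₀ ∈ H), k ∣ 2 ^ n →
      ϕ ⟨g₀⁻¹ * x ^ k * g₀, hmem⟩ = (-1 : ℤˣ) ^ k := by
    intro k g₀ hmem hkdvd
    obtain ⟨j, -, hj⟩ := (Nat.dvd_prime_pow Nat.prime_two).mp hkdvd
    by_cases hj0 : j = 0
    · have hk1 : k = 1 := by rw [hj, hj0, pow_zero]
      subst hk1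
      have h1 : (-1 : ℤˣ) ^ 1 = -1 := pow_one _
      rw [h1]
      apply hϕ2
      have := hcon g₀⁻¹
      simp only [inv_inv] at this
      simpa using this
    · have hjpos : 1 ≤ j := Nat.one_le_iff_ne_zero.mpr hj0
      have heven : Even k := by
        rw [hj]
        exact (Nat.even_pow.mpr ⟨even_two, hj0⟩)
      rw [heven.neg_one_pow]
      apply hϕ1
      by_contra hnot
      have hlt := hord _ hmem hnot
      have hpow : (g₀⁻¹ * x ^ k * g₀) ^ (2 ^ (n - 1)) = 1 := by
        have h1 : (g₀⁻¹ * x ^ k * g₀) ^ (2 ^ (n - 1)) = g₀⁻¹ * (x ^ k) ^ (2 ^ (n - 1)) * g₀ := by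
          have := conj_pow (a := g₀⁻¹) (b := x ^ k) (i := 2 ^ (n - 1))
          simpa using this
        rw [h1, ← pow_mul, hj]
        have h2 : 2 ^ j * 2 ^ (n - 1) = 2 ^ n * 2 ^ (j - 1) := by
          rw [← pow_add, ← pow_add]
          congr 1
          omega
        rw [h2, pow_mul, ← hxn, pow_orderOf_eq_one, one_pow]
        group
      have hle : orderOf (g₀⁻¹ * x ^ k * g₀) ≤ 2 ^ (n - 1) :=
        Nat.le_of_dvd (by positivity) (orderOf_dvd_of_pow_eq_one hpow)
      omega
  have hfac : ∀ q : Quotient (orbitRel (zpowers x) (G ⧸ H)),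
      ϕ ⟨q.out.out⁻¹ * x ^ Function.minimalPeriod (x • ·) q.out * q.out.out,
        QuotientGroup.out_conj_pow_minimalPeriod_mem H x q.out⟩
        = (-1 : ℤˣ) ^ Function.minimalPeriod (x • ·) q.out := by
    intro q
    apply key
    rw [← hxn]
    apply Function.IsPeriodicPt.minimalPeriod_dvd
    show (x • ·)^[orderOf x] q.out = q.out
    rw [smul_iterate_apply, pow_orderOf_eq_one, one_smul]
  have htr : MonoidHom.transfer ϕ x = -1 := by
    rw [MonoidHom.transfer_eq_prod_quotient_orbitRel_zpowers_quot,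
      Finset.prod_congr rfl (fun q _ => hfac q), Finset.prod_pow_eq_pow_sum,
      ← Subgroup.index_eq_sum_minimalPeriod H x]
    have hodd : Odd H.index := by
      rw [← Nat.not_even_iff_odd, even_iff_two_dvd]
      exact S.not_dvd_index
    exact hodd.neg_one_pow
  exact ⟨MonoidHom.transfer ϕ, htr⟩

end transferHom

/-- `O^2(G)` lies in the kernel of every homomorphism to `ℤˣ`. -/
theorem pResidual_le_ker_units {G : Type*} [Group G] (f : G →* ℤˣ) :
    Cfsg.pResidual 2 G ≤ f.ker := by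
  show Subgroup.closure {g : G | Nat.Coprime (orderOf g) 2} ≤ f.ker
  rw [Subgroup.closure_le]
  intro g hg
  have hg' : Nat.Coprime (orderOf g) 2 := hg
  rw [SetLike.mem_coe, MonoidHom.mem_ker]
  rcases Int.units_eq_one_or (f g) with h | h
  · exact h
  · exfalso
    have h1 : f g ^ orderOf g = 1 := by rw [← map_pow, pow_orderOf_eq_one, map_one]
    rw [h] at h1
    have hodd : Odd (orderOf g) := Nat.coprime_two_right.1 hg'
    rw [hodd.neg_one_pow] at h1
    exact absurd h1 (by decide)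

/-- `O^p(O^p(G)) = O^p(G)`. -/
theorem pResidual_pResidual_top {G : Type*} [Group G] (p : ℕ) :
    Cfsg.pResidual p ↥(Cfsg.pResidual p G) = ⊤ := by
  apply Subgroup.map_injective (Cfsg.pResidual p G).subtype_injective
  rw [← MonoidHom.range_eq_map, Subgroup.range_subtype]
  apply le_antisymm (Subgroup.map_subtype_le _)
  show Subgroup.closure {g : G | Nat.Coprime (orderOf g) p} ≤ _
  rw [Subgroup.closure_le]
  intro g hg
  have hgK : g ∈ Cfsg.pResidual p G := Subgroup.subset_closure hg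
  refine Subgroup.mem_map.2 ⟨⟨g, hgK⟩, ?_, rfl⟩
  apply Subgroup.subset_closure
  show Nat.Coprime (orderOf (⟨g, hgK⟩ : ↥(Cfsg.pResidual p G))) p
  rw [← Subgroup.orderOf_coe]
  exact hg

/-- A group with `O^2(G) = G` has no subgroup of index two. -/
theorem no_index_two_of_pResidual_top {G : Type*} [Group G]
    (hO : Cfsg.pResidual 2 G = ⊤) : ∀ H : Subgroup G, H.index ≠ 2 := by
  intro H hH
  have hle : Cfsg.pResidual 2 G ≤ H := by
    show Subgroup.closure {g : G | Nat.Coprime (orderOf g) 2} ≤ H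
    rw [Subgroup.closure_le]
    intro g hg
    have hg' : Nat.Coprime (orderOf g) 2 := hg
    have hodd : Odd (orderOf g) := Nat.coprime_two_right.1 hg'
    obtain ⟨k, hk⟩ := hodd
    have h1 : g = (g ^ 2) ^ (k + 1) := by
      rw [← pow_mul, show 2 * (k + 1) = orderOf g + 1 by omega, pow_succ, pow_orderOf_eq_one,
        one_mul]
    show g ∈ H
    rw [h1]
    exact H.pow_mem (Subgroup.sq_mem_of_index_two hH g) _
  rw [hO] at hle
  rw [top_le_iff.1 hle, Subgroup.index_top] at hH
  omega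

/-- The nonzero `2`-torsion element of `ZMod n` is unique. -/
theorem zmod_two_torsion_unique (n : ℕ) [NeZero n] (j k : ZMod n) (hj : 2 * j = 0) (hj0 : j ≠ 0)
    (hk : 2 * k = 0) (hk0 : k ≠ 0) : j = k := by
  have hn : 0 < n := Nat.pos_of_ne_zero (NeZero.ne n)
  have key : ∀ x : ZMod n, 2 * x = 0 → x ≠ 0 → 2 * x.val = n := by
    intro x hx hx0
    have h1 : ((2 * x.val : ℕ) : ZMod n) = 0 := by
      rw [Nat.cast_mul, ZMod.natCast_zmod_val]
      exact_mod_cast hx
    rw [ZMod.natCast_eq_zero_iff] at h1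
    have h2 : x.val < n := ZMod.val_lt x
    have h3 : x.val ≠ 0 := fun h => hx0 ((ZMod.val_eq_zero x).1 h)
    obtain ⟨c, hc⟩ := h1
    have hc1 : c = 1 := by
      rcases Nat.lt_or_ge c 1 with h | h
      · have h0 : c = 0 := by omega
        subst h0
        omega
      · rcases Nat.lt_or_ge c 2 with h' | h'
        · omega
        · exfalso
          have : n * 2 ≤ n * c := Nat.mul_le_mul_left n h'
          omega
    rw [hc, hc1, mul_one]
  apply ZMod.val_injective n
  have h1 := key j hj hj0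
  have h2 := key k hk hk0
  omega

/-- A rotation of order two. -/
theorem dihedral_r_invol {n : ℕ} (k : ZMod n) (h : orderOf (DihedralGroup.r k) = 2) :
    2 * k = 0 ∧ k ≠ 0 := by
  have h1 : (DihedralGroup.r k) ^ 2 = 1 := by rw [← h]; exact pow_orderOf_eq_one _
  rw [pow_two, DihedralGroup.r_mul_r, DihedralGroup.one_def] at h1
  have h2 : k + k = 0 := DihedralGroup.r.inj h1
  refine ⟨by rw [two_mul]; exact h2, ?_⟩
  rintro rfl
  rw [← DihedralGroup.one_def, orderOf_one] at h
  omega

/-- A central involution lies in every Sylow `2`-subgroup. -/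
theorem central_invol_mem_sylow {X : Type*} [Group X] [Finite X] (P : Sylow 2 X) (a : X)
    (ha : ∀ c : X, c * a = a * c) (ho : orderOf a = 2) : a ∈ (P : Subgroup X) := by
  have h1 : IsPGroup 2 ↥(Subgroup.zpowers a) := isPGroup_zpowers_invol ho
  have han : a ∈ Subgroup.normalizer ((P : Subgroup X) : Set X) := by
    apply mem_normalizer_of_conj_mem
    intro x hx
    have : a * x * a⁻¹ = x := by rw [← ha x]; group
    rw [this]; exact hx
  have h2 : Subgroup.zpowers a ≤ Subgroup.normalizer ((P : Subgroup X) : Set X) := by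
    rw [Subgroup.zpowers_le]
    exact han
  have h3 : IsPGroup 2 ↥(Subgroup.zpowers a ⊔ (P : Subgroup X)) :=
    IsPGroup.to_sup_of_normal_right' h1 P.2 h2
  have h4 : Subgroup.zpowers a ⊔ (P : Subgroup X) = (P : Subgroup X) := P.3 h3 le_sup_right
  rw [← h4]
  exact Subgroup.mem_sup_left (Subgroup.mem_zpowers a)

/-- Transfer criterion: if `M` is a cyclic subgroup of a Sylow `2`-subgroup `R` with the product
of any two elements of `R ∖ M` in `M`, and every element of `R ∖ M` is an involution with no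
conjugate in `M`, then `O^2(G)` has odd order. -/
theorem odd_card_pResidual_of_transfer {G : Type*} [Group G] [Finite G] (R : Sylow 2 G)
    (M : Subgroup G) (hMR : M ≤ (R : Subgroup G)) (hMc : IsCyclic M)
    (hmul : ∀ a ∈ (R : Subgroup G), ∀ b ∈ (R : Subgroup G), a ∉ M → b ∉ M → a * b ∈ M)
    (hx : ∀ x ∈ (R : Subgroup G), x ∉ M → orderOf x = 2 ∧ ∀ g : G, g * x * g⁻¹ ∉ M) :
    Odd (Nat.card (Cfsg.pResidual 2 G)) := by
  classical
  haveI hKn : (Cfsg.pResidual 2 G).Normal := pResidual_normal 2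
  have h1 : ∀ x ∈ (R : Subgroup G), x ∈ Cfsg.pResidual 2 G → x ∈ M := by
    intro x hxR hxK
    by_contra hxM
    obtain ⟨hx2, hxc⟩ := hx x hxR hxM
    have hrel : M.relIndex (R : Subgroup G) = 2 := by
      rw [Subgroup.relIndex_eq_two_iff]
      refine ⟨x, hxR, fun b hb => ?_⟩
      by_cases hbM : b ∈ M
      · right
        refine ⟨hbM, fun hba => hxM ?_⟩
        have : x = b⁻¹ * (b * x) := by group
        rw [this]; exact M.mul_mem (M.inv_mem hbM) hba
      · left
        exact ⟨hmul b hb x hxR hbM hxM, hbM⟩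
    obtain ⟨f, hf⟩ := thompson_transfer_hom R M hrel 1 le_rfl
      (fun y hy hyM => by rw [(hx y hy hyM).1]; norm_num) x (by rw [hx2]; norm_num) hxc
    have h2 : x ∈ f.ker := pResidual_le_ker_units f hxK
    rw [MonoidHom.mem_ker, hf] at h2
    exact absurd h2 (by decide)
  rw [← Nat.not_even_iff_odd]
  intro heven
  have hres := pResidual_pResidual_top (G := G) 2
  have hno := no_index_two_of_pResidual_top hres
  obtain ⟨RK⟩ : Nonempty (Sylow 2 ↥(Cfsg.pResidual 2 G)) := inferInstance
  have hRKp : IsPGroup 2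
      ↥((RK : Subgroup ↥(Cfsg.pResidual 2 G)).map (Cfsg.pResidual 2 G).subtype) :=
    RK.isPGroup'.map _
  obtain ⟨g, hg⟩ := sylow_conj_mem R _ hRKp
  have hmem : ∀ q : ↥(RK : Subgroup ↥(Cfsg.pResidual 2 G)),
      g * ((q : ↥(Cfsg.pResidual 2 G)) : G) * g⁻¹ ∈ M := by
    intro q
    apply h1
    · exact hg _ (Subgroup.mem_map.2 ⟨q.1, q.2, rfl⟩)
    · exact hKn.conj_mem _ q.1.2 g
  let ψ : ↥(RK : Subgroup ↥(Cfsg.pResidual 2 G)) →* ↥M :=
    { toFun := fun q => ⟨g * ((q : ↥(Cfsg.pResidual 2 G)) : G) * g⁻¹, hmem q⟩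
      map_one' := by
        apply Subtype.ext
        show g * (1 : G) * g⁻¹ = 1
        group
      map_mul' := by
        intro a b
        apply Subtype.ext
        show g * (((a : ↥(Cfsg.pResidual 2 G)) : G) * ((b : ↥(Cfsg.pResidual 2 G)) : G)) * g⁻¹
          = (g * ((a : ↥(Cfsg.pResidual 2 G)) : G) * g⁻¹)
            * (g * ((b : ↥(Cfsg.pResidual 2 G)) : G) * g⁻¹)
        group }
  have hψ : Function.Injective ψ := by
    intro a b hab
    have h2 : g * ((a : ↥(Cfsg.pResidual 2 G)) : G) * g⁻¹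
        = g * ((b : ↥(Cfsg.pResidual 2 G)) : G) * g⁻¹ := congrArg Subtype.val hab
    have h3 : ((a : ↥(Cfsg.pResidual 2 G)) : G) = ((b : ↥(Cfsg.pResidual 2 G)) : G) :=
      mul_left_cancel (mul_right_cancel h2)
    exact Subtype.ext (Subtype.ext h3)
  haveI : IsCyclic ↥M := hMc
  have hRKc : IsCyclic ↥(RK : Subgroup ↥(Cfsg.pResidual 2 G)) := isCyclic_of_injective ψ hψ
  obtain ⟨H, hH⟩ := Cfsg.Agent.S0219.result heven RK hRKc
  exact hno H hH

/-- If `O^2(G)` has odd order then `G` has a normal `2`-complement. -/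
theorem hasNPC_of_odd_pResidual {G : Type*} [Group G] [Finite G]
    (h : Odd (Nat.card (Cfsg.pResidual 2 G))) : Cfsg.HasNormalPComplement 2 G := by
  haveI hKn : (Cfsg.pResidual 2 G).Normal := pResidual_normal 2
  obtain ⟨P⟩ : Nonempty (Sylow 2 G) := inferInstance
  refine ⟨P, Cfsg.pResidual 2 G, hKn, ?_⟩
  apply Subgroup.isComplement'_of_disjoint_and_mul_eq_univ
  · apply Subgroup.disjoint_of_coprime_natCard
    obtain ⟨k, hk⟩ := (IsPGroup.iff_card (p := 2)).mp P.isPGroup'
    rw [hk]
    exact Nat.Coprime.pow_right k (Nat.coprime_two_right.2 h)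
  · rw [← Subgroup.normal_mul, sup_comm, sylow_sup_pResidual P, Subgroup.coe_top]

end Cfsg.Agent.Lib.Lead
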