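import Mathlib
import Cfsg.Agent.Lib.Lead.DihFusion
import Cfsg.Agent.Lib.Lead.Invol

set_option autoImplicit false

namespace Cfsg.Agent.Lib.Lead

open scoped Pointwise

/-- Two distinct commuting involutions span a Klein four-group. -/
theorem klein_of_two_invol {G : Type*} [Group G] (x y : G) (hx : orderOf x = 2)
    (hy : orderOf y = 2) (hxy : x * y = y * x) (hne : x ≠ y) :
    ∃ U : Subgroup G, IsKleinFour ↥U ∧ ∀ u : G, u ∈ U ↔ u = 1 ∨ u = x ∨ u = y ∨ u = x * y := by
  classical
  have hx2 : x * x = 1 := invol_mul_self hx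
  have hy2 : y * y = 1 := invol_mul_self hy
  have hx1 : x ≠ 1 := invol_ne_one hx
  have hy1 : y ≠ 1 := invol_ne_one hy
  have h3 : y * x = x * y := hxy.symm
  have h4 : x * (x * y) = y := by rw [← mul_assoc, hx2, one_mul]
  have h5 : y * (x * y) = x := by rw [← mul_assoc, h3, mul_assoc, hy2, mul_one]
  have h6 : x * y * x = y := by rw [mul_assoc, h3, h4]
  have h7 : x * y * y = x := by rw [mul_assoc, hy2, mul_one]
  have h8 : x * y * (x * y) = 1 := by rw [mul_assoc, h5, hx2]
  have hxinv : x⁻¹ = x := invol_inv hx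
  have hyinv : y⁻¹ = y := invol_inv hy
  have hxyinv : (x * y)⁻¹ = x * y := by rw [mul_inv_rev, hxinv, hyinv, h3]
  let U : Subgroup G :=
    { carrier := {u | u = 1 ∨ u = x ∨ u = y ∨ u = x * y}
      mul_mem' := by
        intro a b ha hb
        rcases ha with ha | ha | ha | ha <;> rcases hb with hb | hb | hb | hb <;>
          rw [ha, hb] <;>
          simp only [Set.mem_ofPred_eq, one_mul, mul_one, hx2, hy2, h3, h4, h5, h6, h7, h8] <;>
          simp
      one_mem' := Or.inl rfl
      inv_mem' := by
        intro a ha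
        rcases ha with ha | ha | ha | ha <;> rw [ha]
        · simp
        · rw [hxinv]; exact Or.inr (Or.inl rfl)
        · rw [hyinv]; exact Or.inr (Or.inr (Or.inl rfl))
        · rw [hxyinv]; exact Or.inr (Or.inr (Or.inr rfl)) }
  have hUmem : ∀ u : G, u ∈ U ↔ u = 1 ∨ u = x ∨ u = y ∨ u = x * y := fun u => Iff.rfl
  refine ⟨U, ⟨?_, ?_⟩, hUmem⟩
  · have hUcoe : (U : Set G) = {1, x, y, x * y} := by
      ext u
      exact hUmem u
    have m1 : y ∉ ({x * y} : Set G) := by
      intro h
      have h' : y = x * y := h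
      apply hx1
      calc x = x * y * y := h7.symm
        _ = y * y := by rw [← h']
        _ = 1 := hy2
    have m2 : x ∉ ({y, x * y} : Set G) := by
      intro h
      rcases h with h | h
      · exact hne h
      · have h' : x = x * y := h
        apply hy1
        calc y = x * (x * y) := h4.symm
          _ = x * x := by rw [← h']
          _ = 1 := hx2
    have m3 : (1 : G) ∉ ({x, y, x * y} : Set G) := by
      intro h
      rcases h with h | h | h
      · exact hx1 h.symm
      · exact hy1 h.symm
      · have h' : (1 : G) = x * y := h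
        apply hne
        calc x = x * y * y := h7.symm
          _ = 1 * y := by rw [← h']
          _ = y := one_mul y
    have e1 : ({x * y} : Set G).ncard = 1 := Set.ncard_singleton _
    have e2 : ({y, x * y} : Set G).ncard = 2 := by rw [Set.ncard_insert_of_notMem m1, e1]
    have e3 : ({x, y, x * y} : Set G).ncard = 3 := by rw [Set.ncard_insert_of_notMem m2, e2]
    have e4 : ({1, x, y, x * y} : Set G).ncard = 4 := by rw [Set.ncard_insert_of_notMem m3, e3]
    have h0 : Nat.card ↥U = (U : Set G).ncard := rfl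
    rw [h0, hUcoe, e4]
  · have hpow : ∀ g : ↥U, g ^ 2 = 1 := by
      intro g
      apply Subtype.ext
      have hg := (hUmem g.1).1 g.2
      show (g : G) ^ 2 = 1
      rcases hg with hg | hg | hg | hg <;> rw [hg, pow_two]
      · exact one_mul 1
      · exact hx2
      · exact hy2
      · exact h8
    have hdvd : Monoid.exponent ↥U ∣ 2 := Monoid.exponent_dvd_of_forall_pow_eq_one hpow
    have hne1 : Monoid.exponent ↥U ≠ 1 := by
      intro h
      rw [Monoid.exp_eq_one_iff] at h
      have : (⟨x, (hUmem x).2 (Or.inr (Or.inl rfl))⟩ : ↥U) = 1 := Subsingleton.elim _ _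
      exact hx1 (congrArg Subtype.val this)
    rcases (Nat.dvd_prime Nat.prime_two).1 hdvd with h | h
    · exact absurd h hne1
    · exact h

/-- If a Sylow `2`-subgroup `P` centralizes `x` and the involution `y` commutes with `x`, then
some element of `C(x)` conjugates `y` into `P`. -/
theorem exists_conj_mem_of_le_centralizer {X : Type*} [Group X] [Finite X] (P : Sylow 2 X)
    (x y : X) (hP : ∀ s ∈ (P : Subgroup X), s * x = x * s) (hy : orderOf y = 2)
    (hxy : y * x = x * y) : ∃ c : X, c * x = x * c ∧ c * y * c⁻¹ ∈ (P : Subgroup X) := by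
  have hle : (P : Subgroup X) ≤ Subgroup.centralizer ({x} : Set X) := by
    intro s hs
    rw [Subgroup.mem_centralizer_iff]
    intro z hz
    rw [Set.mem_singleton_iff] at hz
    rw [hz]; exact (hP s hs).symm
  have hyC : y ∈ Subgroup.centralizer ({x} : Set X) := by
    rw [Subgroup.mem_centralizer_iff]
    intro z hz
    rw [Set.mem_singleton_iff] at hz
    rw [hz]; exact hxy.symm
  have hQ : IsPGroup 2
      ↥(Subgroup.zpowers (⟨y, hyC⟩ : ↥(Subgroup.centralizer ({x} : Set X)))) := by
    apply isPGroup_zpowers_invol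
    rw [← Subgroup.orderOf_coe]; exact hy
  obtain ⟨c, hc⟩ := sylow_conj_mem (P.subtype hle) _ hQ
  refine ⟨(c : X), ?_, ?_⟩
  · exact (Subgroup.mem_centralizer_iff.1 c.2 x (Set.mem_singleton x)).symm
  · have h1 := hc _ (Subgroup.mem_zpowers _)
    have h2 : c * ⟨y, hyC⟩ * c⁻¹ ∈
        (P : Subgroup X).subgroupOf (Subgroup.centralizer ({x} : Set X)) := h1
    exact Subgroup.mem_subgroupOf.1 h2

end Cfsg.Agent.Lib.Lead
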