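import Mathlib

set_option autoImplicit false

namespace Cfsg.Agent.Lib.Lead

universe u

theorem nilpotencyClass_le_of_card (p : ℕ) [Fact p.Prime] : ∀ (m : ℕ) (G : Type u) [Group G]
    [Finite G], Nat.card G = p ^ m → Group.nilpotencyClass G ≤ max 1 (m - 1) := by
  intro m
  induction m using Nat.strong_induction_on with
  | _ m ih =>
    intro G _ _ hG
    have hp : p.Prime := Fact.out
    by_cases hm : m ≤ 2
    · have hcomm : ∀ a b : G, a * b = b * a := by
        interval_cases m
        · rw [pow_zero] at hG
          haveI : Subsingleton G := (Nat.card_eq_one_iff_unique.mp hG).1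
          intro a b; exact Subsingleton.elim _ _
        · rw [pow_one] at hG
          haveI : IsCyclic G := isCyclic_of_prime_card hG
          intro a b; exact (IsCyclic.isMulCommutative).is_comm.comm a b
        · intro a b; exact (IsPGroup.isMulCommutative_of_card_eq_prime_sq hG).is_comm.comm a b
      haveI : Group.IsNilpotent G := (IsPGroup.of_card hG).isNilpotent
      have h1 : Subgroup.upperCentralSeries G 1 = ⊤ := by
        rw [Subgroup.upperCentralSeries_one, eq_top_iff]
        intro x _
        rw [Subgroup.mem_center_iff]
        intro g; exact hcomm g x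
      exact (Subgroup.upperCentralSeries_eq_top_iff_nilpotencyClass_le.mp h1).trans (le_max_left _ _)
    · have hm3 : 3 ≤ m := by omega
      have hpg : IsPGroup p G := IsPGroup.of_card hG
      haveI : Nontrivial G := (Finite.one_lt_card_iff_nontrivial).mp (by
        rw [hG]; exact Nat.one_lt_pow (by omega) hp.one_lt)
      haveI := hpg.center_nontrivial
      have hZ1 : 1 < Nat.card (Subgroup.center G) := Finite.one_lt_card
      have hmul := (Subgroup.center G).card_mul_index
      rw [hG] at hmul
      obtain ⟨k, hkm, hk⟩ := (Nat.dvd_prime_pow hp).mp (Dvd.intro_left _ hmul)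
      have hklt : k < m := by
        by_contra hge
        have hkeq : k = m := by omega
        rw [hk, hkeq] at hmul
        have hpos : 0 < p ^ m := pow_pos hp.pos m
        have : Nat.card (Subgroup.center G) = 1 := by
          have h2 : Nat.card (Subgroup.center G) * p ^ m = 1 * p ^ m := by rw [hmul, one_mul]
          exact Nat.eq_of_mul_eq_mul_right hpos h2
        omega
      have hQ : Nat.card (G ⧸ Subgroup.center G) = p ^ k := hk
      have hih := ih k hklt (G ⧸ Subgroup.center G) hQ
      rw [Group.nilpotencyClass_quotient_center] at hih
      omega

end Cfsg.Agent.Lib.Lead
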