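import Mathlib
import Cfsg.Agent.Lib.Lead.NilpClass
import Cfsg.Agent.Lib.Lead.Class2
import Cfsg.Agent.Lib.Helper3.PGroup
import Cfsg.Agent.Lib.Helper4.DihedralHom
import Cfsg.Agent.S4399
import Cfsg.Agent.S4143

set_option autoImplicit false

namespace Cfsg.Agent.Lib.Lead

open scoped commutatorElement

universe u

theorem card_quot_center_of_maxclass (p : ℕ) [Fact p.Prime] (n : ℕ) (hn : 3 ≤ n) (X : Type u)
    [Group X] [Finite X] (hX : Nat.card X = p ^ n) (hc : Group.nilpotencyClass X = n - 1) :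
    Nat.card (X ⧸ Subgroup.center X) = p ^ (n - 1) := by
  have hp : p.Prime := Fact.out
  have hpg : IsPGroup p X := IsPGroup.of_card hX
  haveI : Group.IsNilpotent X := hpg.isNilpotent
  haveI : Nontrivial X := (Finite.one_lt_card_iff_nontrivial).mp (by
    rw [hX]; exact Nat.one_lt_pow (by omega) hp.one_lt)
  haveI := hpg.center_nontrivial
  have hZ1 : 1 < Nat.card (Subgroup.center X) := Finite.one_lt_card
  have hmul := (Subgroup.center X).card_mul_index
  rw [hX] at hmul
  obtain ⟨k, hkm, hk⟩ := (Nat.dvd_prime_pow hp).mp (Dvd.intro_left _ hmul)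
  have hklt : k < n := by
    by_contra hge
    have hkeq : k = n := by omega
    rw [hk, hkeq] at hmul
    have hpos : 0 < p ^ n := pow_pos hp.pos n
    have : Nat.card (Subgroup.center X) = 1 := by
      have h2 : Nat.card (Subgroup.center X) * p ^ n = 1 * p ^ n := by rw [hmul, one_mul]
      exact Nat.eq_of_mul_eq_mul_right hpos h2
    omega
  have hQ : Nat.card (X ⧸ Subgroup.center X) = p ^ k := hk
  have hcl : Group.nilpotencyClass (X ⧸ Subgroup.center X) = n - 2 := by
    rw [Group.nilpotencyClass_quotient_center, hc]; omega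
  have hle := nilpotencyClass_le_of_card p k (X ⧸ Subgroup.center X) hQ
  rw [hcl] at hle
  have hk2 : 2 ≤ k := by
    by_contra hlt
    have hcyc : IsCyclic (X ⧸ Subgroup.center X) := by
      have : k = 0 ∨ k = 1 := by omega
      rcases this with rfl | rfl
      · rw [pow_zero] at hQ
        haveI : Subsingleton (X ⧸ Subgroup.center X) := (Nat.card_eq_one_iff_unique.mp hQ).1
        infer_instance
      · rw [pow_one] at hQ
        exact isCyclic_of_prime_card hQ
    have hcomm : ∀ a b : X, a * b = b * a :=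
      commutative_of_cyclic_center_quotient (QuotientGroup.mk' (Subgroup.center X))
        (by rw [QuotientGroup.ker_mk'])
    have h1 : Subgroup.upperCentralSeries X 1 = ⊤ := by
      rw [Subgroup.upperCentralSeries_one, eq_top_iff]
      intro x _
      rw [Subgroup.mem_center_iff]
      intro g; exact hcomm g x
    have := Subgroup.upperCentralSeries_eq_top_iff_nilpotencyClass_le.mp h1
    omega
  have hkn : k = n - 1 := by
    have : max 1 (k - 1) = k - 1 := max_eq_right (by omega)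
    omega
  rw [hQ, hkn]

theorem index_commutator_of_maxclass (p : ℕ) [Fact p.Prime] : ∀ (n : ℕ), 2 ≤ n →
    ∀ (X : Type u) [Group X] [Finite X],
    Nat.card X = p ^ n → Group.nilpotencyClass X = n - 1 → (commutator X).index = p ^ 2 := by
  intro n
  induction n with
  | zero => intro h; omega
  | succ n ih =>
    intro hn X _ _ hX hc
    have hp : p.Prime := Fact.out
    have hpg : IsPGroup p X := IsPGroup.of_card hX
    by_cases hn2 : n + 1 = 2
    · have hn1 : n = 1 := by omega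
      subst hn1
      have hX2 : Nat.card X = p ^ 2 := hX
      haveI := IsPGroup.isMulCommutative_of_card_eq_prime_sq hX2
      have hbot : commutator X = ⊥ := (commutator_eq_bot_iff X).2 inferInstance
      rw [hbot, Subgroup.index_bot]
      exact hX2
    · have hn3 : 3 ≤ n + 1 := by omega
      have hQ := card_quot_center_of_maxclass p (n + 1) hn3 X hX hc
      rw [Nat.add_sub_cancel] at hQ hc
      haveI : Group.IsNilpotent X := hpg.isNilpotent
      have hcl : Group.nilpotencyClass (X ⧸ Subgroup.center X) = n - 1 := by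
        rw [Group.nilpotencyClass_quotient_center, hc]
      have hidxQ := ih (by omega) (X ⧸ Subgroup.center X) hQ hcl
      have hZcard : Nat.card (Subgroup.center X) = p := by
        have hmul := (Subgroup.center X).card_mul_index
        rw [hX] at hmul
        have h2 : (Subgroup.center X).index = p ^ n := hQ
        rw [h2, pow_succ] at hmul
        have hpos : 0 < p ^ n := pow_pos hp.pos n
        have : Nat.card (Subgroup.center X) * p ^ n = p * p ^ n := by rw [hmul, mul_comm]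
        exact Nat.eq_of_mul_eq_mul_right hpos this
      have hne : commutator X ≠ ⊥ := by
        intro hbot
        have hmc : IsMulCommutative X := (commutator_eq_bot_iff X).1 hbot
        have h1 : Subgroup.upperCentralSeries X 1 = ⊤ := by
          rw [Subgroup.upperCentralSeries_one, eq_top_iff]
          intro x _
          rw [Subgroup.mem_center_iff]
          intro g; exact hmc.is_comm.comm g x
        have := Subgroup.upperCentralSeries_eq_top_iff_nilpotencyClass_le.mp h1
        omega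
      obtain ⟨z, hzN, hz1, hzZ⟩ :=
        Cfsg.Agent.Lib.Helper3.exists_ne_one_mem_center_of_normal hpg (commutator X) hne
      have hZle : Subgroup.center X ≤ commutator X := by
        have hzp : Subgroup.zpowers z ≤ Subgroup.center X := by
          rw [Subgroup.zpowers_le]; exact hzZ
        have hcz : Nat.card (Subgroup.zpowers z) = p := by
          have hd : Nat.card (Subgroup.zpowers z) ∣ p := by
            rw [← hZcard]; exact Subgroup.card_dvd_of_le hzp
          rcases (Nat.dvd_prime hp).1 hd with h | h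
          · exfalso; rw [Nat.card_zpowers] at h; exact hz1 (orderOf_eq_one_iff.1 h)
          · exact h
        have heq : Subgroup.zpowers z = Subgroup.center X :=
          Subgroup.eq_of_le_of_card_ge hzp (by rw [hcz, hZcard])
        rw [← heq, Subgroup.zpowers_le]; exact hzN
      have hmap : commutator (X ⧸ Subgroup.center X) =
          (commutator X).map (QuotientGroup.mk' (Subgroup.center X)) := by
        rw [commutator_def, commutator_def, Subgroup.map_commutator,
          Subgroup.map_top_of_surjective _ (QuotientGroup.mk'_surjective _)]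
      rw [hmap, Subgroup.index_map, QuotientGroup.ker_mk', sup_eq_left.2 hZle,
        MonoidHom.range_eq_top.2 (QuotientGroup.mk'_surjective _), Subgroup.index_top,
        mul_one] at hidxQ
      exact hidxQ

theorem sq_mem_commutator_of_index_four (n : ℕ) (hn : 3 ≤ n) (X : Type u) [Group X] [Finite X]
    (hX : Nat.card X = 2 ^ n) (hidx : (commutator X).index = 4) :
    ∀ x : X, x ^ 2 ∈ commutator X := by
  haveI : Fact (Nat.Prime 2) := ⟨Nat.prime_two⟩
  have hpg : IsPGroup 2 X := IsPGroup.of_card hX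
  have hQ : Nat.card (X ⧸ commutator X) = 4 := hidx
  by_contra hcon
  push Not at hcon
  obtain ⟨x, hx⟩ := hcon
  obtain ⟨q, hqdef⟩ : ∃ q : X ⧸ commutator X, q = QuotientGroup.mk x := ⟨_, rfl⟩
  have hq2 : q ^ 2 ≠ 1 := by
    intro h
    apply hx
    rw [hqdef, ← QuotientGroup.mk_pow] at h
    exact (QuotientGroup.eq_one_iff _).1 h
  have hord : orderOf q = 4 := by
    have hd : orderOf q ∣ 2 ^ 2 := by
      have := orderOf_dvd_natCard q
      rw [hQ] at this
      exact this
    obtain ⟨m, hm, hmeq⟩ := (Nat.dvd_prime_pow Nat.prime_two).1 hd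
    interval_cases m
    · exfalso; apply hq2; rw [pow_zero] at hmeq; rw [orderOf_eq_one_iff.1 hmeq, one_pow]
    · exfalso; apply hq2; rw [pow_one] at hmeq; rw [← hmeq]; exact pow_orderOf_eq_one q
    · rw [hmeq]; norm_num
  have htop : Subgroup.zpowers q = ⊤ := by
    apply Subgroup.eq_top_of_card_eq
    rw [Nat.card_zpowers, hord, hQ]
  have hgen : Subgroup.zpowers x ⊔ frattini X = ⊤ := by
    rw [eq_top_iff]
    intro g _
    have hg : (QuotientGroup.mk g : X ⧸ commutator X) ∈ Subgroup.zpowers q := by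
      rw [htop]; trivial
    obtain ⟨k, hk⟩ := Subgroup.mem_zpowers_iff.1 hg
    have h1 : (x ^ k)⁻¹ * g ∈ commutator X := by
      rw [← QuotientGroup.eq, QuotientGroup.mk_zpow, ← hqdef]; exact hk
    have h2 : g = x ^ k * ((x ^ k)⁻¹ * g) := by group
    rw [h2]
    exact Subgroup.mul_mem _
      (Subgroup.mem_sup_left (Subgroup.zpow_mem _ (Subgroup.mem_zpowers x) k))
      (Subgroup.mem_sup_right (commutator_le_frattini_of_pGroup hpg h1))
  have hcyc : Subgroup.zpowers x = ⊤ := frattini_nongenerating hgen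
  have hbot : commutator X = ⊥ := by
    rw [commutator_eq_bot_iff]
    haveI : IsCyclic X := ⟨⟨x, fun g => by
      have : g ∈ Subgroup.zpowers x := by rw [hcyc]; trivial
      exact this⟩⟩
    exact IsCyclic.isMulCommutative
  rw [hbot, Subgroup.index_bot, hX] at hidx
  have : 2 ^ 3 ≤ 2 ^ n := Nat.pow_le_pow_right (by norm_num) hn
  omega

theorem maxclass_two_struct (n : ℕ) (hn : 3 ≤ n) (X : Type u) [Group X] [Finite X]
    (hX : Nat.card X = 2 ^ n) (hidx : (commutator X).index = 4)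
    (hsq : ∀ x : X, x ^ 2 ∈ commutator X) :
    ∃ a b : X, orderOf a = 2 ^ (n - 1) ∧ b ∉ Subgroup.zpowers a ∧
      orderOf (b * a * b⁻¹ * a⁻¹) = 2 ^ (n - 2) ∧
      (b * a * b⁻¹) * a = a * (b * a * b⁻¹) ∧
      b * a * b⁻¹ ∈ Subgroup.zpowers a ∧ (Subgroup.zpowers a).index = 2 := by
  obtain ⟨a, ha⟩ := Cfsg.Agent.S4399.exists_cyclic_max n hn X hX hidx hsq
  obtain ⟨C, hCdef⟩ : ∃ C : Subgroup X, C = Subgroup.zpowers a := ⟨_, rfl⟩
  have hCcard : Nat.card C = 2 ^ (n - 1) := by rw [hCdef, Nat.card_zpowers, ha]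
  have hCidx : C.index = 2 := by
    have h1 := Subgroup.card_mul_index C
    rw [hCcard, hX] at h1
    have h2 : 2 ^ n = 2 ^ (n - 1) * 2 := by rw [← pow_succ]; congr 1; omega
    rw [h2] at h1
    exact Nat.eq_of_mul_eq_mul_left (by positivity) h1
  haveI hCn : C.Normal := Subgroup.normal_of_index_eq_two hCidx
  have hCtop : C ≠ ⊤ := by
    intro h; rw [h, Subgroup.index_top] at hCidx; omega
  obtain ⟨b, hb⟩ : ∃ b, b ∉ C := by
    by_contra hcon
    push Not at hcon
    exact hCtop (eq_top_iff.2 fun g _ => hcon g)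
  have haC : a ∈ C := by rw [hCdef]; exact Subgroup.mem_zpowers a
  have hbab : b * a * b⁻¹ ∈ C := hCn.conj_mem a haC b
  have hcomm : (b * a * b⁻¹) * a = a * (b * a * b⁻¹) := by
    have hbab' := hbab
    rw [hCdef] at hbab'
    obtain ⟨k, hk⟩ := Subgroup.mem_zpowers_iff.1 hbab'
    rw [← hk]; exact (Commute.zpow_self a k).eq
  obtain ⟨d, hddef⟩ : ∃ d : X, d = b * a * b⁻¹ * a⁻¹ := ⟨_, rfl⟩
  have hdC : d ∈ commutator X := by
    rw [hddef, commutator_def, ← commutatorElement_def]
    exact Subgroup.commutator_mem_commutator (Subgroup.mem_top b) (Subgroup.mem_top a)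
  have hab : ∀ m₁ ∈ C, ∀ m₂ ∈ C, m₁ * m₂ = m₂ * m₁ := by
    intro m₁ h1 m₂ h2
    rw [hCdef] at h1 h2
    obtain ⟨i, rfl⟩ := Subgroup.mem_zpowers_iff.1 h1
    obtain ⟨j, rfl⟩ := Subgroup.mem_zpowers_iff.1 h2
    exact (Commute.zpow_zpow_self a i j).eq
  have hD : ∀ m ∈ C, b * m * b⁻¹ * m⁻¹ ∈ Subgroup.zpowers d := by
    intro m hm
    rw [hCdef] at hm
    obtain ⟨i, rfl⟩ := Cfsg.Agent.S4399.exists_nat_pow hm
    rw [Cfsg.Agent.S4399.phi_pow hcomm i, ← hddef]
    exact Subgroup.pow_mem _ (Subgroup.mem_zpowers d) i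
  have hle := Cfsg.Agent.S4399.comm_le_of_index_two C (Subgroup.zpowers d) hCidx hab b hb hD
  have heq : Subgroup.zpowers d = commutator X :=
    le_antisymm (by rw [Subgroup.zpowers_le]; exact hdC) hle
  have hcc : Nat.card (commutator X) = 2 ^ (n - 2) := by
    have h1 := Subgroup.card_mul_index (commutator X)
    rw [hidx, hX] at h1
    have h2 : 2 ^ n = 2 ^ (n - 2) * 4 := by
      have : (4 : ℕ) = 2 ^ 2 := by norm_num
      rw [this, ← pow_add]; congr 1; omega
    rw [h2] at h1
    exact Nat.eq_of_mul_eq_mul_right (by norm_num) h1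
  have hdord : orderOf d = 2 ^ (n - 2) := by rw [← Nat.card_zpowers, heq, hcc]
  refine ⟨a, b, ha, ?_, ?_, hcomm, ?_, ?_⟩
  · rw [← hCdef]; exact hb
  · rw [← hddef]; exact hdord
  · rw [← hCdef]; exact hbab
  · rw [← hCdef]; exact hCidx

theorem maxclass_two_cent (n : ℕ) (hn : 3 ≤ n) (X : Type u) [Group X] [Finite X]
    (a b : X) (ha : orderOf a = 2 ^ (n - 1))
    (hd : orderOf (b * a * b⁻¹ * a⁻¹) = 2 ^ (n - 2))
    (hcomm : (b * a * b⁻¹) * a = a * (b * a * b⁻¹)) :
    b * a ^ (2 ^ (n - 2)) = a ^ (2 ^ (n - 2)) * b ∧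
    (∀ g ∈ Subgroup.zpowers a, b * g = g * b → g ∈ Subgroup.zpowers (a ^ (2 ^ (n - 2)))) ∧
    orderOf (a ^ (2 ^ (n - 2))) = 2 := by
  obtain ⟨u, hudef⟩ : ∃ u : X, u = a ^ (2 ^ (n - 2)) := ⟨_, rfl⟩
  obtain ⟨d, hddef⟩ : ∃ d : X, d = b * a * b⁻¹ * a⁻¹ := ⟨_, rfl⟩
  rw [← hddef] at hd
  rw [← hudef]
  have hpow : (2:ℕ) ^ (n - 1) = 2 ^ (n - 2) * 2 := by rw [← pow_succ]; congr 1; omega
  have hu2 : u ^ 2 = 1 := by
    rw [hudef, ← pow_mul, ← hpow, ← ha]; exact pow_orderOf_eq_one a
  have hu1 : u ≠ 1 := by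
    intro h
    rw [hudef] at h
    have h1 := orderOf_dvd_of_pow_eq_one h
    rw [ha, hpow] at h1
    have h2 := Nat.le_of_dvd (by positivity) h1
    have : 0 < 2 ^ (n - 2) := by positivity
    omega
  have huord : orderOf u = 2 := orderOf_eq_prime hu2 hu1
  have hbu : b * u = u * b := by
    have h1 := Cfsg.Agent.S4399.phi_pow hcomm (2 ^ (n - 2))
    rw [← hddef, ← hudef, ← hd, pow_orderOf_eq_one] at h1
    have h2 : b * u = (b * u * b⁻¹ * u⁻¹) * (u * b) := by group
    rw [h2, h1, one_mul]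
  refine ⟨hbu, ?_, huord⟩
  intro g hg hbg
  obtain ⟨i, rfl⟩ := Cfsg.Agent.S4399.exists_nat_pow hg
  have h1 := Cfsg.Agent.S4399.phi_pow hcomm i
  rw [← hddef] at h1
  have h2 : b * a ^ i * b⁻¹ * (a ^ i)⁻¹ = 1 := by rw [hbg]; group
  rw [h2] at h1
  have h3 := orderOf_dvd_of_pow_eq_one h1.symm
  rw [hd] at h3
  obtain ⟨j, hj⟩ := h3
  rw [hj, pow_mul, ← hudef]
  exact Subgroup.pow_mem _ (Subgroup.mem_zpowers u) j

theorem maxclass_two_class (n : ℕ) (hn : 3 ≤ n) (X : Type u) [Group X] [Finite X]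
    (hX : Nat.card X = 2 ^ n) (hidx : (commutator X).index = 4)
    (hsq : ∀ x : X, x ^ 2 ∈ commutator X) : Group.nilpotencyClass X = n - 1 := by
  obtain ⟨a, b, ha, hb, hd, hcomm, hbab, hCidx⟩ := maxclass_two_struct n hn X hX hidx hsq
  obtain ⟨hbu, hcent, huord⟩ := maxclass_two_cent n hn X a b ha hd hcomm
  obtain ⟨u, hudef⟩ : ∃ u : X, u = a ^ (2 ^ (n - 2)) := ⟨_, rfl⟩
  rw [← hudef] at hbu hcent huord
  obtain ⟨C, hCdef⟩ : ∃ C : Subgroup X, C = Subgroup.zpowers a := ⟨_, rfl⟩
  rw [← hCdef] at hb hcent hCidx hbab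
  haveI hCn : C.Normal := Subgroup.normal_of_index_eq_two hCidx
  obtain ⟨A, hAdef⟩ : ∃ A : Subgroup X, A = Subgroup.centralizer {b} := ⟨_, rfl⟩
  have hmemA : ∀ g, g ∈ A ↔ b * g = g * b := by
    intro g
    rw [hAdef, Subgroup.mem_centralizer_iff]
    constructor
    · intro h; exact h b (Set.mem_singleton b)
    · intro h x hx; rw [Set.mem_singleton_iff.1 hx]; exact h
  have hbA : b ∈ A := (hmemA b).2 rfl
  have hinf : A ⊓ C = Subgroup.zpowers u := by
    apply le_antisymm
    · intro g hg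
      exact hcent g hg.2 ((hmemA g).1 hg.1)
    · rw [Subgroup.zpowers_le]
      refine ⟨(hmemA u).2 hbu, ?_⟩
      rw [hCdef, hudef]; exact Subgroup.pow_mem _ (Subgroup.mem_zpowers a) _
  have hrel : C.relIndex A = 2 := by
    have h1 : C.relIndex A ∣ 2 := by
      rw [← hCidx]; exact Subgroup.relIndex_dvd_index_of_normal (H := C) (K := A)
    rcases (Nat.dvd_prime Nat.prime_two).1 h1 with h | h
    · exfalso; exact hb (Subgroup.relIndex_eq_one.1 h hbA)
    · exact h
  have hA4 : Nat.card A = 2 ^ 2 := by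
    have h1 := Subgroup.relIndex_mul_relIndex (H := ⊥) (K := A ⊓ C) (L := A) bot_le inf_le_left
    rw [Subgroup.relIndex_bot_left, Subgroup.relIndex_bot_left, Subgroup.inf_relIndex_left,
      hrel, hinf, Nat.card_zpowers, huord] at h1
    exact h1.symm.trans (by norm_num)
  have hCA : Subgroup.centralizer (A : Set X) ≤ A := by
    intro g hg
    rw [Subgroup.mem_centralizer_iff] at hg
    exact (hmemA g).2 (hg b hbA)
  haveI : Fact (Nat.Prime 2) := ⟨Nat.prime_two⟩
  exact Cfsg.Agent.S4143.suzuki 2 n X hX A hA4 hCA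

theorem maxclass_two_quot (n : ℕ) (hn : 3 ≤ n) (X : Type u) [Group X] [Finite X]
    (hX : Nat.card X = 2 ^ n) (hc : Group.nilpotencyClass X = n - 1) :
    Nonempty (X ⧸ Subgroup.center X ≃* DihedralGroup (2 ^ (n - 2))) := by
  haveI : Fact (Nat.Prime 2) := ⟨Nat.prime_two⟩
  have hidx : (commutator X).index = 4 := by
    have := index_commutator_of_maxclass 2 n (by omega) X hX hc
    rw [this]; norm_num
  have hsq := sq_mem_commutator_of_index_four n hn X hX hidx
  obtain ⟨a, b, ha, hb, hd, hcomm, hbab, hCidx⟩ := maxclass_two_struct n hn X hX hidx hsq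
  obtain ⟨hbu, hcent, huord⟩ := maxclass_two_cent n hn X a b ha hd hcomm
  obtain ⟨u, hudef⟩ : ∃ u : X, u = a ^ (2 ^ (n - 2)) := ⟨_, rfl⟩
  rw [← hudef] at hbu hcent huord
  obtain ⟨s, hs⟩ := Cfsg.Agent.S4399.exists_nat_pow hbab
  obtain ⟨C, hCdef⟩ : ∃ C : Subgroup X, C = Subgroup.zpowers a := ⟨_, rfl⟩
  rw [← hCdef] at hb hcent hCidx hbab
  have haC : a ∈ C := by rw [hCdef]; exact Subgroup.mem_zpowers a
  have huC : u ∈ C := by rw [hudef]; exact C.pow_mem haC _
  have hu2 : u ^ 2 = 1 := by rw [← huord]; exact pow_orderOf_eq_one u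
  have hu1 : u ≠ 1 := by
    intro h; rw [h, orderOf_one] at huord; omega
  have habC : ∀ m₁ ∈ C, ∀ m₂ ∈ C, m₁ * m₂ = m₂ * m₁ := by
    intro m₁ h1 m₂ h2
    rw [hCdef] at h1 h2
    obtain ⟨i, rfl⟩ := Subgroup.mem_zpowers_iff.1 h1
    obtain ⟨j, rfl⟩ := Subgroup.mem_zpowers_iff.1 h2
    exact (Commute.zpow_zpow_self a i j).eq
  have huZ : u ∈ Subgroup.center X := by
    rw [Subgroup.mem_center_iff]
    intro g
    by_cases hg : g ∈ C
    · exact habC g hg u huC
    · have h1 : b⁻¹ * g ∈ C := by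
        rw [Subgroup.mul_mem_iff_of_index_two hCidx]
        constructor
        · intro h; exact absurd (C.inv_mem_iff.1 h) hb
        · intro h; exact absurd h hg
      have h2 := habC (b⁻¹ * g) h1 u huC
      calc g * u = b * ((b⁻¹ * g) * u) := by group
        _ = b * (u * (b⁻¹ * g)) := by rw [h2]
        _ = (b * u) * (b⁻¹ * g) := by group
        _ = (u * b) * (b⁻¹ * g) := by rw [hbu]
        _ = u * g := by group
  have hQ := card_quot_center_of_maxclass 2 n hn X hX hc
  have hZcard : Nat.card (Subgroup.center X) = 2 := by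
    have hmul := (Subgroup.center X).card_mul_index
    have h2 : (Subgroup.center X).index = 2 ^ (n - 1) := hQ
    rw [hX, h2] at hmul
    have h3 : 2 ^ n = 2 * 2 ^ (n - 1) := by rw [← pow_succ']; congr 1; omega
    rw [h3] at hmul
    exact Nat.eq_of_mul_eq_mul_right (by positivity) hmul
  have hZeq : Subgroup.zpowers u = Subgroup.center X :=
    Subgroup.eq_of_le_of_card_ge (by rw [Subgroup.zpowers_le]; exact huZ)
      (by rw [hZcard, Nat.card_zpowers, huord])
  have hZsq : ∀ z ∈ Subgroup.center X, z ^ 2 = 1 := by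
    intro z hz
    rw [← hZeq] at hz
    rcases Cfsg.Agent.S4399.mem_two hu2 hz with h | h
    · rw [h, one_pow]
    · rw [h, hu2]
  have hb2C : b * b ∈ C := Subgroup.mul_self_mem_of_index_two hCidx b
  have hbb := habC (b * b) hb2C a haC
  have hss : a ^ (s * s) = a := by
    have h1 : b * (b * a * b⁻¹) * b⁻¹ = a := by
      calc b * (b * a * b⁻¹) * b⁻¹ = (b * b * a) * (b⁻¹ * b⁻¹) := by group
        _ = (a * (b * b)) * (b⁻¹ * b⁻¹) := by rw [hbb]
        _ = a := by group
    rw [hs] at h1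
    have h2 : b * a ^ s * b⁻¹ = (b * a * b⁻¹) ^ s := by rw [conj_pow]
    rw [h2, hs, ← pow_mul] at h1
    exact h1
  have hmod : s * s ≡ 1 [MOD 2 ^ (n - 1)] := by
    rw [← ha]
    apply pow_eq_pow_iff_modEq.1
    rw [hss, pow_one]
  have hp1 : (2:ℕ) ^ (n - 1) = 4 * 2 ^ (n - 3) := by
    rw [show (4:ℕ) = 2 ^ 2 by norm_num, ← pow_add]; congr 1; omega
  have hp2 : (2:ℕ) ^ (n - 2) = 2 * 2 ^ (n - 3) := by rw [← pow_succ']; congr 1; omega
  have hs4 : s % 4 = 1 ∨ s % 4 = 3 := by
    have h4 : s * s ≡ 1 [MOD 4] := hmod.of_dvd ⟨2 ^ (n - 3), hp1⟩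
    have h5 : (s % 4) * (s % 4) % 4 = 1 := by
      have h := h4
      unfold Nat.ModEq at h
      rw [Nat.mul_mod] at h
      exact h
    have h6 : s % 4 = 0 ∨ s % 4 = 1 ∨ s % 4 = 2 ∨ s % 4 = 3 := by omega
    rcases h6 with h | h | h | h <;> rw [h] at h5 <;> omega
  have hs3 : s % 4 = 3 := by
    rcases hs4 with h | h
    · exfalso
      obtain ⟨q, hq⟩ : ∃ q, s = 4 * q + 1 := ⟨s / 4, by omega⟩
      have hdq : b * a * b⁻¹ * a⁻¹ = a ^ (4 * q) := by
        rw [hs, hq, pow_succ, mul_inv_cancel_right]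
      have h1 : (b * a * b⁻¹ * a⁻¹) ^ (2 ^ (n - 3)) = 1 := by
        rw [hdq, ← pow_mul]
        have : 4 * q * 2 ^ (n - 3) = 2 ^ (n - 1) * q := by rw [hp1]; ring
        rw [this, pow_mul, ← ha, pow_orderOf_eq_one, one_pow]
      have h2 := orderOf_dvd_of_pow_eq_one h1
      rw [hd] at h2
      have h3 := Nat.le_of_dvd (by positivity) h2
      have : 0 < 2 ^ (n - 3) := by positivity
      omega
    · exact h
  have hs1 : 2 ^ (n - 2) ∣ s + 1 := by
    obtain ⟨q, hq⟩ : ∃ q, s = 4 * q + 3 := ⟨s / 4, by omega⟩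
    have hs0 : 0 < s := by omega
    have hdvd : 2 ^ (n - 1) ∣ s * s - 1 :=
      (Nat.modEq_iff_dvd' (Nat.mul_pos hs0 hs0)).1 hmod.symm
    have hfac : s * s - 1 = 4 * ((2 * q + 1) * (2 * (q + 1))) := by
      have : s * s = 4 * ((2 * q + 1) * (2 * (q + 1))) + 1 := by rw [hq]; ring
      rw [this, Nat.add_sub_cancel]
    rw [hfac, hp1] at hdvd
    have h1 : 2 ^ (n - 3) ∣ (2 * q + 1) * (2 * (q + 1)) :=
      Nat.dvd_of_mul_dvd_mul_left (by norm_num) hdvd
    have hcop : Nat.Coprime (2 ^ (n - 3)) (2 * q + 1) :=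
      Nat.Coprime.pow_left _ ((Nat.Prime.coprime_iff_not_dvd Nat.prime_two).2 (by omega))
    have h2 : 2 ^ (n - 3) ∣ 2 * (q + 1) := Nat.Coprime.dvd_of_dvd_mul_left hcop h1
    rw [hp2, show s + 1 = 2 * (2 * (q + 1)) by omega]
    exact Nat.mul_dvd_mul_left 2 h2
  obtain ⟨π, hπ⟩ : ∃ π : X →* X ⧸ Subgroup.center X,
      π = QuotientGroup.mk' (Subgroup.center X) := ⟨_, rfl⟩
  have hker : ∀ g : X, π g = 1 ↔ g ∈ Subgroup.center X := by
    intro g
    rw [hπ]
    exact QuotientGroup.eq_one_iff g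
  have hpa : (π a) ^ (2 ^ (n - 2)) = 1 := by
    rw [← map_pow, hker, ← hudef]; exact huZ
  have hpa' : ¬ (π a) ^ (2 ^ (n - 3)) = 1 := by
    rw [← map_pow, hker]
    intro h
    have h1 := hZsq _ h
    rw [← pow_mul, ← pow_succ, show n - 3 + 1 = n - 2 by omega, ← hudef] at h1
    exact hu1 h1
  have hpord : orderOf (π a) = 2 ^ (n - 2) := by
    have := orderOf_eq_prime_pow (p := 2) (n := n - 3) (x := π a) hpa'
      (by rw [show n - 3 + 1 = n - 2 by omega]; exact hpa)
    rw [this]; congr 1; omega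
  have hpb : π b * π b = 1 := by
    rw [← map_mul, hker, ← hZeq]
    exact hcent (b * b) hb2C (by group)
  have hpab : π b * π a * (π b)⁻¹ = (π a)⁻¹ := by
    rw [eq_inv_iff_mul_eq_one, ← map_inv, ← map_mul, ← map_mul, ← map_mul, hker, hs, ← pow_succ]
    obtain ⟨j, hj⟩ := hs1
    rw [hj, pow_mul, ← hudef]
    exact Subgroup.pow_mem _ huZ j
  have hpbn : π b ∉ Subgroup.zpowers (π a) := by
    intro h
    obtain ⟨k, hk⟩ := Subgroup.mem_zpowers_iff.1 h
    have h1 : (a ^ k)⁻¹ * b ∈ Subgroup.center X := by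
      rw [← hker, map_mul, map_inv, map_zpow, hk, inv_mul_cancel]
    have h2 : (a ^ k)⁻¹ * b ∈ C := by
      rw [← hZeq] at h1
      exact (Subgroup.zpowers_le.2 huC) h1
    have h3 : b = a ^ k * ((a ^ k)⁻¹ * b) := by group
    apply hb
    rw [h3]
    exact C.mul_mem (C.zpow_mem haC k) h2
  haveI : NeZero (2 ^ (n - 2)) := ⟨by positivity⟩
  have hinj := Cfsg.Agent.Lib.Helper4.dihedralLift_injective hpa hpb hpab hpord hpbn
  have hbij : Function.Bijective
      (Cfsg.Agent.Lib.Helper4.dihedralLift (2 ^ (n - 2)) (π a) (π b) hpa hpb hpab) :=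
    (Nat.bijective_iff_injective_and_card _).2
      ⟨hinj, by rw [DihedralGroup.nat_card, hQ, ← pow_succ']; congr 1; omega⟩
  exact ⟨(MulEquiv.ofBijective _ hbij).symm⟩

end Cfsg.Agent.Lib.Lead
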