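import Mathlib
import Cfsg.Agent.Lib.Lead.PmQ
import Cfsg.Agent.S0043

set_option autoImplicit false

namespace Cfsg.Agent.Lib.Lead

open scoped Pointwise commutatorElement

universe u

/-- A finite nontrivial group has a minimal normal subgroup. -/
theorem exists_minimal_normal {G : Type*} [Group G] [Finite G] (hG : (⊥ : Subgroup G) ≠ ⊤) :
    ∃ N : Subgroup G, N.Normal ∧ N ≠ ⊥ ∧
      ∀ M' : Subgroup G, M'.Normal → M' ≤ N → M' = ⊥ ∨ M' = N := by
  haveI : Nonempty {N : Subgroup G // N.Normal ∧ N ≠ ⊥} :=
    ⟨⟨⊤, inferInstance, fun h => hG h.symm⟩⟩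
  obtain ⟨⟨N, hNn, hNbot⟩, hNmin⟩ := Finite.exists_min
    (fun N : {N : Subgroup G // N.Normal ∧ N ≠ ⊥} => Nat.card (N : Subgroup G))
  refine ⟨N, hNn, hNbot, ?_⟩
  intro M' hM'n hM'N
  by_cases hb : M' = ⊥
  · left; exact hb
  · right
    have h0 := hNmin ⟨M', hM'n, hb⟩
    exact Subgroup.eq_of_le_of_card_ge hM'N h0

/-- In a finite solvable group every maximal subgroup has prime power index. -/
theorem maximal_index_primePow : ∀ (n : ℕ) (G : Type u) [Group G] [Finite G]
    [Group.IsSolvable G] (M : Subgroup G), Nat.card G = n → IsCoatom M → IsPrimePow M.index := by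
  intro n
  induction n using Nat.strong_induction_on with
  | _ n ih =>
  intro G _ _ _ M hn hM
  have hG : (⊥ : Subgroup G) ≠ ⊤ := by
    intro h
    apply hM.1
    rw [eq_top_iff, ← h]; exact bot_le
  obtain ⟨N, hNn, hNbot, hmin⟩ := exists_minimal_normal hG
  haveI := hNn
  obtain ⟨-, p, hp, hpow⟩ := Cfsg.Agent.S0043.result N hNbot hmin
  haveI : Fact p.Prime := ⟨hp⟩
  have hNp : IsPGroup p N := by
    intro x
    refine ⟨1, ?_⟩
    rw [pow_one]
    apply Subtype.ext
    rw [Subgroup.coe_pow]; exact hpow x x.2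
  obtain ⟨k, hk⟩ := IsPGroup.iff_card.mp hNp
  by_cases hNM : N ≤ M
  · have hsurj := QuotientGroup.mk'_surjective N
    have hMeq : (M.map (QuotientGroup.mk' N)).comap (QuotientGroup.mk' N) = M := by
      rw [Subgroup.comap_map_eq, QuotientGroup.ker_mk', sup_eq_left.mpr hNM]
    have hidx : (M.map (QuotientGroup.mk' N)).index = M.index := by
      rw [← Subgroup.index_comap_of_surjective _ hsurj, hMeq]
    have hco : IsCoatom (M.map (QuotientGroup.mk' N)) := by
      constructor
      · intro h
        apply hM.1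
        rw [← hMeq, h, Subgroup.comap_top]
      · intro L hL
        have h1 : M < L.comap (QuotientGroup.mk' N) := by
          apply lt_of_le_of_ne
          · rw [← hMeq]; exact Subgroup.comap_mono hL.le
          · intro h
            apply hL.ne
            rw [← Subgroup.map_comap_eq_self_of_surjective hsurj L, ← h]
        have h2 := hM.2 _ h1
        rw [← Subgroup.map_comap_eq_self_of_surjective hsurj L, h2,
          Subgroup.map_top_of_surjective _ hsurj]
    rw [← hidx]
    exact ih (Nat.card (G ⧸ N)) (by rw [← hn]; exact card_quotient_lt N hNbot) (G ⧸ N) _ rfl hco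
  · have hsup : M ⊔ N = ⊤ := by
      by_contra h
      have hlt : M < M ⊔ N := by
        apply lt_of_le_of_ne le_sup_left
        intro h'
        apply hNM
        rw [h']; exact le_sup_right
      exact h (hM.2 _ hlt)
    have h1 : N.index = N.relIndex M := by
      rw [← Subgroup.relIndex_top_right, ← hsup, Subgroup.relIndex_sup_right]
    have h2 := Subgroup.card_mul_index N
    have h3 := Subgroup.card_mul_index M
    have h4 : Nat.card (N ⊓ M : Subgroup G) * N.relIndex M = Nat.card M := by
      have h5 := Subgroup.card_mul_index ((N ⊓ M).subgroupOf M)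
      rw [Nat.card_congr (Subgroup.subgroupOfEquivOfLe (inf_le_right : N ⊓ M ≤ M)).toEquiv] at h5
      have h6 : ((N ⊓ M).subgroupOf M).index = N.relIndex M := Subgroup.inf_relIndex_right N M
      rw [h6] at h5; exact h5
    have hrpos : 0 < N.relIndex M := by
      rw [← h1]; exact Nat.pos_of_ne_zero Subgroup.index_ne_zero_of_finite
    have hdvd : M.index ∣ Nat.card N := by
      refine ⟨Nat.card (N ⊓ M : Subgroup G), ?_⟩
      have h7 : Nat.card N * N.relIndex M =
          M.index * Nat.card (N ⊓ M : Subgroup G) * N.relIndex M := by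
        rw [← h1, h2, ← h3, ← h4, h1]; ring
      exact Nat.eq_of_mul_eq_mul_right hrpos h7
    rw [hk] at hdvd
    obtain ⟨j, -, hj⟩ := (Nat.dvd_prime_pow hp).mp hdvd
    have hj0 : j ≠ 0 := by
      intro h
      rw [h, pow_zero] at hj
      exact hM.1 (Subgroup.index_eq_one.mp hj)
    rw [hj]
    exact ⟨p, j, hp.prime, Nat.pos_of_ne_zero hj0, rfl⟩

end Cfsg.Agent.Lib.Lead
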