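import Mathlib
import Cfsg.Agent.Lib.Lead.FpfPart

set_option autoImplicit false

namespace Cfsg.Agent.Lib.Lead

open scoped Pointwise commutatorElement

open scoped IsMulCommutative in
/-- A noncyclic finite abelian group contains two independent elements of the same prime order. -/
theorem exists_elem_ab_of_not_cyclic {G : Type*} [Group G] [Finite G] (A : Subgroup G)
    [IsMulCommutative A] (hA : ¬ IsCyclic A) :
    ∃ p : ℕ, p.Prime ∧ ∃ a ∈ A, ∃ b ∈ A, a ≠ 1 ∧ a ^ p = 1 ∧ b ^ p = 1 ∧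
      b ∉ Subgroup.zpowers a := by
  classical
  haveI := Fintype.ofFinite A
  have h1 : ∃ p : ℕ, p.Prime ∧ p < (Finset.univ.filter (fun a : A => a ^ p = 1)).card := by
    by_contra hcon
    push Not at hcon
    exact hA (isCyclic_of_card_pow_eq_one_le (card_pow_eq_one_le_of_prime hcon))
  obtain ⟨p, hp, hlt⟩ := h1
  have h2 : 1 < (Finset.univ.filter (fun a : A => a ^ p = 1)).card :=
    lt_of_le_of_lt hp.one_lt.le hlt
  obtain ⟨a, ha, ha1⟩ := Finset.exists_mem_ne h2 (1 : A)
  rw [Finset.mem_filter] at ha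
  haveI : Fact p.Prime := ⟨hp⟩
  have hao : orderOf a = p := orderOf_eq_prime ha.2 ha1
  have h3 : ∃ b ∈ Finset.univ.filter (fun a : A => a ^ p = 1), b ∉ Subgroup.zpowers a := by
    by_contra hcon
    push Not at hcon
    have h4 : (Finset.univ.filter (fun a : A => a ^ p = 1)).card ≤ Nat.card (Subgroup.zpowers a) := by
      rw [← Fintype.card_coe, ← Nat.card_eq_fintype_card]
      exact Nat.card_le_card_of_injective
        (fun b : {x // x ∈ Finset.univ.filter (fun a : A => a ^ p = 1)} =>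
          (⟨b.1, hcon b.1 b.2⟩ : Subgroup.zpowers a))
        (fun b c h => by
          have h' : (⟨b.1, hcon b.1 b.2⟩ : Subgroup.zpowers a) = ⟨c.1, hcon c.1 c.2⟩ := h
          exact Subtype.ext (Subtype.mk.inj h'))
    rw [Nat.card_zpowers, hao] at h4
    omega
  obtain ⟨b, hb, hbz⟩ := h3
  rw [Finset.mem_filter] at hb
  refine ⟨p, hp, a, a.2, b, b.2, fun h => ha1 (Subtype.ext h), ?_, ?_, ?_⟩
  · have := congrArg Subtype.val ha.2
    simpa using this
  · have := congrArg Subtype.val hb.2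
    simpa using this
  · intro h
    apply hbz
    obtain ⟨k, hk⟩ := Subgroup.mem_zpowers_iff.mp h
    rw [Subgroup.mem_zpowers_iff]
    exact ⟨k, Subtype.ext (by simpa using hk)⟩

/-- The subgroup of elements of `A` of order dividing `p` (for commutative `A`). -/
def omegaSub {G : Type*} [Group G] (A : Subgroup G)
    (hc : ∀ x ∈ A, ∀ y ∈ A, x * y = y * x) (p : ℕ) : Subgroup G where
  carrier := {x | x ∈ A ∧ x ^ p = 1}
  one_mem' := ⟨A.one_mem, one_pow p⟩
  mul_mem' := by
    rintro x y ⟨hx, hxp⟩ ⟨hy, hyp⟩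
    refine ⟨A.mul_mem hx hy, ?_⟩
    have hcomm : Commute x y := hc x hx y hy
    rw [hcomm.mul_pow, hxp, hyp, one_mul]
  inv_mem' := by
    rintro x ⟨hx, hxp⟩
    exact ⟨A.inv_mem hx, by rw [inv_pow, hxp, inv_one]⟩

theorem mem_omegaSub {G : Type*} [Group G] (A : Subgroup G)
    (hc : ∀ x ∈ A, ∀ y ∈ A, x * y = y * x) (p : ℕ) {x : G} :
    x ∈ omegaSub A hc p ↔ x ∈ A ∧ x ^ p = 1 := Iff.rfl

end Cfsg.Agent.Lib.Lead
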