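import Mathlib
import Cfsg.Agent.Lib.Lead.UniqueSub
import Cfsg.Agent.Lib.Helper3.PGroup
import Cfsg.Prelude.Def_Transfer

/-! Omega_1 of p-groups with a cyclic maximal subgroup (p odd); normal elementary abelian
subgroups of order p^2. -/

namespace Cfsg.Agent.Lib.Lead

theorem geom_sum_odd (p : ℕ) (hp : p.Prime) (hp2 : p ≠ 2) (x : ℕ) :
    ∃ u : ℕ, Nat.Coprime u p ∧ ∑ i ∈ Finset.range p, (1 + p * x) ^ i = p * u := by
  have hpow : ∀ i : ℕ, ∃ c, (1 + p * x) ^ i = 1 + i * (p * x) + p ^ 2 * c := by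
    intro i
    induction i with
    | zero => exact ⟨0, by simp⟩
    | succ i ih =>
      obtain ⟨c, hc⟩ := ih
      exact ⟨i * x ^ 2 + c + c * p * x, by rw [pow_succ, hc]; ring⟩
  choose c hc using hpow
  obtain ⟨r, hr⟩ : ∃ r, p = 2 * r + 1 := by
    rcases hp.eq_two_or_odd' with h | ⟨r, hr⟩
    · exact absurd h hp2
    · exact ⟨r, hr⟩
  have hsum : ∑ i ∈ Finset.range p, i = p * r := by
    have h := Finset.sum_range_id_mul_two p
    have h' : p - 1 = 2 * r := by omega
    rw [h'] at h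
    have h'' : (∑ i ∈ Finset.range p, i) * 2 = (p * r) * 2 := by rw [h]; ring
    exact Nat.eq_of_mul_eq_mul_right (by norm_num) h''
  have hS : ∑ i ∈ Finset.range p, (1 + p * x) ^ i =
      p * (1 + p * (x * r + ∑ i ∈ Finset.range p, c i)) := by
    rw [Finset.sum_congr rfl (fun i _ => hc i), Finset.sum_add_distrib, Finset.sum_add_distrib,
      ← Finset.sum_mul, hsum, ← Finset.mul_sum]
    simp only [Finset.sum_const, Finset.card_range, smul_eq_mul]
    ring
  refine ⟨1 + p * (x * r + ∑ i ∈ Finset.range p, c i), ?_, hS⟩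
  rw [Nat.coprime_comm, hp.coprime_iff_not_dvd]
  intro hd
  have h2' : p ∣ p * (x * r + ∑ i ∈ Finset.range p, c i) := dvd_mul_right _ _
  have h1' : p ∣ 1 := (Nat.dvd_add_left h2').1 hd
  exact hp.one_lt.ne' (Nat.dvd_one.1 h1')

theorem mul_pow_prime_of_conj {G : Type*} [Group G] [Finite G] (p : ℕ) (hp : p.Prime)
    (hp2 : p ≠ 2) (a g : G) (hpa : p ∣ orderOf a) (hg : g ^ p = 1)
    (hn : g⁻¹ * a * g ∈ Subgroup.zpowers a) (k : ℕ) :
    ∃ u : ℕ, Nat.Coprime u p ∧ (g * a ^ k) ^ p = a ^ (k * (p * u)) := by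
  haveI : Fact p.Prime := ⟨hp⟩
  obtain ⟨s, hs⟩ := (Submonoid.mem_powers_iff _ _).1 (mem_powers_iff_mem_zpowers.2 hn)
  have hs' : g⁻¹ * a * g = a ^ s := hs.symm
  have h1 := conj_pow_iter hs' p
  rw [hg] at h1
  have h2 : a ^ (s ^ p) = a ^ 1 := by rw [← h1]; simp
  have h3 : s ^ p ≡ 1 [MOD orderOf a] := pow_eq_pow_iff_modEq.1 h2
  have h3' : s ^ p ≡ 1 [MOD p] := h3.of_dvd hpa
  have ha : s ≡ 1 [MOD p] := by
    have hf : s ^ p ≡ s [MOD p] := by
      rw [← ZMod.natCast_eq_natCast_iff]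
      push_cast; exact ZMod.pow_card _
    exact hf.symm.trans h3'
  obtain ⟨x, hx⟩ : ∃ x, s = 1 + p * x := by
    refine ⟨s / p, ?_⟩
    have h := Nat.div_add_mod s p
    have h1p : 1 % p = 1 := Nat.mod_eq_of_lt hp.one_lt
    have h' : s % p = 1 := by rw [← h1p]; exact ha
    omega
  obtain ⟨u, hu, hsum⟩ := geom_sum_odd p hp hp2 x
  refine ⟨u, hu, ?_⟩
  rw [mul_pow_formula hs' k p, hg, one_mul, hx, hsum]

theorem omega_cyclic_index_p {R : Type*} [Group R] [Finite R] {p : ℕ} [Fact p.Prime]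
    (hp2 : p ≠ 2) (hR : IsPGroup p R) (hnc : ¬ IsCyclic R) (C : Subgroup R) (hC : IsCyclic C)
    (hCi : C.index = p) :
    (∀ x ∈ Subgroup.closure {x : R | x ^ p = 1}, x ^ p = 1) ∧
      Nat.card (Subgroup.closure {x : R | x ^ p = 1}) = p ^ 2 := by
  classical
  have hp : p.Prime := Fact.out
  obtain ⟨a, ha⟩ := (Subgroup.isCyclic_iff_exists_zpowers_eq_top C).1 hC
  obtain ⟨n, hn⟩ := IsPGroup.iff_card.1 hR
  have hcardC : Nat.card C * p = p ^ n := by
    rw [← hn, ← hCi]; exact C.card_mul_index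
  have hn2 : 2 ≤ n := by
    by_contra hlt
    rcases Nat.lt_or_ge n 1 with h0 | h1
    · have hn0 : n = 0 := by omega
      rw [hn0, pow_zero] at hcardC
      exact hp.one_lt.ne' (Nat.eq_one_of_mul_eq_one_left hcardC)
    · have hn' : n = 1 := by omega
      rw [hn', pow_one] at hn
      exact hnc (isCyclic_of_prime_card hn)
  haveI hCn : C.Normal := by
    apply Subgroup.normal_of_index_eq_minFac_card
    rw [hCi, hn, hp.pow_minFac (by omega)]
  have hcardC' : Nat.card C = p ^ (n - 1) := by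
    have e : p ^ n = p ^ (n - 1) * p := by rw [← pow_succ]; congr 1; omega
    rw [e] at hcardC
    exact Nat.eq_of_mul_eq_mul_right hp.pos hcardC
  have hao : orderOf a = p ^ (n - 1) := by
    rw [← Nat.card_zpowers, ha]; exact hcardC'
  have hpa : p ∣ orderOf a := by
    rw [hao]; exact dvd_pow_self p (by omega)
  have haC : a ∈ C := by rw [← ha]; exact Subgroup.mem_zpowers a
  have hconj : ∀ g : R, g⁻¹ * a * g ∈ Subgroup.zpowers a := by
    intro g
    rw [ha]
    have h := hCn.conj_mem a haC g⁻¹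
    rwa [inv_inv] at h
  have L1 : ∀ g : R, g ^ p = 1 → ∀ k : ℕ,
      ∃ u, Nat.Coprime u p ∧ (g * a ^ k) ^ p = a ^ (k * (p * u)) :=
    fun g hg k => mul_pow_prime_of_conj p hp hp2 a g hpa hg (hconj g) k
  have hCpow : ∀ c ∈ C, ∃ k : ℕ, a ^ k = c := by
    intro c hc
    rw [← ha] at hc
    exact (Submonoid.mem_powers_iff _ _).1 (mem_powers_iff_mem_zpowers.2 hc)
  have hmul : ∀ u v : R, u ^ p = 1 → v ^ p = 1 → (u * v) ^ p = 1 := by
    intro u v hu hv
    by_cases huC : u ∈ C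
    · obtain ⟨k, hk⟩ := hCpow (v⁻¹ * u * v) (by
        have h := hCn.conj_mem u huC v⁻¹
        rwa [inv_inv] at h)
      obtain ⟨w, hw, hw2⟩ := L1 v hv k
      have e : u * v = v * a ^ k := by rw [hk]; group
      have hkp : (a ^ k) ^ p = 1 := by
        rw [hk]
        have e2 : (v⁻¹ * u * v) ^ p = v⁻¹ * u ^ p * v := by
          have h := conj_pow (a := v⁻¹) (b := u) (i := p)
          rwa [inv_inv] at h
        rw [e2, hu]; group
      rw [e, hw2, pow_mul, pow_mul, hkp, one_pow]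
    · have hcardQ : Nat.card (R ⧸ C) = p := by rw [← Subgroup.index_eq_card]; exact hCi
      have hu1 : (QuotientGroup.mk u : R ⧸ C) ≠ 1 := by
        rw [Ne, QuotientGroup.eq_one_iff]; exact huC
      have htop := zpowers_eq_top_of_prime_card hcardQ hu1
      have hvm : (QuotientGroup.mk v : R ⧸ C)
          ∈ Subgroup.zpowers (QuotientGroup.mk u : R ⧸ C) := by
        rw [htop]; exact Subgroup.mem_top _
      obtain ⟨j, hj⟩ := Subgroup.mem_zpowers_iff.1 hvm
      have hjC : (u ^ j)⁻¹ * v ∈ C := by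
        rw [← QuotientGroup.eq, QuotientGroup.mk_zpow]; exact hj
      obtain ⟨k, hk⟩ := hCpow _ hjC
      have hv' : v = u ^ j * a ^ k := by rw [hk]; group
      have hg1 : (u ^ j) ^ p = 1 := by
        rw [← zpow_natCast, ← zpow_mul, mul_comm, zpow_mul, zpow_natCast, hu, one_zpow]
      have hg2 : (u * u ^ j) ^ p = 1 := by
        rw [← zpow_one_add, ← zpow_natCast, ← zpow_mul, mul_comm, zpow_mul, zpow_natCast, hu,
          one_zpow]
      obtain ⟨w₁, hw₁, hw₁'⟩ := L1 (u ^ j) hg1 k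
      obtain ⟨w₂, hw₂, hw₂'⟩ := L1 (u * u ^ j) hg2 k
      rw [← hv', hv] at hw₁'
      have hd : orderOf a ∣ k * (p * w₁) := orderOf_dvd_of_pow_eq_one hw₁'.symm
      have hd2 : orderOf a ∣ k * p := by
        rw [hao] at hd ⊢
        have hc : Nat.Coprime (p ^ (n - 1)) w₁ := Nat.Coprime.pow_left _ hw₁.symm
        have hd' : p ^ (n - 1) ∣ (k * p) * w₁ := by rw [mul_assoc]; exact hd
        exact hc.dvd_of_dvd_mul_right hd'
      have hkp : a ^ (k * p) = 1 := orderOf_dvd_iff_pow_eq_one.1 hd2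
      have e : u * v = (u * u ^ j) * a ^ k := by rw [hv']; group
      rw [e, hw₂', ← mul_assoc, pow_mul, hkp, one_pow]
  have hΩ : ∀ x ∈ Subgroup.closure {x : R | x ^ p = 1}, x ^ p = 1 := by
    intro x hx
    induction hx using Subgroup.closure_induction with
    | mem y hy => exact hy
    | one => exact one_pow p
    | mul y z _ _ hy hz => exact hmul y z hy hz
    | inv y _ hy => rw [inv_pow, hy, inv_one]
  obtain ⟨Ω, hΩdef⟩ : ∃ Ω : Subgroup R, Ω = Subgroup.closure {x : R | x ^ p = 1} := ⟨_, rfl⟩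
  rw [← hΩdef] at hΩ ⊢
  have hle : Nat.card Ω ≤ p ^ 2 := by
    have h1 : Nat.card (Ω ⊓ C : Subgroup R) ≤ p := by
      haveI : IsCyclic C := hC
      haveI : IsCyclic (Ω ⊓ C : Subgroup R) := Subgroup.isCyclic_of_le inf_le_right
      obtain ⟨b, hb⟩ := (Subgroup.isCyclic_iff_exists_zpowers_eq_top (Ω ⊓ C)).1 inferInstance
      have hbΩ : b ∈ Ω := by
        have hb' : b ∈ Ω ⊓ C := by rw [← hb]; exact Subgroup.mem_zpowers b
        exact (Subgroup.mem_inf.1 hb').1
      rw [← hb, Nat.card_zpowers]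
      exact Nat.le_of_dvd hp.pos (orderOf_dvd_of_pow_eq_one (hΩ b hbΩ))
    have h2 : (Ω ⊓ C).relIndex Ω ≤ p := by
      rw [inf_comm, Subgroup.inf_relIndex_right]
      have h := Subgroup.relIndex_dvd_index_of_normal C Ω
      rw [hCi] at h
      exact Nat.le_of_dvd hp.pos h
    have h3 : Nat.card (Ω ⊓ C : Subgroup R) * (Ω ⊓ C).relIndex Ω = Nat.card Ω := by
      have h := Subgroup.relIndex_mul_relIndex (⊥ : Subgroup R) (Ω ⊓ C) Ω bot_le inf_le_left
      rwa [Subgroup.relIndex_bot_left, Subgroup.relIndex_bot_left] at h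
    rw [← h3, pow_two]
    exact Nat.mul_le_mul h1 h2
  have hge : p ^ 2 ≤ Nat.card Ω := by
    have hΩp : IsPGroup p Ω := hR.to_subgroup Ω
    obtain ⟨e, he⟩ := IsPGroup.iff_card.1 hΩp
    rw [he]
    apply Nat.pow_le_pow_right hp.pos
    by_contra hlt
    have he1 : e ≤ 1 := by omega
    have hcard_le : Nat.card Ω ≤ p := by
      rw [he]
      calc p ^ e ≤ p ^ 1 := Nat.pow_le_pow_right hp.pos he1
        _ = p := pow_one p
    have hsub : ∀ H : Subgroup R, Nat.card H = p → H ≤ Ω := by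
      intro H hH x hx
      rw [hΩdef]
      apply Subgroup.subset_closure
      have h1 := pow_card_eq_one' (G := H) (x := ⟨x, hx⟩)
      rw [hH] at h1
      exact congrArg Subtype.val h1
    have huniq : ∀ H K : Subgroup R, Nat.card H = p → Nat.card K = p → H = K := by
      intro H K hH hK
      have h1 : H = Ω := Subgroup.eq_of_le_of_card_ge (hsub H hH) (by rw [hH]; exact hcard_le)
      have h2 : K = Ω := Subgroup.eq_of_le_of_card_ge (hsub K hK) (by rw [hK]; exact hcard_le)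
      rw [h1, h2]
    rcases unique_sub_cyclic_or_quat p hR huniq with h | ⟨h2, _⟩
    · exact hnc h
    · exact hp2 h2
  exact ⟨hΩ, le_antisymm hle hge⟩

theorem closure_normal_of_conj_invariant {G : Type*} [Group G] (S : Set G)
    (h : ∀ g : G, ∀ x ∈ S, g * x * g⁻¹ ∈ S) : (Subgroup.closure S).Normal := by
  constructor
  intro n hn g
  induction hn using Subgroup.closure_induction with
  | mem y hy => exact Subgroup.subset_closure (h g y hy)
  | one => simp
  | mul y z _ _ hy hz =>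
    have e : g * (y * z) * g⁻¹ = (g * y * g⁻¹) * (g * z * g⁻¹) := by group
    rw [e]; exact Subgroup.mul_mem _ hy hz
  | inv y _ hy =>
    have e : g * y⁻¹ * g⁻¹ = (g * y * g⁻¹)⁻¹ := by group
    rw [e]; exact Subgroup.inv_mem _ hy

theorem exists_normal_over {R : Type*} [Group R] [Finite R] {p : ℕ} [Fact p.Prime]
    (N : Subgroup R) [N.Normal] (y : R ⧸ N) (hy : y ∈ Subgroup.center (R ⧸ N))
    (hyo : orderOf y = p) :
    ∃ B : Subgroup R, B.Normal ∧ N ≤ B ∧ N.relIndex B = p ∧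
      ∀ x ∈ B, ∃ i : ℤ, (QuotientGroup.mk x : R ⧸ N) = y ^ i := by
  have hp : p.Prime := Fact.out
  haveI hzn : (Subgroup.zpowers y).Normal := by
    constructor
    intro n hn g
    have hnc : n ∈ Subgroup.center (R ⧸ N) := (Subgroup.zpowers_le.2 hy) hn
    have h1 := Subgroup.mem_center_iff.1 hnc g
    rw [h1, mul_inv_cancel_right]
    exact hn
  have hle : N ≤ (Subgroup.zpowers y).comap (QuotientGroup.mk' N) := by
    intro x hx
    rw [Subgroup.mem_comap]
    have h : QuotientGroup.mk' N x = 1 := (QuotientGroup.eq_one_iff x).2 hx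
    rw [h]; exact Subgroup.one_mem _
  refine ⟨(Subgroup.zpowers y).comap (QuotientGroup.mk' N), hzn.comap _, hle, ?_, ?_⟩
  · have h1 := Subgroup.relIndex_mul_index hle
    have h2 : ((Subgroup.zpowers y).comap (QuotientGroup.mk' N)).index
        = (Subgroup.zpowers y).index :=
      Subgroup.index_comap_of_surjective _ (QuotientGroup.mk'_surjective N)
    have h3 := (Subgroup.zpowers y).card_mul_index
    rw [Nat.card_zpowers, hyo, ← Subgroup.index_eq_card] at h3
    rw [h2, ← h3] at h1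
    have hpos : 0 < (Subgroup.zpowers y).index :=
      Nat.pos_of_ne_zero Subgroup.index_ne_zero_of_finite
    exact Nat.eq_of_mul_eq_mul_right hpos h1
  · intro x hx
    rw [Subgroup.mem_comap] at hx
    obtain ⟨i, hi⟩ := Subgroup.mem_zpowers_iff.1 hx
    exact ⟨i, hi.symm⟩

theorem exists_normal_elemAb_sq {R : Type*} [Group R] [Finite R] {p : ℕ} [Fact p.Prime]
    (hp2 : p ≠ 2) (hR : IsPGroup p R) (hnc : ¬ IsCyclic R) :
    ∃ A : Subgroup R, A.Normal ∧ Cfsg.IsElementaryAbelian p A ∧ Nat.card A = p ^ 2 := by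
  classical
  have hp : p.Prime := Fact.out
  obtain ⟨A, hAn, hAc, hAmax⟩ := Cfsg.Agent.Lib.Helper5.exists_max_normal_abelian R
  haveI := hAn
  by_cases hAcyc : IsCyclic A
  · have hAtop : A ≠ ⊤ := by
      rintro rfl
      apply hnc
      obtain ⟨a, ha⟩ := (Subgroup.isCyclic_iff_exists_zpowers_eq_top (⊤ : Subgroup R)).1 hAcyc
      exact isCyclic_iff_exists_zpowers_eq_top.2 ⟨a, ha⟩
    haveI : Nontrivial (R ⧸ A) := by
      rw [← Finite.one_lt_card_iff_nontrivial, ← Subgroup.index_eq_card]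
      have h1 : A.index ≠ 1 := fun h => hAtop (Subgroup.index_eq_one.1 h)
      have h0 : A.index ≠ 0 := Subgroup.index_ne_zero_of_finite
      omega
    have hQ : IsPGroup p (R ⧸ A) := hR.to_quotient A
    haveI := hQ.center_nontrivial
    have hpc : p ∣ Nat.card (Subgroup.center (R ⧸ A)) := by
      obtain ⟨k, hk⟩ := IsPGroup.iff_card.1 (hQ.to_subgroup (Subgroup.center (R ⧸ A)))
      rw [hk]
      have hk0 : k ≠ 0 := by
        rintro rfl
        rw [pow_zero] at hk
        exact (Finite.one_lt_card (α := Subgroup.center (R ⧸ A))).ne' hk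
      exact dvd_pow_self p hk0
    obtain ⟨y', hy'⟩ := exists_prime_orderOf_dvd_card' (G := Subgroup.center (R ⧸ A)) p hpc
    have hy'o : orderOf (y' : R ⧸ A) = p := by rw [Subgroup.orderOf_coe]; exact hy'
    obtain ⟨B, hBn, hAB, hidx, hBy⟩ := exists_normal_over (p := p) A (y' : R ⧸ A) y'.2 hy'o
    haveI := hBn
    have hBnc : ¬ IsCyclic B := by
      intro hcyc
      haveI := hcyc
      have hBc : ∀ x ∈ B, ∀ y ∈ B, x * y = y * x := by
        intro x hx y hy
        have h := (IsCyclic.isMulCommutative (α := B)).is_comm.comm ⟨x, hx⟩ ⟨y, hy⟩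
        exact congrArg Subtype.val h
      have hBA := hAmax B hBn hBc hAB
      rw [hBA, Subgroup.relIndex_self] at hidx
      exact hp.one_lt.ne hidx
    haveI : IsCyclic (A.subgroupOf B) :=
      (Subgroup.subgroupOfEquivOfLe hAB).isCyclic.2 hAcyc
    obtain ⟨hΩ, hΩcard⟩ := omega_cyclic_index_p hp2 (hR.to_subgroup B) hBnc (A.subgroupOf B)
      inferInstance hidx
    obtain ⟨E, hE⟩ : ∃ E : Subgroup R,
        E = (Subgroup.closure {x : B | x ^ p = 1}).map B.subtype := ⟨_, rfl⟩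
    have hEcard : Nat.card E = p ^ 2 := by
      rw [hE, Subgroup.card_map_of_injective B.subtype_injective]
      exact hΩcard
    have hEexp : ∀ x ∈ E, x ^ p = 1 := by
      intro x hx
      rw [hE] at hx
      obtain ⟨y, hy, rfl⟩ := Subgroup.mem_map.1 hx
      exact congrArg Subtype.val (hΩ y hy)
    have hEn : E.Normal := by
      have hE' : E = Subgroup.closure {x : R | x ∈ B ∧ x ^ p = 1} := by
        rw [hE, MonoidHom.map_closure]
        congr 1
        ext x
        constructor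
        · rintro ⟨y, hy, rfl⟩
          exact ⟨y.2, congrArg Subtype.val hy⟩
        · rintro ⟨hxB, hxp⟩
          exact ⟨⟨x, hxB⟩, Subtype.ext hxp, rfl⟩
      rw [hE']
      apply closure_normal_of_conj_invariant
      rintro g x ⟨hxB, hxp⟩
      refine ⟨hBn.conj_mem x hxB g, ?_⟩
      rw [conj_pow, hxp]; group
    exact ⟨E, hEn, ⟨IsPGroup.isMulCommutative_of_card_eq_prime_sq hEcard, hEexp⟩, hEcard⟩
  · obtain ⟨Ω, hΩdef⟩ : ∃ Ω : Subgroup R,
        Ω = Subgroup.closure {x : R | x ∈ A ∧ x ^ p = 1} := ⟨_, rfl⟩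
    have hΩn : Ω.Normal := by
      rw [hΩdef]
      apply closure_normal_of_conj_invariant
      rintro g x ⟨hxA, hxp⟩
      refine ⟨hAn.conj_mem x hxA g, ?_⟩
      rw [conj_pow, hxp]; group
    haveI := hΩn
    have hΩA : ∀ x ∈ Ω, x ∈ A ∧ x ^ p = 1 := by
      intro x hx
      rw [hΩdef] at hx
      induction hx using Subgroup.closure_induction with
      | mem y hy => exact hy
      | one => exact ⟨A.one_mem, one_pow p⟩
      | mul y z _ _ hy hz =>
        refine ⟨A.mul_mem hy.1 hz.1, ?_⟩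
        have hc : Commute y z := hAc y hy.1 z hz.1
        rw [hc.mul_pow, hy.2, hz.2, one_mul]
      | inv y _ hy => exact ⟨A.inv_mem hy.1, by rw [inv_pow, hy.2, inv_one]⟩
    have hAp : IsPGroup p A := hR.to_subgroup A
    have hex : ∃ H K : Subgroup A, Nat.card H = p ∧ Nat.card K = p ∧ H ≠ K := by
      by_contra hcon
      push Not at hcon
      rcases unique_sub_cyclic_or_quat p hAp hcon with h | ⟨h2, _⟩
      · exact hAcyc h
      · exact hp2 h2
    obtain ⟨H₁, H₂, hH₁, hH₂, hne⟩ := hex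
    have hsub : ∀ H : Subgroup A, Nat.card H = p → H.map A.subtype ≤ Ω := by
      intro H hH x hx
      obtain ⟨y, hy, rfl⟩ := Subgroup.mem_map.1 hx
      rw [hΩdef]
      apply Subgroup.subset_closure
      refine ⟨y.2, ?_⟩
      have h1 := pow_card_eq_one' (G := H) (x := ⟨y, hy⟩)
      rw [hH] at h1
      have h2 : y ^ p = 1 := congrArg Subtype.val h1
      exact congrArg Subtype.val h2
    have hΩne : Ω ≠ ⊥ := by
      intro h
      have h1 := hsub H₁ hH₁
      rw [h, le_bot_iff, Subgroup.map_eq_bot_iff_of_injective _ A.subtype_injective] at h1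
      rw [h1, Subgroup.card_bot] at hH₁
      exact hp.one_lt.ne hH₁
    obtain ⟨z, hzΩ, hz1, hzc⟩ :=
      Cfsg.Agent.Lib.Helper3.exists_ne_one_mem_center_of_normal hR Ω hΩne
    have hzp : z ^ p = 1 := (hΩA z hzΩ).2
    have hzo : orderOf z = p := orderOf_eq_prime hzp hz1
    obtain ⟨Z, hZ⟩ : ∃ Z : Subgroup R, Z = Subgroup.zpowers z := ⟨_, rfl⟩
    have hZcard : Nat.card Z = p := by rw [hZ, Nat.card_zpowers, hzo]
    have hZΩ : Z ≤ Ω := by rw [hZ]; exact Subgroup.zpowers_le.2 hzΩ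
    haveI hZn : Z.Normal := by
      constructor
      intro n hn g
      have hnc : n ∈ Subgroup.center R := by
        rw [hZ] at hn
        exact (Subgroup.zpowers_le.2 hzc) hn
      have h1 := Subgroup.mem_center_iff.1 hnc g
      rw [h1, mul_inv_cancel_right]
      exact hn
    have hexx : ∃ x ∈ Ω, x ∉ Z := by
      by_contra hcon
      push Not at hcon
      have hΩZ : Ω = Z := le_antisymm hcon hZΩ
      have e1 : H₁.map A.subtype = Ω := Subgroup.eq_of_le_of_card_ge (hsub H₁ hH₁) (by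
        rw [hΩZ, hZcard, Subgroup.card_map_of_injective A.subtype_injective, hH₁])
      have e2 : H₂.map A.subtype = Ω := Subgroup.eq_of_le_of_card_ge (hsub H₂ hH₂) (by
        rw [hΩZ, hZcard, Subgroup.card_map_of_injective A.subtype_injective, hH₂])
      exact hne (Subgroup.map_injective A.subtype_injective (e1.trans e2.symm))
    obtain ⟨x₀, hx₀Ω, hx₀Z⟩ := hexx
    have hQ : IsPGroup p (R ⧸ Z) := hR.to_quotient Z
    have hΩbar_n : (Ω.map (QuotientGroup.mk' Z)).Normal :=
      hΩn.map (QuotientGroup.mk' Z) (QuotientGroup.mk'_surjective Z)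
    haveI := hΩbar_n
    have hΩbar_ne : Ω.map (QuotientGroup.mk' Z) ≠ ⊥ := by
      intro h
      have h1 : QuotientGroup.mk' Z x₀ ∈ Ω.map (QuotientGroup.mk' Z) :=
        Subgroup.mem_map_of_mem _ hx₀Ω
      rw [h, Subgroup.mem_bot] at h1
      exact hx₀Z ((QuotientGroup.eq_one_iff x₀).1 h1)
    obtain ⟨y, hyΩ, hy1, hyc⟩ :=
      Cfsg.Agent.Lib.Helper3.exists_ne_one_mem_center_of_normal hQ _ hΩbar_ne
    obtain ⟨b, hbΩ, hby⟩ := Subgroup.mem_map.1 hyΩ
    have hyp : y ^ p = 1 := by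
      rw [← hby, ← map_pow, (hΩA b hbΩ).2, map_one]
    have hyo : orderOf y = p := orderOf_eq_prime hyp hy1
    obtain ⟨B, hBn, hZB, hidx, hBy⟩ := exists_normal_over Z y hyc hyo
    have hBΩ : B ≤ Ω := by
      intro x hx
      obtain ⟨i, hi⟩ := hBy x hx
      have h1 : (QuotientGroup.mk (b ^ i) : R ⧸ Z) = QuotientGroup.mk x := by
        rw [QuotientGroup.mk_zpow, hi]
        congr 1
      have h2 : (b ^ i)⁻¹ * x ∈ Z := QuotientGroup.eq.1 h1
      have h3 : x = b ^ i * ((b ^ i)⁻¹ * x) := by group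
      rw [h3]
      exact Ω.mul_mem (Ω.zpow_mem hbΩ i) (hZΩ h2)
    have hBcard : Nat.card B = p ^ 2 := by
      have h1 := Subgroup.relIndex_mul_relIndex (⊥ : Subgroup R) Z B bot_le hZB
      rw [Subgroup.relIndex_bot_left, Subgroup.relIndex_bot_left, hZcard, hidx] at h1
      rw [← h1, pow_two]
    refine ⟨B, hBn, ⟨⟨⟨fun a' b' => ?_⟩⟩, fun x hx => (hΩA x (hBΩ hx)).2⟩, hBcard⟩
    exact Subtype.ext (hAc a' (hΩA a' (hBΩ a'.2)).1 b' (hΩA b' (hBΩ b'.2)).1)

end Cfsg.Agent.Lib.Lead
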