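import Mathlib
import Cfsg.Agent.Lib.Lead.PNilp2
import Cfsg.Agent.Lib.Lead.NilpHall
import Cfsg.Agent.Lib.Helper2.Nilp

set_option autoImplicit false

namespace Cfsg.Agent.Lib.Lead

open scoped Pointwise commutatorElement

universe u

theorem isNilpotent_of_comm {X : Type*} [Group X] (h : ∀ a b : X, a * b = b * a) :
    Group.IsNilpotent X := by
  letI : CommGroup X := { (inferInstance : Group X) with mul_comm := h }
  exact CommGroup.isNilpotent

theorem nilpotent_hasNormalPComplement {G : Type u} [Group G] [Finite G] (p : ℕ) [Fact p.Prime]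
    (hG : Group.IsNilpotent G) : Cfsg.HasNormalPComplement p G := by
  obtain P : Sylow p G := default
  have hF : ∀ Q : Subgroup G, Q ≤ (P : Subgroup G) → ∀ g ∈ Subgroup.normalizer (Q : Set G),
      Nat.Coprime (orderOf g) p → g ∈ Subgroup.centralizer (Q : Set G) := by
    intro Q hQP g hgN hgcop
    rw [Subgroup.mem_centralizer_iff]
    obtain ⟨k, hk⟩ := IsPGroup.iff_card.mp (P.2.to_le hQP)
    exact nilpotent_coprime_centralizes (Subgroup.normalizer (Q : Set G)) Q inferInstance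
      Subgroup.le_normalizer le_rfl g hgN (by rw [hk]; exact Nat.Coprime.pow_right k hgcop)
  obtain ⟨N, hNn, hNc⟩ := (frobenius_pnilpotent P).mpr hF
  exact ⟨P, N, hNn, hNc⟩

/-- A minimal non-`p`-nilpotent group is minimal non-nilpotent with a normal Sylow
`p`-subgroup. -/
theorem min_non_pnilpotent {G : Type u} [Group G] [Finite G] {p : ℕ} [Fact p.Prime]
    (h1 : ¬ Cfsg.HasNormalPComplement p G)
    (h2 : ∀ H : Subgroup G, H ≠ ⊤ → Cfsg.HasNormalPComplement p H) :
    (∀ H : Subgroup G, H ≠ ⊤ → Group.IsNilpotent H) ∧ ¬ Group.IsNilpotent G ∧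
      ∀ P : Sylow p G, (P : Subgroup G).Normal := by
  have hpp : p.Prime := Fact.out
  obtain P₀ : Sylow p G := default
  have hex : ∃ Q : Subgroup G, Q ≤ (P₀ : Subgroup G) ∧ ∃ g ∈ Subgroup.normalizer (Q : Set G),
      Nat.Coprime (orderOf g) p ∧ g ∉ Subgroup.centralizer (Q : Set G) := by
    by_contra hcon
    apply h1
    have hF : ∀ Q : Subgroup G, Q ≤ (P₀ : Subgroup G) → ∀ g ∈ Subgroup.normalizer (Q : Set G),
        Nat.Coprime (orderOf g) p → g ∈ Subgroup.centralizer (Q : Set G) := by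
      intro Q hQ g hg hgc
      by_contra hgn
      exact hcon ⟨Q, hQ, g, hg, hgc, hgn⟩
    obtain ⟨N, hNn, hNc⟩ := (frobenius_pnilpotent P₀).mpr hF
    exact ⟨P₀, N, hNn, hNc⟩
  obtain ⟨Q, hQP, g, hgN, hgcop, hgC⟩ := hex
  have hQp : IsPGroup p Q := P₀.2.to_le hQP
  have hzN : Subgroup.zpowers g ≤ Subgroup.normalizer (Q : Set G) := Subgroup.zpowers_le.mpr hgN
  have hLtop : Q ⊔ Subgroup.zpowers g = ⊤ := by
    by_contra hL
    obtain ⟨S, M, hMn, hMc⟩ := h2 _ hL
    have hQL : Q ≤ Q ⊔ Subgroup.zpowers g := le_sup_left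
    have hgL : g ∈ Q ⊔ Subgroup.zpowers g := Subgroup.mem_sup_right (Subgroup.mem_zpowers g)
    have hQn : (Q.subgroupOf (Q ⊔ Subgroup.zpowers g)).Normal :=
      Subgroup.normal_subgroupOf_of_le_normalizer (sup_le Subgroup.le_normalizer hzN)
    apply hgC
    rw [Subgroup.mem_centralizer_iff]
    intro q hq
    have h0 := centralizes_of_complement S M hMc (Q.subgroupOf (Q ⊔ Subgroup.zpowers g))
      (IsPGroup.comap_subtype hQp) ⟨g, hgL⟩ (by rw [← Subgroup.orderOf_coe]; exact hgcop)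
      ⟨q, hQL hq⟩ (Subgroup.mem_subgroupOf.mpr hq)
    exact congrArg Subtype.val h0
  have hQn : Q.Normal := by
    rw [← Subgroup.normalizer_eq_top_iff, eq_top_iff, ← hLtop]
    exact sup_le Subgroup.le_normalizer hzN
  have hdecomp : ∀ x : G, ∃ q ∈ Q, ∃ k : ℤ, x = q * g ^ k := by
    intro x
    have hx : x ∈ Q ⊔ Subgroup.zpowers g := by rw [hLtop]; trivial
    rw [← SetLike.mem_coe, Subgroup.normal_mul] at hx
    obtain ⟨q, hq, z, hz, rfl⟩ := hx
    obtain ⟨k, rfl⟩ := Subgroup.mem_zpowers_iff.mp hz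
    exact ⟨q, hq, k, rfl⟩
  have hQidx : ¬ p ∣ Q.index := by
    intro hd
    rw [Subgroup.index_eq_card] at hd
    obtain ⟨y, hy⟩ := exists_prime_orderOf_dvd_card' p hd
    obtain ⟨x, rfl⟩ := QuotientGroup.mk_surjective y
    obtain ⟨q, hq, k, rfl⟩ := hdecomp x
    have h3 : ((q * g ^ k : G) : G ⧸ Q) ^ orderOf g = 1 := by
      rw [QuotientGroup.mk_mul, (QuotientGroup.eq_one_iff q).mpr hq, one_mul,
        ← QuotientGroup.mk_pow, ← zpow_natCast, ← zpow_mul, mul_comm, zpow_mul, zpow_natCast,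
        pow_orderOf_eq_one, one_zpow, QuotientGroup.mk_one]
    have h4 : p ∣ orderOf g := by
      rw [← hy]; exact orderOf_dvd_of_pow_eq_one h3
    exact (Nat.Prime.coprime_iff_not_dvd hpp).mp hgcop.symm h4
  have hcomm : ∀ x y : G, x * y * x⁻¹ * y⁻¹ ∈ Q := by
    intro x y
    obtain ⟨q1, hq1, a, rfl⟩ := hdecomp x
    obtain ⟨q2, hq2, b, rfl⟩ := hdecomp y
    rw [← QuotientGroup.eq_one_iff]
    simp only [QuotientGroup.mk_mul, QuotientGroup.mk_inv, (QuotientGroup.eq_one_iff q1).mpr hq1,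
      (QuotientGroup.eq_one_iff q2).mpr hq2, one_mul, QuotientGroup.mk_zpow]
    rw [← zpow_add, ← zpow_neg, ← zpow_add, ← zpow_neg, ← zpow_add]
    have e : a + b + -a + -b = 0 := by ring
    rw [e, zpow_zero]
  refine ⟨?_, ?_, ?_⟩
  · intro H hH
    obtain ⟨S, M, hMn, hMc⟩ := h2 H hH
    have hQHn : (Q.subgroupOf H).Normal := hQn.subgroupOf H
    have hQHp : IsPGroup p (Q.subgroupOf H) := IsPGroup.comap_subtype hQp
    have hQHS : Q.subgroupOf H ≤ (S : Subgroup H) := hQHp.le_sylow_of_normal S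
    have hSQ : (S : Subgroup H) ≤ Q.subgroupOf H := by
      intro s hs
      rw [Subgroup.mem_subgroupOf]
      obtain ⟨P', hP'⟩ := (S.2.map H.subtype).exists_le_sylow
      haveI : ((hQp.toSylow hQidx : Sylow p G) : Subgroup G).Normal := hQn
      obtain ⟨x, hx⟩ := MulAction.exists_smul_eq G (hQp.toSylow hQidx) P'
      rw [Sylow.smul_eq_of_normal] at hx
      have h3 : (s : G) ∈ (P' : Subgroup G) := hP' ⟨s, hs, rfl⟩
      rw [← hx] at h3
      exact h3
    have hSeq : (S : Subgroup H) = Q.subgroupOf H := le_antisymm hSQ hQHS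
    rw [hSeq] at hMc
    have hMcomm : ∀ a ∈ M, ∀ b ∈ M, a * b = b * a := by
      intro a ha b hb
      have h3 : a * b * a⁻¹ * b⁻¹ ∈ M ⊓ Q.subgroupOf H := by
        exact ⟨M.mul_mem (M.mul_mem (M.mul_mem ha hb) (M.inv_mem ha)) (M.inv_mem hb),
          Subgroup.mem_subgroupOf.mpr (hcomm a b)⟩
      rw [hMc.disjoint.eq_bot, Subgroup.mem_bot] at h3
      calc a * b = (a * b * a⁻¹ * b⁻¹) * (b * a) := by group
        _ = b * a := by rw [h3, one_mul]
    have hMnil : Group.IsNilpotent M :=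
      isNilpotent_of_comm (fun a b => Subtype.ext (hMcomm a a.2 b b.2))
    have hQnil : Group.IsNilpotent (Q.subgroupOf H) := hQHp.isNilpotent
    have hF1 : M ≤ Cfsg.fittingSubgroup H := le_sSup ⟨hMn, hMnil⟩
    have hF2 : Q.subgroupOf H ≤ Cfsg.fittingSubgroup H := le_sSup ⟨hQHn, hQnil⟩
    have hFtop : Cfsg.fittingSubgroup H = ⊤ := by
      rw [eq_top_iff, ← hMc.sup_eq_top]; exact sup_le hF1 hF2
    have hFn := Cfsg.Agent.Lib.Helper2.fitting_isNilpotent H
    rw [hFtop] at hFn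
    exact Group.nilpotent_of_mulEquiv Subgroup.topEquiv
  · intro hnil
    exact h1 (nilpotent_hasNormalPComplement p hnil)
  · intro P
    haveI : ((hQp.toSylow hQidx : Sylow p G) : Subgroup G).Normal := hQn
    obtain ⟨x, hx⟩ := MulAction.exists_smul_eq G (hQp.toSylow hQidx) P
    rw [Sylow.smul_eq_of_normal] at hx
    rw [← hx]
    exact hQn

end Cfsg.Agent.Lib.Lead
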