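import Mathlib
import Cfsg.Prelude.Def_Involutions
import Cfsg.Agent.Lib.Lead.SylowAux2
import Cfsg.Agent.Lib.Lead.SZ
import Cfsg.Agent.Lib.Lead.Glauberman2

set_option autoImplicit false

namespace Cfsg.Agent.Lib.Lead

open scoped Pointwise commutatorElement

/-- A nontrivial `2`-subgroup has a central involution. -/
theorem exists_central_invol_of_two_group {G : Type*} [Group G] [Finite G] (S : Subgroup G)
    (hS : IsPGroup 2 S) (hS1 : S ≠ ⊥) :
    ∃ z ∈ S, orderOf z = 2 ∧ ∀ s ∈ S, s * z = z * s := by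
  haveI : Nontrivial S := (Subgroup.nontrivial_iff_ne_bot S).mpr hS1
  haveI hcn := hS.center_nontrivial
  have hcpg : IsPGroup 2 (Subgroup.center ↥S) := hS.to_subgroup _
  obtain ⟨m, hm⟩ := IsPGroup.iff_card.mp hcpg
  have hm0 : m ≠ 0 := by
    rintro rfl
    rw [pow_zero] at hm
    have h1 := Finite.one_lt_card (α := Subgroup.center ↥S)
    omega
  obtain ⟨z', hz'⟩ := exists_prime_orderOf_dvd_card' (G := Subgroup.center ↥S) 2
    (by rw [hm]; exact dvd_pow_self 2 hm0)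
  refine ⟨((z' : ↥S) : G), (z' : ↥S).2, ?_, ?_⟩
  · rw [Subgroup.orderOf_coe, Subgroup.orderOf_coe]
    exact hz'
  · intro s hs
    have h1 := Subgroup.mem_center_iff.mp z'.2 ⟨s, hs⟩
    exact congrArg Subtype.val h1

theorem se_hyp' {G : Type*} [Group G] [Finite G] (H : Subgroup G) (P : Sylow 2 ↥H)
    (hyp : ∀ X : Subgroup ↥H, X ≤ (P : Subgroup ↥H) → X ≠ ⊥ →
      Subgroup.normalizer ((X.map H.subtype : Subgroup G) : Set G) ≤ H)
    (X : Subgroup G) (hXH : X ≤ H) (hX : IsPGroup 2 X) (hX1 : X ≠ ⊥) :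
    Subgroup.normalizer (X : Set G) ≤ H := by
  have hX' : IsPGroup 2 (X.subgroupOf H) := hX.comap_subtype
  obtain ⟨k, hk⟩ := sylow_conj_mem P (X.subgroupOf H) hX'
  have hYH : X.map (MulAut.conj (k : G)).toMonoidHom ≤ H := by
    rintro y ⟨x, hx, rfl⟩
    exact H.mul_mem (H.mul_mem k.2 (hXH hx)) (H.inv_mem k.2)
  have hYP : (X.map (MulAut.conj (k : G)).toMonoidHom).subgroupOf H ≤ (P : Subgroup ↥H) := by
    intro y hy
    rw [Subgroup.mem_subgroupOf] at hy
    obtain ⟨x, hx, hxy⟩ := hy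
    have h1 : y = k * ⟨x, hXH hx⟩ * k⁻¹ := Subtype.ext hxy.symm
    rw [h1]
    exact hk _ (Subgroup.mem_subgroupOf.mpr hx)
  have hY1 : (X.map (MulAut.conj (k : G)).toMonoidHom).subgroupOf H ≠ ⊥ := by
    intro h
    have h1 := Subgroup.map_subgroupOf_eq_of_le hYH
    rw [h, Subgroup.map_bot] at h1
    exact hX1 ((Subgroup.map_eq_bot_iff_of_injective X (MulAut.conj (k : G)).injective).mp h1.symm)
  have h2 := hyp _ hYP hY1
  rw [Subgroup.map_subgroupOf_eq_of_le hYH, ← Subgroup.map_equiv_normalizer_eq] at h2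
  intro n hn
  have h3 : (k : G) * n * (k : G)⁻¹ ∈ H := h2 (Subgroup.mem_map_of_mem _ hn)
  have h4 : n = (k : G)⁻¹ * ((k : G) * n * (k : G)⁻¹) * (k : G) := by group
  rw [h4]
  exact H.mul_mem (H.mul_mem (H.inv_mem k.2) h3) k.2

theorem se_forward {G : Type*} [Group G] [Finite G] (H : Subgroup G) (P : Sylow 2 ↥H)
    (hse : Cfsg.IsStronglyEmbedded H) (X : Subgroup ↥H) (hXP : X ≤ (P : Subgroup ↥H))
    (hX1 : X ≠ ⊥) :
    Subgroup.normalizer ((X.map H.subtype : Subgroup G) : Set G) ≤ H := by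
  intro n hn
  by_contra hnH
  have hodd := hse.2.2 n hnH
  have hle : X.map H.subtype ≤ H ⊓ H.map (MulAut.conj n).toMonoidHom := by
    intro x hx
    refine Subgroup.mem_inf.mpr ⟨Subgroup.map_subtype_le X hx, ?_⟩
    rw [Subgroup.mem_map]
    refine ⟨n⁻¹ * x * n, ?_, ?_⟩
    · have hn' : n⁻¹ ∈ Subgroup.normalizer ((X.map H.subtype : Subgroup G) : Set G) :=
        Subgroup.inv_mem _ hn
      have h1 := conj_mem_of_mem_normalizer hn' hx
      rw [inv_inv] at h1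
      exact Subgroup.map_subtype_le X h1
    · show n * (n⁻¹ * x * n) * n⁻¹ = x
      group
  have hdvd := Subgroup.card_dvd_of_le hle
  have hXpg : IsPGroup 2 X := P.2.to_le hXP
  obtain ⟨m, hm⟩ := IsPGroup.iff_card.mp hXpg
  have hcard : Nat.card (X.map H.subtype) = Nat.card X :=
    Subgroup.card_map_of_injective (Subgroup.subtype_injective H)
  have hm0 : m ≠ 0 := by
    rintro rfl
    rw [pow_zero] at hm
    exact hX1 (Subgroup.eq_bot_of_card_eq _ hm)
  have h2 : 2 ∣ Nat.card (X.map H.subtype) := by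
    rw [hcard, hm]
    exact dvd_pow_self 2 hm0
  have h3 : 2 ∣ Nat.card ↥(H ⊓ H.map (MulAut.conj n).toMonoidHom) := dvd_trans h2 hdvd
  exact (Nat.not_even_iff_odd.mpr hodd) (even_iff_two_dvd.mpr h3)

theorem se_backward {G : Type*} [Group G] [Finite G] (H : Subgroup G) (hH : H ≠ ⊤)
    (P : Sylow 2 ↥H) (hP : (P : Subgroup ↥H) ≠ ⊥)
    (hyp : ∀ X : Subgroup ↥H, X ≤ (P : Subgroup ↥H) → X ≠ ⊥ →
      Subgroup.normalizer ((X.map H.subtype : Subgroup G) : Set G) ≤ H) :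
    Cfsg.IsStronglyEmbedded H := by
  have F2 := se_hyp' H P hyp
  refine ⟨hH, ?_, ?_⟩
  · obtain ⟨m, hm⟩ := IsPGroup.iff_card.mp P.2
    have hm0 : m ≠ 0 := by
      rintro rfl
      rw [pow_zero] at hm
      exact hP (Subgroup.eq_bot_of_card_eq _ hm)
    have hdvd : Nat.card (P : Subgroup ↥H) ∣ Nat.card ↥H := Subgroup.card_subgroup_dvd_card _
    rw [even_iff_two_dvd]
    exact dvd_trans (by rw [hm]; exact dvd_pow_self 2 hm0) hdvd
  · intro g hg
    by_contra hodd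
    rw [Nat.not_odd_iff_even] at hodd
    obtain ⟨t', ht'⟩ := exists_prime_orderOf_dvd_card'
      (G := ↥(H ⊓ H.map (MulAut.conj g).toMonoidHom)) 2 (even_iff_two_dvd.mp hodd)
    have ht : orderOf (t' : G) = 2 := by
      rw [Subgroup.orderOf_coe]
      exact ht'
    obtain ⟨htH, htg⟩ := Subgroup.mem_inf.mp t'.2
    obtain ⟨t₁, ht₁H, ht₁⟩ := Subgroup.mem_map.mp htg
    have ht₁' : g * t₁ * g⁻¹ = (t' : G) := ht₁
    generalize (t' : G) = t at ht htH ht₁'
    have ht₁o : orderOf t₁ = 2 := by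
      have h1 : t₁ = g⁻¹ * t * g⁻¹⁻¹ := by rw [← ht₁']; group
      rw [h1]
      exact invol_conj ht g⁻¹
    have hcent : ∀ z : G, orderOf z = 2 → z ∈ H → Subgroup.centralizer ({z} : Set G) ≤ H := by
      intro z hz hzH
      have h1 := F2 (Subgroup.zpowers z) (Subgroup.zpowers_le.mpr hzH) (isPGroup_zpowers_invol hz)
        (by
          intro h
          rw [Subgroup.zpowers_eq_bot] at h
          exact invol_ne_one hz h)
      refine le_trans ?_ h1
      refine le_trans ?_ (Subgroup.centralizer_le_normalizer _)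
      rw [Subgroup.zpowers_eq_closure, Subgroup.centralizer_closure]
    have hpg : IsPGroup 2 (Subgroup.zpowers (⟨t₁, ht₁H⟩ : ↥H)) :=
      isPGroup_zpowers_invol (by rw [Subgroup.orderOf_mk]; exact ht₁o)
    obtain ⟨S₁, hS₁⟩ := hpg.exists_le_sylow
    have ht₁S : (⟨t₁, ht₁H⟩ : ↥H) ∈ S₁ := hS₁ (Subgroup.mem_zpowers _)
    have hS'H : (S₁ : Subgroup ↥H).map H.subtype ≤ H := Subgroup.map_subtype_le _
    have hS'pg : IsPGroup 2 ((S₁ : Subgroup ↥H).map H.subtype) := S₁.2.map _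
    have ht₁S' : t₁ ∈ (S₁ : Subgroup ↥H).map H.subtype := ⟨⟨t₁, ht₁H⟩, ht₁S, rfl⟩
    have hS'1 : (S₁ : Subgroup ↥H).map H.subtype ≠ ⊥ := by
      intro h
      rw [h, Subgroup.mem_bot] at ht₁S'
      exact invol_ne_one ht₁o ht₁S'
    obtain ⟨z₁, hz₁S, hz₁o, hz₁c⟩ := exists_central_invol_of_two_group _ hS'pg hS'1
    have hzo : orderOf (g * z₁ * g⁻¹) = 2 := invol_conj hz₁o g
    have hzt : g * z₁ * g⁻¹ ∈ Subgroup.centralizer ({t} : Set G) := by
      rw [Subgroup.mem_centralizer_singleton_iff, ← ht₁']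
      have h1 := hz₁c t₁ ht₁S'
      calc g * z₁ * g⁻¹ * (g * t₁ * g⁻¹) = g * (z₁ * t₁) * g⁻¹ := by group
        _ = g * (t₁ * z₁) * g⁻¹ := by rw [h1]
        _ = g * t₁ * g⁻¹ * (g * z₁ * g⁻¹) := by group
    have hzH : g * z₁ * g⁻¹ ∈ H := hcent t ht htH hzt
    have hCz := hcent _ hzo hzH
    have hS₂H : ∀ s ∈ (S₁ : Subgroup ↥H).map H.subtype, g * s * g⁻¹ ∈ H := by
      intro s hs
      apply hCz
      rw [Subgroup.mem_centralizer_singleton_iff]
      have h1 := hz₁c s hs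
      calc g * s * g⁻¹ * (g * z₁ * g⁻¹) = g * (s * z₁) * g⁻¹ := by group
        _ = g * (z₁ * s) * g⁻¹ := by rw [h1]
        _ = g * z₁ * g⁻¹ * (g * s * g⁻¹) := by group
    have hS₂pg : IsPGroup 2 ((((S₁ : Subgroup ↥H).map H.subtype).map
        (MulAut.conj g).toMonoidHom).subgroupOf H) := (hS'pg.map _).comap_subtype
    obtain ⟨k, hk⟩ := sylow_conj_mem S₁ _ hS₂pg
    have hnorm : (k : G) * g ∈ Subgroup.normalizer
        (((S₁ : Subgroup ↥H).map H.subtype : Subgroup G) : Set G) := by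
      apply mem_normalizer_of_conj_mem
      intro s hs
      have h1 : (⟨g * s * g⁻¹, hS₂H s hs⟩ : ↥H) ∈
          (((S₁ : Subgroup ↥H).map H.subtype).map (MulAut.conj g).toMonoidHom).subgroupOf H := by
        rw [Subgroup.mem_subgroupOf]
        exact ⟨s, hs, rfl⟩
      have h2 := hk _ h1
      refine ⟨_, h2, ?_⟩
      show (k : G) * (g * s * g⁻¹) * (k : G)⁻¹ = (k : G) * g * s * ((k : G) * g)⁻¹
      group
    have h5 := F2 _ hS'H hS'pg hS'1 hnorm
    apply hg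
    have h6 : g = (k : G)⁻¹ * ((k : G) * g) := by group
    rw [h6]
    exact H.mul_mem (H.inv_mem k.2) h5

end Cfsg.Agent.Lib.Lead
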