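import Mathlib
import Cfsg.Agent.Lib.Lead.MaxIndex
import Cfsg.Agent.Lib.Lead.CoprimeAction2

set_option autoImplicit false

namespace Cfsg.Agent.Lib.Lead

open scoped Pointwise commutatorElement

universe u

/-- Restriction of relative subnormality to an intermediate subgroup. -/
theorem subnormal_restrict {G : Type*} [Group G] {X Y Z : Subgroup G} (hYZ : Y ≤ Z)
    (h : (X.subgroupOf Z).IsSubnormal) : (X.subgroupOf Y).IsSubnormal := by
  have h1 := h.comap (Subgroup.inclusion hYZ)
  have h2 : (X.subgroupOf Z).comap (Subgroup.inclusion hYZ) = X.subgroupOf Y := by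
    ext y
    rw [Subgroup.mem_comap, Subgroup.mem_subgroupOf, Subgroup.mem_subgroupOf]
    rfl
  rw [h2] at h1; exact h1

theorem subnormal_subgroupOf_subgroupOf {G : Type*} [Group G] {X Y Z : Subgroup G} (hYZ : Y ≤ Z)
    (h : (X.subgroupOf Y).IsSubnormal) :
    ((X.subgroupOf Z).subgroupOf (Y.subgroupOf Z)).IsSubnormal := by
  have h1 := h.comap (Subgroup.subgroupOfEquivOfLe hYZ).toMonoidHom
  have h2 : (X.subgroupOf Y).comap (Subgroup.subgroupOfEquivOfLe hYZ).toMonoidHom =
      (X.subgroupOf Z).subgroupOf (Y.subgroupOf Z) := by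
    ext y
    rw [Subgroup.mem_comap, Subgroup.mem_subgroupOf, Subgroup.mem_subgroupOf,
      Subgroup.mem_subgroupOf]
    rfl
  rw [h2] at h1; exact h1

/-- Transitivity of relative subnormality. -/
theorem subnormal_trans {G : Type*} [Group G] {X Y Z : Subgroup G} (hXY : X ≤ Y) (hYZ : Y ≤ Z)
    (h1 : (X.subgroupOf Y).IsSubnormal) (h2 : (Y.subgroupOf Z).IsSubnormal) :
    (X.subgroupOf Z).IsSubnormal := by
  have h3 := subnormal_subgroupOf_subgroupOf hYZ h1
  exact Subgroup.IsSubnormal.trans (H := X.subgroupOf Z) (K := Y.subgroupOf Z)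
    (fun y hy => hXY hy) h3 h2

theorem subnormal_of_le_normalizer {G : Type*} [Group G] {X Y : Subgroup G} (hXY : X ≤ Y)
    (hn : Y ≤ Subgroup.normalizer (X : Set G)) : (X.subgroupOf Y).IsSubnormal :=
  ((Subgroup.normal_subgroupOf_iff_le_normalizer hXY).mpr hn).isSubnormal

theorem subnormal_of_subgroupOf_top {G : Type*} [Group G] {X : Subgroup G}
    (h : (X.subgroupOf ⊤).IsSubnormal) : X.IsSubnormal :=
  Subgroup.IsSubnormal.trans le_top h Subgroup.IsSubnormal.top

/-- Conjugation transports relative subnormality. -/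
theorem subnormal_conj {G : Type*} [Group G] (X Y : Subgroup G) (g : G)
    (h : (X.subgroupOf Y).IsSubnormal) :
    ((MulAut.conj g • X).subgroupOf (MulAut.conj g • Y)).IsSubnormal := by
  have h1 := h.map (f := (Subgroup.equivSMul (MulAut.conj g) Y).toMonoidHom)
    (Subgroup.equivSMul (MulAut.conj g) Y).surjective
  have hcoe : ∀ b : Y, ((Subgroup.equivSMul (MulAut.conj g) Y b : ↥(MulAut.conj g • Y)) : G) =
      g * (b : G) * g⁻¹ := fun b => rfl
  have h2 : (X.subgroupOf Y).map (Subgroup.equivSMul (MulAut.conj g) Y).toMonoidHom =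
      (MulAut.conj g • X).subgroupOf (MulAut.conj g • Y) := by
    ext y
    constructor
    · rintro ⟨b, hb, rfl⟩
      rw [Subgroup.mem_subgroupOf, mem_conj_smul]
      have e : g⁻¹ * (g * (b : G) * g⁻¹) * g = b := by group
      have hb' : (b : G) ∈ X := hb
      show g⁻¹ * ((Subgroup.equivSMul (MulAut.conj g) Y b : ↥(MulAut.conj g • Y)) : G) * g ∈ X
      rw [hcoe, e]; exact hb'
    · intro hy
      rw [Subgroup.mem_subgroupOf, mem_conj_smul] at hy
      have hyY : g⁻¹ * (y : G) * g ∈ Y := by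
        have := y.2
        rw [mem_conj_smul] at this; exact this
      refine ⟨⟨g⁻¹ * (y : G) * g, hyY⟩, Subgroup.mem_subgroupOf.mpr hy, ?_⟩
      apply Subtype.ext
      show ((Subgroup.equivSMul (MulAut.conj g) Y ⟨g⁻¹ * (y : G) * g, hyY⟩ :
        ↥(MulAut.conj g • Y)) : G) = y
      rw [hcoe]; group
  rw [h2] at h1; exact h1

/-- A subnormal, non-normal subgroup has a conjugate different from itself inside its
normalizer. -/
theorem exists_conj_le_normalizer {K : Type*} [Group K] [Finite K] (S : Subgroup K)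
    (hS : S.IsSubnormal) (hn : ¬ S.Normal) :
    ∃ x : K, MulAut.conj x • S ≠ S ∧ MulAut.conj x • S ≤ Subgroup.normalizer (S : Set K) := by
  obtain ⟨n, f, hmono, hnorm, h0, hn'⟩ := hS.exists_chain
  have hex : ∃ j, f j ≤ Subgroup.normalizer (S : Set K) ∧
      ¬ f (j + 1) ≤ Subgroup.normalizer (S : Set K) := by
    by_contra hcon
    push Not at hcon
    have hall : ∀ j, f j ≤ Subgroup.normalizer (S : Set K) := by
      intro j
      induction j with
      | zero => rw [h0]; exact Subgroup.le_normalizer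
      | succ j ih => exact hcon j ih
    apply hn
    rw [← Subgroup.normalizer_eq_top_iff, eq_top_iff, ← hn']
    exact hall n
  obtain ⟨j, hj1, hj2⟩ := hex
  obtain ⟨x, hx1, hx2⟩ := SetLike.not_le_iff_exists.mp hj2
  refine ⟨x, ?_, ?_⟩
  · intro h
    apply hx2
    apply mem_normalizer_of_conj_mem
    intro s hs
    have h3 : x * s * x⁻¹ ∈ MulAut.conj x • S := by
      rw [mem_conj_smul]
      have e : x⁻¹ * (x * s * x⁻¹) * x = s := by group
      rw [e]; exact hs
    rw [h] at h3; exact h3
  · refine le_trans ?_ hj1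
    intro y hy
    rw [mem_conj_smul] at hy
    have hSj : S ≤ f j := by rw [← h0]; exact hmono (Nat.zero_le j)
    have h1 : x⁻¹ * y * x ∈ f j := hSj hy
    have hle : f j ≤ f (j + 1) := hmono (Nat.le_succ j)
    have hnn := (Subgroup.normal_subgroupOf_iff_le_normalizer hle).mp (hnorm j)
    have h2 := conj_mem_of_mem_normalizer (hnn hx1) h1
    have e : x * (x⁻¹ * y * x) * x⁻¹ = y := by group
    rw [e] at h2; exact h2

theorem exists_conj_le_normalizer_rel {G : Type*} [Group G] [Finite G] (S K : Subgroup G)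
    (hSK : S ≤ K) (hS : (S.subgroupOf K).IsSubnormal)
    (hn : ¬ K ≤ Subgroup.normalizer (S : Set G)) :
    ∃ x ∈ K, MulAut.conj x • S ≠ S ∧ MulAut.conj x • S ≤ Subgroup.normalizer (S : Set G) := by
  have hn' : ¬ (S.subgroupOf K).Normal :=
    fun h => hn ((Subgroup.normal_subgroupOf_iff_le_normalizer hSK).mp h)
  obtain ⟨x, hx1, hx2⟩ := exists_conj_le_normalizer (S.subgroupOf K) hS hn'
  refine ⟨x, x.2, ?_, ?_⟩
  · intro h
    apply hx1
    ext y
    rw [mem_conj_smul, Subgroup.mem_subgroupOf, Subgroup.mem_subgroupOf]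
    have h3 : (y : G) ∈ MulAut.conj (x : G) • S ↔ (y : G) ∈ S := by rw [h]
    rw [mem_conj_smul] at h3
    exact h3
  · intro z hz
    rw [mem_conj_smul] at hz
    have hzK : z ∈ K := by
      have e : z = (x : G) * ((x : G)⁻¹ * z * x) * (x : G)⁻¹ := by group
      rw [e]; exact K.mul_mem (K.mul_mem x.2 (hSK hz)) (K.inv_mem x.2)
    have hz' : (⟨z, hzK⟩ : K) ∈ MulAut.conj x • S.subgroupOf K := by
      rw [mem_conj_smul, Subgroup.mem_subgroupOf]; exact hz
    have h3 := hx2 hz'
    apply mem_normalizer_of_conj_mem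
    intro s hs
    have h4 := (Subgroup.mem_normalizer_iff.mp h3 ⟨s, hSK hs⟩).mp (Subgroup.mem_subgroupOf.mpr hs)
    exact Subgroup.mem_subgroupOf.mp h4

/-- A minimal normal subgroup of `N` normalizes every subnormal subgroup of `N`. -/
theorem minimal_normal_le_normalizer {G : Type*} [Group G] [Finite G] :
    ∀ (n : ℕ) (N H M : Subgroup G), Nat.card N = n → H ≤ N → (H.subgroupOf N).IsSubnormal →
      M ≤ N → N ≤ Subgroup.normalizer (M : Set G) →
      (∀ M₂ : Subgroup G, M₂ ≤ M → N ≤ Subgroup.normalizer (M₂ : Set G) → M₂ = ⊥ ∨ M₂ = M) →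
      M ≤ Subgroup.normalizer (H : Set G) := by
  intro n
  induction n using Nat.strong_induction_on with
  | _ n ih =>
  intro N H M hcard hHN hHsub hMN hNM hmin
  by_cases htop : H.subgroupOf N = ⊤
  · have h1 : N ≤ H := Subgroup.subgroupOf_eq_top.mp htop
    have hHN' : H = N := le_antisymm hHN h1
    rw [hHN']; exact hMN.trans Subgroup.le_normalizer
  · obtain ⟨K, hKn, hHK, hKtop⟩ := hHsub.exists_normal_and_le_and_lt_top_of_ne htop
    have hN₁N : K.map N.subtype ≤ N := Subgroup.map_subtype_le K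
    have hmemK : ∀ x : G, x ∈ K.map N.subtype ↔ ∃ h : x ∈ N, (⟨x, h⟩ : N) ∈ K := by
      intro x
      constructor
      · rintro ⟨y, hy, rfl⟩
        exact ⟨y.2, hy⟩
      · rintro ⟨h, hx⟩
        exact ⟨⟨x, h⟩, hx, rfl⟩
    generalize K.map N.subtype = N₁ at hN₁N hmemK
    have hN₁ne : N₁ ≠ N := by
      intro h
      apply hKtop.ne
      rw [eq_top_iff]
      intro x _
      have hx1 : (x : G) ∈ N₁ := by rw [h]; exact x.2
      obtain ⟨_, hx⟩ := (hmemK _).mp hx1
      exact hx
    have hHN₁ : H ≤ N₁ := by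
      intro x hx
      exact (hmemK x).mpr ⟨hHN hx, hHK (Subgroup.mem_subgroupOf.mpr hx)⟩
    have hNN₁ : N ≤ Subgroup.normalizer (N₁ : Set G) := by
      intro g hg
      apply mem_normalizer_of_conj_mem
      intro x hx
      obtain ⟨hxN, hxK⟩ := (hmemK x).mp hx
      refine (hmemK _).mpr ⟨N.mul_mem (N.mul_mem hg hxN) (N.inv_mem hg), ?_⟩
      exact hKn.conj_mem ⟨x, hxN⟩ hxK ⟨g, hg⟩
    have hcard₁ : Nat.card N₁ < n := by
      rw [← hcard]; exact card_lt_of_lt hN₁N hN₁ne
    have hHsub₁ : (H.subgroupOf N₁).IsSubnormal := subnormal_restrict hN₁N hHsub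
    by_cases hinf : M ⊓ N₁ = ⊥
    · intro m hm
      apply mem_normalizer_of_conj_mem
      intro x hx
      have hxN₁ := hHN₁ hx
      have h1 : m * x * m⁻¹ * x⁻¹ ∈ M ⊓ N₁ := by
        refine Subgroup.mem_inf.mpr ⟨?_, ?_⟩
        · have h2 : x * m⁻¹ * x⁻¹ ∈ M :=
            conj_mem_of_mem_normalizer (hNM (hN₁N hxN₁)) (M.inv_mem hm)
          have e : m * x * m⁻¹ * x⁻¹ = m * (x * m⁻¹ * x⁻¹) := by group
          rw [e]; exact M.mul_mem hm h2
        · have h2 : m * x * m⁻¹ ∈ N₁ := conj_mem_of_mem_normalizer (hNN₁ (hMN hm)) hxN₁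
          exact N₁.mul_mem h2 (N₁.inv_mem hxN₁)
      rw [hinf, Subgroup.mem_bot] at h1
      have e : m * x * m⁻¹ = x := by
        have e2 : m * x * m⁻¹ = (m * x * m⁻¹ * x⁻¹) * x := by group
        rw [e2, h1, one_mul]
      rw [e]; exact hx
    · have hMN₁ : M ≤ N₁ := by
        have h1 : N ≤ Subgroup.normalizer ((M ⊓ N₁ : Subgroup G) : Set G) := by
          intro g hg
          apply mem_normalizer_of_conj_mem
          intro x hx
          have hx' := Subgroup.mem_inf.mp hx
          exact Subgroup.mem_inf.mpr ⟨conj_mem_of_mem_normalizer (hNM hg) hx'.1,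
            conj_mem_of_mem_normalizer (hNN₁ hg) hx'.2⟩
        rcases hmin (M ⊓ N₁) inf_le_left h1 with h | h
        · exact absurd h hinf
        · rw [← h]; exact inf_le_right
      have hMbot : M ≠ ⊥ := by
        intro h; apply hinf; rw [h]; exact bot_inf_eq _
      haveI : Nonempty {D : Subgroup G // D ≤ M ∧ N₁ ≤ Subgroup.normalizer (D : Set G) ∧ D ≠ ⊥} :=
        ⟨⟨M, le_rfl, hN₁N.trans hNM, hMbot⟩⟩
      obtain ⟨⟨M₁, hM₁M, hM₁n, hM₁bot⟩, hM₁min⟩ := Finite.exists_min
        (fun D : {D : Subgroup G // D ≤ M ∧ N₁ ≤ Subgroup.normalizer (D : Set G) ∧ D ≠ ⊥} =>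
          Nat.card (D : Subgroup G))
      have hmin₁ : ∀ D : Subgroup G, D ≤ M → N₁ ≤ Subgroup.normalizer (D : Set G) → D ≠ ⊥ →
          Nat.card M₁ ≤ Nat.card D := fun D h1 h2 h3 => hM₁min ⟨D, h1, h2, h3⟩
      -- each N-conjugate of M₁ normalizes H
      have hconj : ∀ g ∈ N, MulAut.conj g • M₁ ≤ Subgroup.normalizer (H : Set G) := by
        intro g hg
        have hgM : MulAut.conj g • M₁ ≤ M := by
          intro y hy
          rw [mem_conj_smul] at hy
          have h2 := conj_mem_of_mem_normalizer (hNM hg) (hM₁M hy)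
          have e : g * (g⁻¹ * y * g) * g⁻¹ = y := by group
          rw [e] at h2; exact h2
        have hgn : N₁ ≤ Subgroup.normalizer ((MulAut.conj g • M₁ : Subgroup G) : Set G) := by
          intro x hx
          apply mem_normalizer_of_conj_mem
          intro y hy
          rw [mem_conj_smul] at hy ⊢
          have hx' : g⁻¹ * x * g⁻¹⁻¹ ∈ N₁ :=
            conj_mem_of_mem_normalizer (hNN₁ (N.inv_mem hg)) hx
          have h2 := conj_mem_of_mem_normalizer (hM₁n hx') hy
          have e : g⁻¹ * x * g⁻¹⁻¹ * (g⁻¹ * y * g) * (g⁻¹ * x * g⁻¹⁻¹)⁻¹ =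
              g⁻¹ * (x * y * x⁻¹) * g := by group
          rw [e] at h2; exact h2
        have hgbot : (MulAut.conj g • M₁ : Subgroup G) ≠ ⊥ := by
          intro h
          apply hM₁bot
          have h3 := card_conj_smul g M₁
          rw [h, Subgroup.card_bot] at h3
          exact Subgroup.card_eq_one.mp h3.symm
        refine ih (Nat.card N₁) hcard₁ N₁ H (MulAut.conj g • M₁) rfl hHN₁ hHsub₁
          (hgM.trans hMN₁) hgn ?_
        intro M₂ hM₂ hM₂n
        by_cases hb : M₂ = ⊥
        · exact Or.inl hb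
        · right
          have h4 := hmin₁ M₂ (hM₂.trans hgM) hM₂n hb
          rw [← card_conj_smul g M₁] at h4
          exact Subgroup.eq_of_le_of_card_ge hM₂ h4
      -- the N-closure of M₁ is M
      have hC : Subgroup.closure {y : G | ∃ g ∈ N, ∃ m ∈ M₁, y = g * m * g⁻¹} = M := by
        have hCM : Subgroup.closure {y : G | ∃ g ∈ N, ∃ m ∈ M₁, y = g * m * g⁻¹} ≤ M := by
          rw [Subgroup.closure_le]
          rintro y ⟨g, hg, m, hm, rfl⟩
          exact conj_mem_of_mem_normalizer (hNM hg) (hM₁M hm)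
        have hCn : N ≤ Subgroup.normalizer
            ((Subgroup.closure {y : G | ∃ g ∈ N, ∃ m ∈ M₁, y = g * m * g⁻¹} : Subgroup G) :
              Set G) := by
          intro x hx
          apply mem_normalizer_of_conj_mem
          apply conj_mem_closure
          rintro y ⟨g, hg, m, hm, rfl⟩
          apply Subgroup.subset_closure
          refine ⟨x * g, N.mul_mem hx hg, m, hm, ?_⟩
          group
        rcases hmin _ hCM hCn with h | h
        · exfalso
          apply hM₁bot
          rw [eq_bot_iff, ← h]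
          intro m hm
          apply Subgroup.subset_closure
          exact ⟨1, N.one_mem, m, hm, by group⟩
        · exact h
      rw [← hC, Subgroup.closure_le]
      rintro y ⟨g, hg, m, hm, rfl⟩
      apply hconj g hg
      rw [mem_conj_smul]
      have e : g⁻¹ * (g * m * g⁻¹) * g = m := by group
      rw [e]; exact hm

theorem mem_normalizer_of_conj_smul_eq {G : Type*} [Group G] [Finite G] {L : Subgroup G} {m : G}
    (h : MulAut.conj m • L = L) : m ∈ Subgroup.normalizer (L : Set G) := by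
  apply mem_normalizer_of_conj_mem
  intro x hx
  have h3 : m * x * m⁻¹ ∈ MulAut.conj m • L := by
    rw [mem_conj_smul]
    have e : m⁻¹ * (m * x * m⁻¹) * m = x := by group
    rw [e]; exact hx
  rw [h] at h3; exact h3

/-- The join of two subnormal subgroups of a finite group is subnormal. -/
theorem isSubnormal_sup : ∀ (n : ℕ) (G : Type u) [Group G] [Finite G] (H K : Subgroup G),
    Nat.card G = n → H.IsSubnormal → K.IsSubnormal → (H ⊔ K).IsSubnormal := by
  intro n
  induction n using Nat.strong_induction_on with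
  | _ n ih =>
  intro G _ _ H K hn hH hK
  by_cases hG : (⊥ : Subgroup G) = ⊤
  · have h1 : H ⊔ K = ⊤ := by
      rw [← hG]; exact eq_bot_iff.mpr (by rw [hG]; exact le_top)
    rw [h1]; exact Subgroup.IsSubnormal.top
  · obtain ⟨M, hMn, hMbot, hMmin⟩ := exists_minimal_normal hG
    haveI := hMn
    have key : ∀ X : Subgroup G, X.IsSubnormal → M ≤ Subgroup.normalizer (X : Set G) := by
      intro X hX
      refine minimal_normal_le_normalizer (Nat.card (⊤ : Subgroup G)) ⊤ X M rfl le_top
        hX.subgroupOf le_top ?_ ?_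
      · rw [Subgroup.normalizer_eq_top]
      · intro M₂ hM₂ hn₂
        have h2 : M₂.Normal := Subgroup.normalizer_eq_top_iff.mp (top_le_iff.mp hn₂)
        exact hMmin M₂ h2 hM₂
    have hMH := key H hH
    have hMK := key K hK
    have hMHK : M ≤ Subgroup.normalizer ((H ⊔ K : Subgroup G) : Set G) := by
      intro m hm
      apply mem_normalizer_of_conj_smul_eq
      rw [Subgroup.smul_sup, conj_smul_eq_of_le_normalizer (hMH hm),
        conj_smul_eq_of_le_normalizer (hMK hm)]
    have hcard : Nat.card (G ⧸ M) < n := by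
      rw [← hn]; exact card_quotient_lt M hMbot
    have h1 := ih (Nat.card (G ⧸ M)) hcard (G ⧸ M) (H.map (QuotientGroup.mk' M))
      (K.map (QuotientGroup.mk' M)) rfl (hH.map (QuotientGroup.mk'_surjective M))
      (hK.map (QuotientGroup.mk'_surjective M))
    rw [← Subgroup.map_sup] at h1
    have h2 := h1.comap (QuotientGroup.mk' M)
    rw [Subgroup.comap_map_eq, QuotientGroup.ker_mk'] at h2
    exact Subgroup.IsSubnormal.step (H ⊔ K) (H ⊔ K ⊔ M) le_sup_left h2
      ((Subgroup.normal_subgroupOf_iff_le_normalizer le_sup_left).mpr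
        (sup_le Subgroup.le_normalizer hMHK))

/-- `M` is a maximal proper subgroup of `N`. -/
def IsMaxIn {G : Type*} [Group G] (M N : Subgroup G) : Prop :=
  M ≤ N ∧ M ≠ N ∧ ∀ L : Subgroup G, M ≤ L → L ≤ N → L = M ∨ L = N

theorem exists_isMaxIn {G : Type*} [Group G] [Finite G] (S N : Subgroup G) (hSN : S ≤ N)
    (hne : S ≠ N) : ∃ M, S ≤ M ∧ IsMaxIn M N := by
  haveI : Nonempty {M : Subgroup G // S ≤ M ∧ M ≤ N ∧ M ≠ N} := ⟨⟨S, le_rfl, hSN, hne⟩⟩
  obtain ⟨⟨M, hSM, hMN, hMne⟩, hmax⟩ := Finite.exists_max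
    (fun M : {M : Subgroup G // S ≤ M ∧ M ≤ N ∧ M ≠ N} => Nat.card (M : Subgroup G))
  refine ⟨M, hSM, hMN, hMne, ?_⟩
  intro L hML hLN
  by_cases hL : L = N
  · exact Or.inr hL
  · left
    have h1 := hmax ⟨L, hSM.trans hML, hLN, hL⟩
    exact (Subgroup.eq_of_le_of_card_ge hML h1).symm

/-- Wielandt's zipper lemma. -/
theorem zipper {G : Type*} [Group G] [Finite G] :
    ∀ (d : ℕ) (N S : Subgroup G), Nat.card N - Nat.card S = d → S ≤ N →
      ¬ (S.subgroupOf N).IsSubnormal →
      (∀ H : Subgroup G, S ≤ H → H ≤ N → H ≠ N → (S.subgroupOf H).IsSubnormal) →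
      ∀ M₁ M₂ : Subgroup G, S ≤ M₁ → IsMaxIn M₁ N → S ≤ M₂ → IsMaxIn M₂ N → M₁ = M₂ := by
  intro d
  induction d using Nat.strong_induction_on with
  | _ d ih =>
  intro N S hd hSN hnot hprop
  have hnn : ¬ N ≤ Subgroup.normalizer (S : Set G) :=
    fun h => hnot (subnormal_of_le_normalizer hSN h)
  have hN₀ne : N ⊓ Subgroup.normalizer (S : Set G) ≠ N :=
    fun h => hnn (h.ge.trans inf_le_right)
  obtain ⟨M₀, hM₀, hM₀max⟩ :=
    exists_isMaxIn (N ⊓ Subgroup.normalizer (S : Set G)) N inf_le_left hN₀ne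
  have claim : ∀ K : Subgroup G, S ≤ K → IsMaxIn K N → K = M₀ := by
    intro K hSK hK
    obtain ⟨hKN, hKne, hKmax⟩ := hK
    by_cases hKn : K ≤ Subgroup.normalizer (S : Set G)
    · rcases hKmax M₀ ((le_inf hKN hKn).trans hM₀) hM₀max.1 with h | h
      · exact h.symm
      · exact absurd h hM₀max.2.1
    · have hSsubK := hprop K hSK hKN hKne
      obtain ⟨x, hxK, hx1, hx2⟩ := exists_conj_le_normalizer_rel S K hSK hSsubK hKn
      have hxSK : MulAut.conj x • S ≤ K := by
        intro y hy
        rw [mem_conj_smul] at hy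
        have e : y = x * (x⁻¹ * y * x) * x⁻¹ := by group
        rw [e]; exact K.mul_mem (K.mul_mem hxK (hSK hy)) (K.inv_mem hxK)
      have hTK : S ⊔ MulAut.conj x • S ≤ K := sup_le hSK hxSK
      have hTn : S ⊔ MulAut.conj x • S ≤ Subgroup.normalizer (S : Set G) :=
        sup_le Subgroup.le_normalizer hx2
      have hTM₀ : S ⊔ MulAut.conj x • S ≤ M₀ := (le_inf (hTK.trans hKN) hTn).trans hM₀
      have hST : S ≠ S ⊔ MulAut.conj x • S := by
        intro h
        apply hx1
        have h1 : MulAut.conj x • S ≤ S := le_sup_right.trans h.ge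
        exact Subgroup.eq_of_le_of_card_ge h1 (card_conj_smul x S).ge
      have hcardT : Nat.card S < Nat.card (S ⊔ MulAut.conj x • S : Subgroup G) :=
        card_lt_of_lt le_sup_left hST
      have hcardTN : Nat.card (S ⊔ MulAut.conj x • S : Subgroup G) ≤ Nat.card N :=
        Subgroup.card_le_of_le (hTK.trans hKN)
      have hd' : Nat.card N - Nat.card (S ⊔ MulAut.conj x • S : Subgroup G) < d := by omega
      have hTnot : ¬ ((S ⊔ MulAut.conj x • S).subgroupOf N).IsSubnormal := by
        intro h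
        apply hnot
        exact subnormal_trans le_sup_left (hTK.trans hKN)
          (subnormal_of_le_normalizer le_sup_left hTn) h
      have hTprop : ∀ H : Subgroup G, S ⊔ MulAut.conj x • S ≤ H → H ≤ N → H ≠ N →
          ((S ⊔ MulAut.conj x • S).subgroupOf H).IsSubnormal := by
        intro H hTH hHN hHne
        have hSH : S ≤ H := le_sup_left.trans hTH
        have hxSH : MulAut.conj x • S ≤ H := le_sup_right.trans hTH
        have h1 : (S.subgroupOf H).IsSubnormal := hprop H hSH hHN hHne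
        have hxN : x ∈ N := hKN hxK
        have hSH' : S ≤ MulAut.conj x⁻¹ • H := by
          intro s hs
          rw [mem_conj_smul, inv_inv]
          apply hxSH
          rw [mem_conj_smul]
          have e : x⁻¹ * (x * s * x⁻¹) * x = s := by group
          rw [e]; exact hs
        have hH'N : MulAut.conj x⁻¹ • H ≤ N := by
          intro y hy
          rw [mem_conj_smul, inv_inv] at hy
          have e : y = x⁻¹ * (x * y * x⁻¹) * x := by group
          rw [e]; exact N.mul_mem (N.mul_mem (N.inv_mem hxN) (hHN hy)) hxN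
        have hH'ne : MulAut.conj x⁻¹ • H ≠ N := by
          intro h
          apply hHne
          apply Subgroup.eq_of_le_of_card_ge hHN
          rw [← h, card_conj_smul]
        have h2 := subnormal_conj S (MulAut.conj x⁻¹ • H) x (hprop _ hSH' hH'N hH'ne)
        have e2 : MulAut.conj x • (MulAut.conj x⁻¹ • H) = H := by
          rw [← conj_mul_smul, mul_inv_cancel, map_one, one_smul]
        rw [e2] at h2
        have h3 := isSubnormal_sup (Nat.card H) H (S.subgroupOf H)
          ((MulAut.conj x • S).subgroupOf H) rfl h1 h2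
        rw [← Subgroup.subgroupOf_sup hSH hxSH] at h3
        exact h3
      exact ih _ hd' N (S ⊔ MulAut.conj x • S) rfl (hTK.trans hKN) hTnot hTprop K M₀ hTK
        ⟨hKN, hKne, hKmax⟩ hTM₀ hM₀max
  intro M₁ M₂ h1 h2 h3 h4
  rw [claim M₁ h1 h2, claim M₂ h3 h4]

/-- Wielandt's subnormality criterion, relative form. -/
theorem wielandt_rel {G : Type*} [Group G] [Finite G] :
    ∀ (n : ℕ) (N A : Subgroup G), Nat.card N = n → A ≤ N →
      (∀ g ∈ N, (A.subgroupOf (A ⊔ MulAut.conj g • A)).IsSubnormal) →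
      (A.subgroupOf N).IsSubnormal := by
  intro n
  induction n using Nat.strong_induction_on with
  | _ n ih =>
  intro N A hn hAN hpair
  by_contra hnot
  have hprop : ∀ H : Subgroup G, A ≤ H → H ≤ N → H ≠ N → (A.subgroupOf H).IsSubnormal := by
    intro H hAH hHN hHne
    exact ih (Nat.card H) (by rw [← hn]; exact card_lt_of_lt hHN hHne) H A rfl hAH
      (fun g hg => hpair g (hHN hg))
  have hAne : A ≠ N := by
    intro h
    apply hnot
    have h1 : A.subgroupOf N = ⊤ := Subgroup.subgroupOf_eq_top.mpr h.ge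
    rw [h1]; exact Subgroup.IsSubnormal.top
  obtain ⟨M, hAM, hMmax⟩ := exists_isMaxIn A N hAN hAne
  have hJ : ∀ g ∈ N, A ⊔ MulAut.conj g • A ≤ M := by
    intro g hg
    have hgA : MulAut.conj g • A ≤ N := by
      intro y hy
      rw [mem_conj_smul] at hy
      have e : y = g * (g⁻¹ * y * g) * g⁻¹ := by group
      rw [e]; exact N.mul_mem (N.mul_mem hg (hAN hy)) (N.inv_mem hg)
    have hJN : A ⊔ MulAut.conj g • A ≤ N := sup_le hAN hgA
    have hJne : A ⊔ MulAut.conj g • A ≠ N := by
      intro h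
      apply hnot
      have h1 := hpair g hg
      rw [h] at h1; exact h1
    obtain ⟨M', hJM', hM'max⟩ := exists_isMaxIn _ N hJN hJne
    have h2 := zipper _ N A rfl hAN hnot hprop M M' hAM hMmax (le_sup_left.trans hJM') hM'max
    rw [h2]; exact hJM'
  have hCM : Subgroup.closure {y : G | ∃ g ∈ N, ∃ a ∈ A, y = g * a * g⁻¹} ≤ M := by
    rw [Subgroup.closure_le]
    rintro y ⟨g, hg, a, ha, rfl⟩
    apply hJ g hg
    apply Subgroup.mem_sup_right
    rw [mem_conj_smul]
    have e : g⁻¹ * (g * a * g⁻¹) * g = a := by group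
    rw [e]; exact ha
  have hCn : N ≤ Subgroup.normalizer
      ((Subgroup.closure {y : G | ∃ g ∈ N, ∃ a ∈ A, y = g * a * g⁻¹} : Subgroup G) :
        Set G) := by
    intro x hx
    apply mem_normalizer_of_conj_mem
    apply conj_mem_closure
    rintro y ⟨g, hg, a, ha, rfl⟩
    apply Subgroup.subset_closure
    refine ⟨x * g, N.mul_mem hx hg, a, ha, ?_⟩
    group
  have hAC : A ≤ Subgroup.closure {y : G | ∃ g ∈ N, ∃ a ∈ A, y = g * a * g⁻¹} := by
    intro a ha
    apply Subgroup.subset_closure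
    exact ⟨1, N.one_mem, a, ha, by group⟩
  have hCN := hCM.trans hMmax.1
  have hCne : Subgroup.closure {y : G | ∃ g ∈ N, ∃ a ∈ A, y = g * a * g⁻¹} ≠ N :=
    fun h => hMmax.2.1 (le_antisymm hMmax.1 (h.ge.trans hCM))
  apply hnot
  exact subnormal_trans hAC hCN (hprop _ hAC hCN hCne) (subnormal_of_le_normalizer hCN hCn)

/-- Wielandt's subnormality criterion. -/
theorem wielandt {G : Type*} [Group G] [Finite G] (A : Subgroup G)
    (h : ∀ g : G, (A.subgroupOf (A ⊔ MulAut.conj g • A)).IsSubnormal) : A.IsSubnormal :=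
  subnormal_of_subgroupOf_top (wielandt_rel _ ⊤ A rfl le_top (fun g _ => h g))

end Cfsg.Agent.Lib.Lead
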